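import Mathlib
import Cfsg.Agent.W2.L43Pres
import Cfsg.Agent.Rec.U43.Main

/-!
An involution whose centraliser is the Weyl group of type `F₄`: letters, subgroups and facts about the centraliser.
-/

set_option autoImplicit false
set_option synthInstance.maxSize 100000
set_option synthInstance.maxHeartbeats 1000000
set_option linter.unusedSectionVars false

namespace Cfsg.Agent.W2.L43

open Cfsg.Agent.Spor Cfsg.Agent.Rec Cfsg.Agent.Inv.Fz Subgroup

universe u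

variable {G : Type u} [Group G]

/-- The letters: `a, b, c, d` generate the centraliser of `z`. -/
structure St (G : Type u) [Group G] where
  (a b c d z : G)
  C : Cod A G
  rep4 : C.RepL c4 [a, b, c, d]
  hz : (a * b * c * d) ^ 6 = z
  cent : centralizer {z} = clos [a, b, c, d]

namespace St

variable (s : St G)

/-- A reflection conjugate to `c`. -/
def e : G := s.a * s.b * s.c * s.b * s.a
/-- A reflection conjugate to `b`. -/
def f : G := s.d * s.c * s.b * s.c * s.d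
/-- The centre of `⟨b, c⟩`. -/
def z1 : G := s.b * s.c * s.b * s.c
/-- The centre of `⟨e, f⟩`. -/
def z2 : G := s.e * s.f * s.e * s.f
/-- An element of order four. -/
def j : G := s.b * s.c * s.z2
/-- An involution interchanging `z₁` and `z₂`. -/
def t : G := s.d * s.c * s.e * s.d
/-- The fourth point. -/
def ph : G := s.z * (s.e * s.f * s.e)
/-- The first point. -/
def p1 : G := s.z * s.b
/-- The second point. -/
def p2 : G := s.c * s.p1 * s.c⁻¹
/-- The third point. -/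
def p3 : G := s.d * s.p2 * s.d⁻¹
/-- The negative of `c`. -/
def zc : G := s.z * s.c
/-- An involution of type `A₁ × A₁`. -/
def ps : G := s.c * s.ph
/-- A generator of `Q`. -/
def q1 : G := s.d * s.z1 * s.d
/-- A generator of `Q`. -/
def q2 : G := s.a * s.z1 * s.a
/-- A generator of `Q`. -/
def q3 : G := s.a * s.q1 * s.a

/-- All named elements. -/
abbrev l : List G := [s.a, s.b, s.c, s.d, s.z, s.e, s.f, s.z1, s.z2, s.j, s.t, s.ph, s.p1, s.p2, s.p3, s.zc, s.ps,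
  s.q1, s.q2, s.q3]

theorem rep : s.C.RepL cX s.l := by
  have h := s.rep4
  have hz : s.C.Rep (nth 0 cX 4) s.z := s.hz ▸ h.term ((s.a * s.b * s.c * s.d) ^ 6) (by decide +kernel)
  have he : s.C.Rep (nth 0 cX 5) s.e := h.term (s.a * s.b * s.c * s.b * s.a) (by decide +kernel)
  have hf : s.C.Rep (nth 0 cX 6) s.f := h.term (s.d * s.c * s.b * s.c * s.d) (by decide +kernel)
  have h1 := hz.cons (he.cons (hf.cons h))
  have z1 : s.C.Rep (nth 0 cX 7) s.z1 := h1.term (s.b * s.c * s.b * s.c) (by decide +kernel)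
  have z2 : s.C.Rep (nth 0 cX 8) s.z2 := h1.term (s.e * s.f * s.e * s.f) (by decide +kernel)
  have ph : s.C.Rep (nth 0 cX 11) s.ph := h1.term (s.z * (s.e * s.f * s.e)) (by decide +kernel)
  have p1 : s.C.Rep (nth 0 cX 12) s.p1 := h1.term (s.z * s.b) (by decide +kernel)
  have h2 := z1.cons (z2.cons (ph.cons (p1.cons h1)))
  have p2 : s.C.Rep (nth 0 cX 13) s.p2 := h2.term (s.c * s.p1 * s.c⁻¹) (by decide +kernel)
  have q1 : s.C.Rep (nth 0 cX 17) s.q1 := h2.term (s.d * s.z1 * s.d) (by decide +kernel)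
  have h3 := p2.cons (q1.cons h2)
  exact (h.nth 0).cons <| (h.nth 1).cons <| (h.nth 2).cons <| (h.nth 3).cons <| hz.cons <| he.cons <| hf.cons <|
    z1.cons <| z2.cons <| (h3.term (s.b * s.c * s.z2) (by decide +kernel)).cons <|
    (h3.term (s.d * s.c * s.e * s.d) (by decide +kernel)).cons <| ph.cons <| p1.cons <| p2.cons <|
    (h3.term (s.d * s.p2 * s.d⁻¹) (by decide +kernel)).cons <| (h3.term (s.z * s.c) (by decide +kernel)).cons <|
    (h3.term (s.c * s.ph) (by decide +kernel)).cons <| q1.cons <|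
    (h3.term (s.a * s.z1 * s.a) (by decide +kernel)).cons <|
    (h3.term (s.a * s.q1 * s.a) (by decide +kernel)).cons Cod.repL_nil

/-- The centraliser. -/
def H : Subgroup G := clos [s.a, s.b, s.c, s.d]
/-- Its largest normal 2-subgroup. -/
def Q : Subgroup G := clos [s.z1, s.z2, s.q1, s.q2, s.q3]
/-- A Sylow 2-subgroup. -/
def T : Subgroup G := clos [s.b, s.c, s.e, s.f, s.t]
/-- The centraliser of `z₁` in `H`. -/
def J : Subgroup G := clos [s.b, s.c, s.e, s.f]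
/-- The first group of order sixteen. -/
def F : Subgroup G := clos [s.b, s.z1, s.z2, s.q1]
/-- The second group of order sixteen. -/
def F2 : Subgroup G := clos [s.c, s.z1, s.z2, s.q2]
/-- The intersection of `F` and `Q`. -/
def D : Subgroup G := clos [s.z1, s.z2, s.q1]
/-- The intersection of `F2` and `Q`. -/
def D2 : Subgroup G := clos [s.z1, s.z2, s.q2]
/-- The product of `Q` and `F`. -/
def M : Subgroup G := clos [s.b, s.z1, s.z2, s.q1, s.q2, s.q3]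
/-- A complement to `F` in its normaliser in `H`. -/
def R : Subgroup G := clos [s.c, s.d, s.e]
/-- The centraliser of `j` in `H`. -/
def J0 : Subgroup G := clos [s.j, s.e, s.f]
/-- The group generated by `j`. -/
def Z : Subgroup G := clos [s.j]
/-- Four points. -/
def P4 : Set G := {x | x ∈ [s.p1, s.p2, s.p3, s.ph]}
/-- Five points. -/
def P5 : Set G := {x | x ∈ [s.z, s.p1, s.p2, s.p3, s.ph]}

theorem gH : s.C.Lists H_t.dom s.H ∧ Nat.card s.H = 1152 := s.rep4.gen H_ok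
theorem gQ : s.C.Lists Q_t.dom s.Q ∧ Nat.card s.Q = 32 := (s.rep.pick [7, 8, 17, 18, 19]).gen Q_ok
theorem gT : s.C.Lists T_t.dom s.T ∧ Nat.card s.T = 128 := (s.rep.pick [1, 2, 5, 6, 10]).gen T_ok
theorem gJ : s.C.Lists J_t.dom s.J ∧ Nat.card s.J = 64 := (s.rep.pick [1, 2, 5, 6]).gen J_ok
theorem gF : s.C.Lists F_t.dom s.F ∧ Nat.card s.F = 16 := (s.rep.pick [1, 7, 8, 17]).gen F_ok
theorem gF2 : s.C.Lists F2_t.dom s.F2 ∧ Nat.card s.F2 = 16 := (s.rep.pick [2, 7, 8, 18]).gen F2_ok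
theorem gD : s.C.Lists D_t.dom s.D ∧ Nat.card s.D = 8 := (s.rep.pick [7, 8, 17]).gen D_ok
theorem gD2 : s.C.Lists D2_t.dom s.D2 ∧ Nat.card s.D2 = 8 := (s.rep.pick [7, 8, 18]).gen D2_ok
theorem gM : s.C.Lists M_t.dom s.M ∧ Nat.card s.M = 64 := (s.rep.pick [1, 7, 8, 17, 18, 19]).gen M_ok
theorem gR : s.C.Lists R_t.dom s.R ∧ Nat.card s.R = 24 := (s.rep.pick [2, 3, 5]).gen R_ok
theorem gJ0 : s.C.Lists J0_t.dom s.J0 ∧ Nat.card s.J0 = 32 := (s.rep.pick [9, 5, 6]).gen J0_ok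
theorem gZ : s.C.Lists Z_t.dom s.Z ∧ Nat.card s.Z = 4 := (s.rep.pick [9]).gen Z_ok
theorem gP4 : s.C.Lists (listDom ([12, 13, 14, 11].map (nth A.one cX))) s.P4 := (s.rep.pick [12, 13, 14, 11]).lists
theorem gP5 : s.C.Lists (listDom ([4, 12, 13, 14, 11].map (nth A.one cX))) s.P5 :=
  (s.rep.pick [4, 12, 13, 14, 11]).lists

theorem hL : s.C.ListsL [H_t.dom, Q_t.dom, T_t.dom, J_t.dom, F_t.dom, F2_t.dom, D_t.dom, D2_t.dom, M_t.dom, R_t.dom,
      J0_t.dom, Z_t.dom, listDom ([12, 13, 14, 11].map (nth A.one cX)),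
      listDom ([4, 12, 13, 14, 11].map (nth A.one cX))]
    [s.H, s.Q, s.T, s.J, s.F, s.F2, s.D, s.D2, s.M, s.R, s.J0, s.Z, s.P4, s.P5] :=
  s.gH.1.cons <| s.gQ.1.cons <| s.gT.1.cons <| s.gJ.1.cons <| s.gF.1.cons <| s.gF2.1.cons <| s.gD.1.cons <|
    s.gD2.1.cons <| s.gM.1.cons <| s.gR.1.cons <| s.gJ0.1.cons <| s.gZ.1.cons <| s.gP4.cons <|
    s.gP5.cons Cod.listsL_nil

theorem mem_H {x : G} (h : x * s.z = s.z * x) : x ∈ s.H := s.cent.le (mem_cen.2 h)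
theorem mem_H' {x : G} (h : x * s.z * x⁻¹ = s.z) : x ∈ s.H := s.cent.le (mem_cen'.2 h)
theorem cz {x : G} (h : x ∈ s.H) : x * s.z = s.z * x := mem_cen.1 (s.cent.ge h)
theorem cz' {x : G} (h : x ∈ s.H) : x * s.z * x⁻¹ = s.z := mem_cen'.1 (s.cent.ge h)

theorem sq : s.a * s.a = 1 ∧ s.b * s.b = 1 ∧ s.c * s.c = 1 ∧ s.d * s.d = 1 ∧ s.e * s.e = 1 ∧ s.f * s.f = 1 ∧
    s.z * s.z = 1 ∧ s.z1 * s.z1 = 1 ∧ s.z ≠ 1 := Cod.listsL_nil.decide s.rep (by decide +kernel)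
theorem inv : s.a⁻¹ = s.a ∧ s.b⁻¹ = s.b ∧ s.c⁻¹ = s.c ∧ s.d⁻¹ = s.d ∧ s.e⁻¹ = s.e ∧ s.f⁻¹ = s.f ∧ s.z⁻¹ = s.z :=
  Cod.listsL_nil.decide s.rep (by decide +kernel)
theorem le : s.Q ≤ s.H ∧ s.T ≤ s.H ∧ s.F ≤ s.T ∧ s.F2 ≤ s.T ∧ s.R ≤ s.H ∧ s.J ≤ s.T ∧ s.J0 ≤ s.J ∧ s.z ∈ s.F ∧
    s.z ∈ s.Q ∧ s.z ∈ s.J0 ∧ s.Z ≤ s.J0 := s.hL.decide s.rep (by decide +kernel)
theorem normQ : ∀ h ∈ s.H, ∀ q ∈ s.Q, h * q * h⁻¹ ∈ s.Q := by
  have : Finite s.Q := Nat.finite_of_card_ne_zero (by rw [s.gQ.2]; norm_num)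
  have h : ∀ q ∈ s.Q, s.a * q * s.a⁻¹ ∈ s.Q ∧ s.b * q * s.b⁻¹ ∈ s.Q ∧ s.c * q * s.c⁻¹ ∈ s.Q ∧
      s.d * q * s.d⁻¹ ∈ s.Q := s.hL.decide s.rep (by decide +kernel)
  refine fun g hg => le_normalizer_clos (fun x hx q hq => ?_) hg
  simp only [List.mem_cons, List.not_mem_nil, or_false] at hx
  rcases hx with rfl | rfl | rfl | rfl
  exacts [(h q hq).1, (h q hq).2.1, (h q hq).2.2.1, (h q hq).2.2.2]
theorem cls : ∀ x ∈ s.H, x * x = 1 → x = 1 ∨ ∃ h ∈ s.H, Let (h * x * h⁻¹) fun y =>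
    y = s.z ∨ y = s.z1 ∨ y = s.ps ∨ (y = s.b ∨ y = s.p1) ∨ y = s.c ∨ y = s.zc := s.hL.decide s.rep (by decide +kernel)

/-- Conjugate to `z`. -/
def Con (x : G) : Prop := ∃ g : G, g * s.z * g⁻¹ = x

variable {s}

theorem Con.conj {x : G} (h : s.Con x) (g : G) : s.Con (g * x * g⁻¹) := by
  obtain ⟨k, rfl⟩ := h
  exact ⟨g * k, by group⟩

theorem Con.of_conj {x g : G} (h : s.Con (g * x * g⁻¹)) : s.Con x := by simpa [mul_assoc] using h.conj g⁻¹

theorem Con.sq {x : G} (h : s.Con x) : x * x = 1 := by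
  obtain ⟨k, rfl⟩ := h
  exact conj_sq s.sq.2.2.2.2.2.2.1

theorem Con.ne {x : G} (h : s.Con x) : x ≠ 1 := by
  obtain ⟨k, rfl⟩ := h
  exact fun e => s.sq.2.2.2.2.2.2.2.2 (conj_eq_one.1 e)

theorem con_z : s.Con s.z := ⟨1, by simp⟩

end St

theorem cod4 {a b c d : G} (hs : Sat rH4 [a, b, c, d]) (hz : (a * b * c * d) ^ 6 ≠ 1) :
    ∃ C : Cod A G, C.RepL c4 [a, b, c, d] := by
  have h₀ := repL_permOf A_ok c4_ok
  generalize List.map _ c4 = e₀ at h₀
  have hQ := (h₀.words [[1, 2, 1, 2], [0, 1, 2, 1, 0, 3, 2, 1, 2, 3, 0, 1, 2, 1, 0, 3, 2, 1, 2, 3], [3, 1, 2, 1, 2, 3],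
    [0, 1, 2, 1, 2, 0], [0, 3, 1, 2, 1, 2, 3, 0]] (c' := [7, 8, 17, 18, 19].map (nth A.one cX))
    (by decide +kernel)).gen Q_ok
  generalize clos (List.map (evalW (nth 1 e₀)) _) = R at hQ
  refine prH4.cod_of_normal h₀ (h₀.sat (by decide +kernel)) h₀.length_eq.symm (h₀.gen H_ok).2
    (W := [[0, 1, 2, 3, 0, 1, 2, 3, 0, 1, 2, 3, 0, 1, 2, 3, 0, 1, 2, 3, 0, 1, 2, 3]])
    (fun K hK hn h1 => ⟨_, List.mem_singleton_self _, ?_⟩) hs rfl (by simpa [pow_succ, mul_assoc] using hz)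
  have hL := h₀.lists.cons ((h₀.gen H_ok).1.cons (hQ.1.cons Cod.listsL_nil))
  have hF : Finite R := Nat.finite_of_card_ne_zero (by rw [hQ.2]; norm_num)
  exact mem_of_normal_es (R := R) (hL.decide ((h₀.word
    [0, 1, 2, 3, 0, 1, 2, 3, 0, 1, 2, 3, 0, 1, 2, 3, 0, 1, 2, 3, 0, 1, 2, 3]).cons Cod.repL_nil) (by decide +kernel))
    hK hn h1

namespace St

variable (s : St G)

theorem swap_aux : (s.d * s.c * s.b * s.a) ^ 6 = s.z ∧ (s.a * s.b * (s.c * s.z) * (s.d * s.z)) ^ 6 = s.z :=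
  Cod.listsL_nil.decide s.rep (by decide +kernel)

theorem exists_swap : ∃ C : Cod A G, C.RepL c4 [s.d, s.c, s.b, s.a] :=
  cod4 ((s.rep4.pick [3, 2, 1, 0]).sat (by decide +kernel)) (s.swap_aux.1.trans_ne s.sq.2.2.2.2.2.2.2.2)

/-- The letters in the opposite order. -/
noncomputable def swap : St G where
  a := s.d
  b := s.c
  c := s.b
  d := s.a
  z := s.z
  C := s.exists_swap.choose
  rep4 := s.exists_swap.choose_spec
  hz := s.swap_aux.1
  cent := s.cent.trans (congrArg Subgroup.closure (by ext x; simp only [List.mem_cons, Set.mem_setOf_eq]; tauto))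

theorem exists_tw : ∃ C : Cod A G, C.RepL c4 [s.a, s.b, s.c * s.z, s.d * s.z] :=
  cod4 (((s.rep.nth 0).cons <| (s.rep.nth 1).cons <| ((s.rep.nth 2).mul (s.rep.nth 4)).cons <|
    ((s.rep.nth 3).mul (s.rep.nth 4)).cons Cod.repL_nil).sat (by decide +kernel))
    (s.swap_aux.2.trans_ne s.sq.2.2.2.2.2.2.2.2)

/-- The letters `c` and `d` multiplied by `z`. -/
noncomputable def tw : St G where
  a := s.a
  b := s.b
  c := s.c * s.z
  d := s.d * s.z
  z := s.z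
  C := s.exists_tw.choose
  rep4 := s.exists_tw.choose_spec
  hz := s.swap_aux.2
  cent := by
    have hz : s.z ∈ clos [s.a, s.b, s.c * s.z, s.d * s.z] := by
      have h : (s.a * s.b * (s.c * s.z) * (s.d * s.z)) ^ 6 ∈ clos [s.a, s.b, s.c * s.z, s.d * s.z] :=
        pow_mem (mul_mem (mul_mem (mul_mem (mem_clos (by simp)) (mem_clos (by simp))) (mem_clos (by simp)))
          (mem_clos (by simp))) _
      rwa [s.swap_aux.2] at h
    have hH : ∀ x ∈ [s.a, s.b, s.c, s.d], x ∈ centralizer {s.z} := fun x hx => s.cent.ge (mem_clos hx)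
    refine le_antisymm (s.cent.le.trans (clos_le.2 ?_)) (clos_le.2 ?_) <;>
      simp only [List.mem_cons, List.not_mem_nil, or_false, forall_eq_or_imp, forall_eq]
    · exact ⟨mem_clos (by simp), mem_clos (by simp), (mul_mem_cancel_right hz).1 (mem_clos (by simp)),
        (mul_mem_cancel_right hz).1 (mem_clos (by simp))⟩
    · exact ⟨hH _ (by simp), hH _ (by simp), mul_mem (hH _ (by simp)) (mem_cen.2 rfl),
        mul_mem (hH _ (by simp)) (mem_cen.2 rfl)⟩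

theorem tw_eq : s.tw.z1 = s.z1 ∧ s.tw.ph = s.ph ∧ s.swap.z1 = s.z1 ∧ s.swap.z2 = s.z2 := by
  simp only [z1, ph, e, f, tw, swap, z2]
  exact Cod.listsL_nil.decide s.rep (by decide +kernel)

/-- The hypotheses on fusion. -/
structure Hyp : Prop where
  wc : ¬ s.Con s.z1
  hb : s.Con s.p1
  hb' : ¬ s.Con s.b

theorem Hyp.tw {s : St G} (h : s.Hyp) : s.tw.Hyp := ⟨s.tw_eq.1 ▸ h.wc, h.hb, h.hb'⟩

end St

end Cfsg.Agent.W2.L43
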