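import Mathlib
import Cfsg.Agent.W2.L43Base

/-!
Conjugates of `z` inside its centraliser, and the involution `n` in the normaliser of `F`.
-/

set_option autoImplicit false
set_option synthInstance.maxSize 100000
set_option synthInstance.maxHeartbeats 1000000
set_option linter.unusedSectionVars false

namespace Cfsg.Agent.W2.L43

open Cfsg.Agent.Spor Cfsg.Agent.Rec Cfsg.Agent.Inv.Fz Subgroup

universe u

variable {G : Type u} [Group G] [Finite G]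

theorem cj_mul' (g x y : G) : g * (x * y) * g⁻¹ = g * x * g⁻¹ * (g * y * g⁻¹) := by group

theorem cj_cj (g h x : G) : g * h * x * (g * h)⁻¹ = g * (h * x * h⁻¹) * g⁻¹ := by group

theorem cj_symm {g x y : G} (h : g * x * g⁻¹ = y) : g⁻¹ * y * g⁻¹⁻¹ = x := by rw [← h]; group

theorem cj_inj {g x y : G} (h : g * x * g⁻¹ = g * y * g⁻¹) : x = y := mul_left_cancel (mul_right_cancel h)

namespace St

variable (s : St G)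

theorem meets_Q {E : Subgroup G} (hE : E ≤ s.H) (h8 : Nat.card E = 8) : ∃ w ∈ E, w ∈ s.Q ∧ w ≠ 1 := by
  by_contra h
  push Not at h
  obtain ⟨L, _, _, π, h1, h2⟩ := exists_quot (K := s.H) (N := s.Q) fun g hg =>
    mem_normalizer_of_conj_mem (s.normQ g hg)
  have h3 : Function.Injective (π.comp (inclusion hE)) := (injective_iff_map_eq_one _).2 fun x hx =>
    Subtype.ext (h x x.2 ((h2 _).1 hx))
  have h4 := card_dvd_of_injective _ h3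
  have h5 := π.ker.index_mul_card
  have h6 : π.ker = s.Q.subgroupOf s.H := by ext x; exact h2 x
  rw [index_ker, MonoidHom.range_eq_top.2 h1, card_top, h6, Nat.card_congr (subgroupOfEquivOfLe s.le.1).toEquiv,
    s.gQ.2, s.gH.2] at h5
  rw [h8] at h4
  omega

theorem conQ (wc : ¬ s.Con s.z1) {x : G} (hx : x ∈ s.Q) (h : s.Con x) : x = s.z := by
  have h1 : ∀ x ∈ s.Q, x * x = 1 → x = 1 ∨ x = s.z ∨ ∃ h ∈ s.H, h * x * h⁻¹ = s.z1 :=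
    s.hL.decide s.rep (by decide +kernel)
  rcases h1 x hx h.sq with e | e | ⟨k, -, e⟩
  exacts [absurd e h.ne, e, absurd (e ▸ h.conj k) wc]

/-- What is needed of a conjugate `u` of `z`. -/
def PU (u : G) (E D : Subgroup G) : Prop :=
  u ∈ s.H ∧ u ≠ s.z ∧ (∀ x ∈ D, x ∈ s.Q ∧ x * u = u * x) ∧ ∀ r ∈ s.H, r * u = u * r → r ^ 3 = 1 → r ≠ 1 →
    ∀ y ∈ s.H, y * u = u * y → y * y = 1 → y * (r * y * r⁻¹) = r * y * r⁻¹ * y → y ∈ E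

theorem pu1 : s.PU s.p1 s.F s.D := by unfold PU; exact s.hL.decide s.rep (by decide +kernel)
theorem pu2 : s.PU s.c s.F2 s.D2 := by unfold PU; exact s.hL.decide s.rep (by decide +kernel)

/-- What is needed of the other conjugate. -/
def PV (v : G) (E : Subgroup G) (r q : G) : Prop :=
  r ∈ s.H ∧ r ^ 3 = 1 ∧ r ≠ 1 ∧ r * v = v * r ∧ (∀ y ∈ E, y ∈ s.H ∧ y * v = v * y ∧ y * y = 1 ∧
    y * (r * y * r⁻¹) = r * y * r⁻¹ * y ∧ q * y * q⁻¹ ∈ E) ∧ (∀ x ∈ s.Q, x * v = v * x → x ∈ E) ∧ q * v * q⁻¹ ≠ v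

theorem pv : s.PV s.b s.F (s.d * s.e) s.c ∧ s.PV s.p1 s.F (s.d * s.e) s.c ∧ s.PV s.c s.F2 (s.a * s.f) s.b ∧
    s.PV s.zc s.F2 (s.a * s.f) s.b := by unfold PV; exact s.hL.decide s.rep (by decide +kernel)

theorem pair (wc : ¬ s.Con s.z1) {u : G} {E D : Subgroup G} (hu : s.PU u E D) (hE : Nat.card E = 16)
    (hD : Nat.card D = 8) (hc : s.Con u) : ∃ g : G, g * s.z * g⁻¹ = u ∧
      (∀ q ∈ s.Q, g * q * g⁻¹ * s.z = s.z * (g * q * g⁻¹) → g * q * g⁻¹ ∈ E) ∧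
      ∃ k ∈ normalizer (E : Set G), k * s.z * k⁻¹ ≠ s.z := by
  obtain ⟨uH, uz, hDQ, hr⟩ := hu
  obtain ⟨g0, hg0⟩ := hc
  have h1 : g0⁻¹ * s.z * g0⁻¹⁻¹ ∈ s.H := s.mem_H (comm_of_conj' (g := g0) (by simpa [mul_assoc, ← hg0] using
    (s.cz uH).symm))
  obtain ⟨h, hh, h2⟩ := (s.cls _ h1 (con_z.conj _).sq).resolve_left (con_z.conj _).ne
  obtain ⟨g, hg, v, hv, h3⟩ : ∃ g : G, g * s.z * g⁻¹ = u ∧ ∃ v, g * v * g⁻¹ = s.z ∧ (v = s.z ∨ v = s.z1 ∨ v = s.ps ∨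
      (v = s.b ∨ v = s.p1) ∨ v = s.c ∨ v = s.zc) :=
    ⟨g0 * h⁻¹, by rw [cj_cj, s.cz' (inv_mem hh), hg0], _, by group, h2⟩
  have cv : s.Con v := Con.of_conj (hv ▸ con_z)
  have key : ∀ (E0 : Subgroup G) (r q : G), Nat.card E0 = 16 → s.PV v E0 r q → ∃ g : G, g * s.z * g⁻¹ = u ∧
      (∀ q ∈ s.Q, g * q * g⁻¹ * s.z = s.z * (g * q * g⁻¹) → g * q * g⁻¹ ∈ E) ∧
      ∃ k ∈ normalizer (E : Set G), k * s.z * k⁻¹ ≠ s.z := by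
    rintro E0 r q h16 ⟨rH, r3, r1, rv, hy, hQ, hq⟩
    have h4 : cj g E0 = E := by
      refine eq_of_le_of_card_ge (cj_le_iff.2 fun y hy' => ?_) (by rw [card_cj, hE, h16])
      obtain ⟨y1, y2, y3, y4, -⟩ := hy y hy'
      refine hr (g * r * g⁻¹) (s.mem_H (hv ▸ comm_of_conj rv)) (hg ▸ comm_of_conj (s.cz rH))
        (by rw [conj_pow, r3]; group) (fun e => r1 (conj_eq_one.1 e)) _ (s.mem_H (hv ▸ comm_of_conj y2))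
        (hg ▸ comm_of_conj (s.cz y1)) (conj_sq y3) ?_
      simpa [mul_assoc] using comm_of_conj (g := g) y4
    refine ⟨g, hg, fun x hx e => h4 ▸ conj_mem_cj.2 (hQ x hx (comm_of_conj' (g := g) (hv ▸ e))),
      g * q * g⁻¹, mem_normalizer_of_conj_mem fun y hy' => ?_, fun e => hq (cj_inj (g := g) ?_)⟩
    · rw [← h4] at hy' ⊢
      simpa [mem_cj, mul_assoc] using (hy _ (mem_cj.1 hy')).2.2.2.2
    · rw [hv, ← e, ← hv]; group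
  rcases h3 with rfl | rfl | rfl | (rfl | rfl) | rfl | rfl
  · exact absurd (hg.symm.trans hv) uz
  · exact absurd cv wc
  · exfalso
    obtain ⟨w, w1, w2, w3⟩ := s.meets_Q (E := cj g⁻¹ D) (fun x hx => s.mem_H (comm_of_conj' (g := g) (by
      simpa [hg] using (hDQ _ (mem_cj.1 hx)).2))) (by rw [card_cj, hD])
    have w4 := (hDQ _ (mem_cj.1 w1)).1
    rw [inv_inv] at w4
    have h5 : ∀ w ∈ s.Q, w * s.ps = s.ps * w → ∃ h ∈ s.H, h * s.ps * h⁻¹ = s.ps * w :=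
      s.hL.decide s.rep (by decide +kernel)
    obtain ⟨k, -, hk⟩ := h5 w w2 (comm_of_conj' (g := g) (hv ▸ s.cz (s.le.1 w4)))
    have h6 := ((hk ▸ cv.conj k : s.Con (s.ps * w)).conj g)
    rw [cj_mul', hv] at h6
    exact w3 (conj_eq_one.1 (mul_eq_left.1 (s.conQ wc (mul_mem s.le.2.2.2.2.2.2.2.2.1 w4) h6)))
  exacts [key _ _ _ s.gF.2 s.pv.1, key _ _ _ s.gF.2 s.pv.2.1, key _ _ _ s.gF2.2 s.pv.2.2.1,
    key _ _ _ s.gF2.2 s.pv.2.2.2]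

theorem pts : (∀ x ∈ s.P4, x ∈ s.F ∧ ∃ h ∈ s.R, h * s.ph * h⁻¹ = x) ∧ s.p1 ∈ s.P4 ∧ s.z ≠ s.ph ∧ s.p1 ≠ s.ph ∧
    s.p2 ≠ s.ph ∧ s.p3 ≠ s.ph ∧ s.z ≠ s.p1 ∧ s.z ≠ s.p2 ∧ s.z ≠ s.p3 ∧ s.p1 ≠ s.p2 ∧ s.p1 ≠ s.p3 ∧ s.p2 ≠ s.p3 ∧
    s.p2 ∈ s.P4 ∧ s.p3 ∈ s.P4 ∧ ∀ h ∈ s.R, ∀ x ∈ s.F, h * x * h⁻¹ ∈ s.F := s.hL.decide s.rep (by decide +kernel)

theorem cF : ∀ h ∈ s.H, h * s.p1 * h⁻¹ = s.p1 → h * s.p2 * h⁻¹ = s.p2 → h * s.p3 * h⁻¹ = s.p3 → h ∈ s.F :=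
  s.hL.decide s.rep (by decide +kernel)

variable {s}

theorem Hyp.con_ph (h : s.Hyp) : s.Con s.ph := by
  obtain ⟨k, -, hk⟩ := (s.pts.1 _ s.pts.2.1).2
  exact Con.of_conj (hk ▸ h.hb)

theorem Hyp.con_P4 (h : s.Hyp) {x : G} (hx : x ∈ s.P4) : s.Con x := by
  obtain ⟨k, -, rfl⟩ := (s.pts.1 _ hx).2
  exact h.con_ph.conj k

theorem Hyp.ptF (h : s.Hyp) {x : G} (hx : x ∈ s.F) (hc : s.Con x) (hz : x ≠ s.z) : x ∈ s.P4 := by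
  have h1 : ∀ x ∈ s.F, x = 1 ∨ x = s.z ∨ x ∈ s.P4 ∨ ∃ h ∈ s.R, h * x * h⁻¹ = s.z1 ∨ h * x * h⁻¹ = s.b :=
    s.hL.decide s.rep (by decide +kernel)
  rcases h1 x hx with e | e | e | ⟨k, -, e | e⟩
  exacts [absurd e hc.ne, absurd e hz, e, absurd (e ▸ hc.conj k) h.wc, absurd (e ▸ hc.conj k) h.hb']

/-- The action of `n` on the five points. -/
structure Nu (s : St G) (n : G) : Prop where
  z : n * s.z * n⁻¹ = s.ph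
  ph : n * s.ph * n⁻¹ = s.z
  p1 : n * s.p1 * n⁻¹ = s.p1
  p2 : n * s.p2 * n⁻¹ = s.p2
  p3 : n * s.p3 * n⁻¹ = s.p3

theorem Hyp.exists_nu (h : s.Hyp) : ∃ n, s.Nu n := by
  obtain ⟨-, -, -, k, hk, hz⟩ := s.pair h.wc s.pu1 s.gF.2 s.gD.2 h.hb
  obtain ⟨hP, m1, n0, n1, n2, n3, d1, d2, d3, d4, d5, d6, m2, m3, hR⟩ := s.pts
  have zF := s.le.2.2.2.2.2.2.2.1
  obtain ⟨r, hr, e⟩ := (hP _ (h.ptF (conj_mem_of_mem_norm (inv_mem hk) zF) (con_z.conj _)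
    fun e => hz (by simpa using cj_symm e))).2
  have e1 : k * r * s.ph * (k * r)⁻¹ = s.z := by rw [cj_cj, e]; group
  have h1 : ∀ x ∈ s.F, s.Con x → x ≠ s.ph → k * r * x * (k * r)⁻¹ ∈ s.P4 := fun x hx hc hne =>
    h.ptF (by rw [cj_cj]; exact conj_mem_of_mem_norm hk (hR r hr x hx)) (hc.conj _) fun e => hne (cj_inj (e.trans e1.symm))
  have h2 : ∀ y0 ∈ s.P4, ∀ y1 ∈ s.P4, y0 ≠ y1 → ∀ y2 ∈ s.P4, y0 ≠ y2 → y1 ≠ y2 → ∀ y3 ∈ s.P4, y0 ≠ y3 → y1 ≠ y3 →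
      y2 ≠ y3 → ∃ h ∈ s.R, h * y0 * h⁻¹ = s.ph ∧ h * y1 * h⁻¹ = s.p1 ∧ h * y2 * h⁻¹ = s.p2 ∧ h * y3 * h⁻¹ = s.p3 :=
    s.hL.decide s.rep (by decide +kernel)
  obtain ⟨g, hg, a0, a1, a2, a3⟩ := h2 _ (h1 _ zF con_z n0) _ (h1 _ (hP _ m1).1 (h.con_P4 m1) n1)
    (fun e => d1 (cj_inj e)) _ (h1 _ (hP _ m2).1 (h.con_P4 m2) n2) (fun e => d2 (cj_inj e)) (fun e => d4 (cj_inj e)) _
    (h1 _ (hP _ m3).1 (h.con_P4 m3) n3) (fun e => d3 (cj_inj e)) (fun e => d5 (cj_inj e)) fun e => d6 (cj_inj e)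
  exact ⟨g * (k * r), by rw [cj_cj, a0], by rw [cj_cj, e1, s.cz' (s.le.2.2.2.2.1 hg)], by rw [cj_cj, a1],
    by rw [cj_cj, a2], by rw [cj_cj, a3]⟩

theorem Nu.mul_left {n v : G} (h : s.Nu n) (hv : v ∈ s.F) : s.Nu (v * n) := by
  have h1 : ∀ v ∈ s.F, v * s.z * v⁻¹ = s.z ∧ v * s.ph * v⁻¹ = s.ph ∧ v * s.p1 * v⁻¹ = s.p1 ∧ v * s.p2 * v⁻¹ = s.p2 ∧
      v * s.p3 * v⁻¹ = s.p3 := s.hL.decide s.rep (by decide +kernel)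
  obtain ⟨a, b, c, d, e⟩ := h1 v hv
  exact ⟨by rw [cj_cj, h.z, b], by rw [cj_cj, h.ph, a], by rw [cj_cj, h.p1, c], by rw [cj_cj, h.p2, d],
    by rw [cj_cj, h.p3, e]⟩

theorem Nu.sq_mem {n : G} (h : s.Nu n) : n * n ∈ s.F :=
  s.cF _ (s.mem_H' (by rw [cj_cj, h.z, h.ph])) (by rw [cj_cj, h.p1, h.p1]) (by rw [cj_cj, h.p2, h.p2])
    (by rw [cj_cj, h.p3, h.p3])

/-- The relations for `n`. -/
structure NRel (s : St G) (n : G) : Prop where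
  nn : n * n = 1
  c : n * s.c * n⁻¹ = s.c
  d : n * s.d * n⁻¹ = s.d
  z : n * s.z * n⁻¹ = s.ph
  p1 : n * s.p1 * n⁻¹ = s.p1

theorem Hyp.exists_n (h : s.Hyp) : ∃ n, s.NRel n ∨ s.tw.NRel n := by
  obtain ⟨n0, h0⟩ := h.exists_nu
  have a1 : s.c * s.ph * s.c⁻¹ = s.ph ∧ s.c * s.p2 * s.c⁻¹ = s.p1 ∧ s.c * s.p3 * s.c⁻¹ = s.p3 ∧
      s.d * s.ph * s.d⁻¹ = s.ph ∧ s.d * s.p1 * s.d⁻¹ = s.p1 ∧ s.d * s.p3 * s.d⁻¹ = s.p2 ∧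
      (s.c * s.d) ^ 3 = 1 ∧ s.c * s.z * s.c⁻¹ = s.z ∧ s.d * s.z * s.d⁻¹ = s.z ∧ s.z * s.ph * (s.z * s.ph) = 1 ∧
      s.z * s.ph * s.c * s.ph = s.c * s.z ∧ s.z * s.ph * s.d * s.ph = s.d * s.z ∧ s.z * s.ph * (s.z * s.ph)⁻¹ = 1 ∧
      s.z * (s.z * s.ph * s.c) * s.z⁻¹ = s.z * s.ph * s.c ∧ s.z * (s.z * s.ph * s.d) * s.z⁻¹ = s.z * s.ph * s.d ∧
      s.z * s.ph * (s.z * s.ph) = 1 ∧ s.z * s.c * s.z⁻¹ = s.c ∧ s.z * s.d * s.z⁻¹ = s.d ∧ s.ph * s.z = s.z * s.ph :=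
    Cod.listsL_nil.decide s.rep (by decide +kernel)
  obtain ⟨c0, c2, c3, d0, d1, d3, cd, c4, d4, a2, a3, a4, -, a5, a6, a7, a8, a9, a10⟩ := a1
  have key : ∀ {g x x' y y' : G}, n0 * x * n0⁻¹ = x' → n0 * y * n0⁻¹ = y' → g * x * g⁻¹ = y → g⁻¹ * y' * g⁻¹⁻¹ = x' →
      g⁻¹ * (n0 * g * n0⁻¹) * x' * (g⁻¹ * (n0 * g * n0⁻¹))⁻¹ = x' := fun {g x x' y y'} e1 e2 e3 e4 => by
    calc _ = g⁻¹ * (n0 * (g * (n0⁻¹ * x' * n0⁻¹⁻¹) * g⁻¹) * n0⁻¹) * g⁻¹⁻¹ := by group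
      _ = x' := by rw [cj_symm e1, e3, e2, e4]
  have w1 : s.c⁻¹ * (n0 * s.c * n0⁻¹) ∈ s.F := s.cF _ (s.mem_H' (key h0.ph h0.ph c0 (cj_symm c4)))
    (key h0.p1 h0.p2 rfl (cj_symm rfl)) (key h0.p2 h0.p1 c2 (cj_symm c2)) (key h0.p3 h0.p3 c3 (cj_symm c3))
  have w2 : s.d⁻¹ * (n0 * s.d * n0⁻¹) ∈ s.F := s.cF _ (s.mem_H' (key h0.ph h0.ph d0 (cj_symm d4)))
    (key h0.p1 h0.p1 d1 (cj_symm d1)) (key h0.p2 h0.p3 rfl (cj_symm rfl)) (key h0.p3 h0.p2 d3 (cj_symm d3))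
  have h1 : ∀ w1 ∈ s.F, Let (s.c * w1) fun x => x * x = 1 → ∀ w2 ∈ s.F, Let (s.d * w2) fun y => y * y = 1 →
      (x * y) ^ 3 = 1 → ∃ v ∈ s.F, (v * x * v⁻¹ = s.c ∧ v * y * v⁻¹ = s.d) ∨
        (v * x * v⁻¹ = s.z * s.ph * s.c ∧ v * y * v⁻¹ = s.z * s.ph * s.d) ∨ v * x * v⁻¹ = s.z * s.c ∨
        v * x * v⁻¹ = s.ph * s.c := s.hL.decide s.rep (by decide +kernel)
  have h2 := h1 _ w1
  rw [let_iff, mul_inv_cancel_left] at h2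
  have h3 := h2 (conj_sq s.sq.2.2.1) _ w2
  rw [let_iff, mul_inv_cancel_left] at h3
  obtain ⟨v, hv, h4⟩ := h3 (conj_sq s.sq.2.2.2.1) (by rw [← cj_mul', conj_pow, cd]; group)
  have h5 := h0.mul_left hv
  simp only [← cj_cj] at h4
  generalize v * n0 = n at h4 h5
  have h6 : ∀ u ∈ s.F, u * s.c * u⁻¹ ≠ s.ph * (s.z * s.c) ∧ u * s.c * u⁻¹ ≠ s.z * (s.ph * s.c) ∧
      (u * s.c * u⁻¹ = s.c → u * s.d * u⁻¹ = s.d → u = 1 ∨ u = s.z ∨ u = s.ph ∨ u = s.z * s.ph) :=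
    s.hL.decide s.rep (by decide +kernel)
  obtain ⟨h7, h8, h9⟩ := h6 _ h5.sq_mem
  have h10 : n * (s.z * s.ph) * n⁻¹ = s.z * s.ph := by rw [cj_mul', h5.z, h5.ph, a10]
  have fin : ∀ x y : G, n * s.c * n⁻¹ = x → n * s.d * n⁻¹ = y → n * x * n⁻¹ = s.c → n * y * n⁻¹ = s.d →
      s.z * x * s.z⁻¹ = x → s.z * y * s.z⁻¹ = y →
      ∃ n, n * n = 1 ∧ s.Nu n ∧ n * s.c * n⁻¹ = x ∧ n * s.d * n⁻¹ = y := fun x y e1 e2 e3 e4 e5 e6 => by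
    rcases h9 (by rw [cj_cj, e1, e3]) (by rw [cj_cj, e2, e4]) with e | e | e | e
    · exact ⟨n, e, h5, e1, e2⟩
    · exact absurd (by rw [← h5.z, ← e]; group) s.pts.2.2.1
    · exact absurd (by rw [← h5.ph, ← e]; group) s.pts.2.2.1
    · refine ⟨s.z * n, ?_, h5.mul_left s.le.2.2.2.2.2.2.2.1, by rw [cj_cj, e1, e5], by rw [cj_cj, e2, e6]⟩
      calc _ = s.z * (n * s.z * n⁻¹) * (n * n) := by group
        _ = 1 := by rw [h5.z, e, a7]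
  rcases h4 with ⟨e1, e2⟩ | ⟨e1, e2⟩ | e | e
  · obtain ⟨m, m1, m2, m3, m4⟩ := fin _ _ e1 e2 e1 e2 a8 a9
    exact ⟨m, .inl ⟨m1, m3, m4, m2.z, m2.p1⟩⟩
  · obtain ⟨m, m1, m2, m3, m4⟩ := fin _ _ e1 e2 (by rw [cj_mul', h10, e1, ← mul_assoc, a2, one_mul])
      (by rw [cj_mul', h10, e2, ← mul_assoc, a2, one_mul]) a5 a6
    refine ⟨m, .inr ⟨m1, ?_, ?_, s.tw_eq.2.1 ▸ m2.z, m2.p1⟩⟩
    · show m * (s.c * s.z) * m⁻¹ = s.c * s.z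
      rw [cj_mul', m3, m2.z, a3]
    · show m * (s.d * s.z) * m⁻¹ = s.d * s.z
      rw [cj_mul', m4, m2.z, a4]
  · exact absurd (by rw [cj_cj, e, cj_mul', h5.z, e]) h7
  · exact absurd (by rw [cj_cj, e, cj_mul', h5.ph, e]) h8

end St

end Cfsg.Agent.W2.L43
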