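import Mathlib
import Cfsg.Agent.W2.L43A
import Cfsg.Agent.NE.Tools

/-!
Relations for `n`, the fusion of `c` and `c z`, and the second involution `m`.
-/

set_option autoImplicit false
set_option synthInstance.maxSize 100000
set_option synthInstance.maxHeartbeats 1000000
set_option linter.unusedSectionVars false

namespace Cfsg.Agent.W2.L43

open Cfsg.Agent.Spor Cfsg.Agent.Rec Cfsg.Agent.Inv.Fz Subgroup

universe u

variable {G : Type u} [Group G] [Finite G]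

namespace St

variable {s : St G} {n : G}

theorem NRel.ni (h : s.NRel n) : n⁻¹ = n := inv_eq_of_mul_eq_one_right h.nn

theorem NRel.nu (h : s.NRel n) : s.Nu n := by
  have h2 : n * s.p2 * n⁻¹ = s.p2 := by
    calc _ = n * s.c * n⁻¹ * (n * s.p1 * n⁻¹) * (n * s.c * n⁻¹)⁻¹ := by rw [p2]; group
      _ = _ := by rw [h.c, h.p1, p2]
  refine ⟨h.z, ?_, h.p1, h2, ?_⟩
  · rw [← h.z, ← cj_cj, h.nn]; group
  · calc _ = n * s.d * n⁻¹ * (n * s.p2 * n⁻¹) * (n * s.d * n⁻¹)⁻¹ := by rw [p3]; group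
      _ = _ := by rw [h.d, h2, p3]

theorem NRel.act (h : s.NRel n) : n * s.f * n⁻¹ = s.z2 ∧ n * s.z2 * n⁻¹ = s.f ∧ n * s.z1 * n⁻¹ = s.z1 ∧
    n * s.b * n⁻¹ = s.ph * s.p1 ∧ n * (s.e * s.f * s.e) * n⁻¹ = s.e * s.f * s.e ∧ n * s.j * n⁻¹ = s.j ∧
    n * s.zc * n⁻¹ = s.ps := by
  have a : s.f = s.z * s.p3 ∧ s.z2 = s.ph * s.p3 ∧ s.z1 = s.p1 * s.p2 ∧ s.b = s.z * s.p1 ∧
      s.e * s.f * s.e = s.z * s.ph ∧ s.ph * s.z = s.z * s.ph ∧ s.j = s.c * s.p1 ∧ s.ps = s.ph * s.c :=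
    Cod.listsL_nil.decide s.rep (by decide +kernel)
  obtain ⟨a1, a2, a3, a4, a5, a6, a7, a8⟩ := a
  obtain ⟨n0, n4, n1, n2, n3⟩ := h.nu
  rw [a5, a1, a2, a3, a7, a8, zc]
  nth_rewrite 1 [a4]
  simp only [cj_mul', n0, n1, n2, n3, n4, h.c, a6, and_self]

theorem NRel.rel (h : s.NRel n) : n * (s.c * (n * s.c)) = 1 ∧ n * (s.d * (n * s.d)) = 1 ∧
    n * (s.e * (s.f * (s.e * (n * (s.e * (s.f * s.e)))))) = 1 ∧ n * (s.f * (n * (s.e * (s.f * (s.e * s.f))))) = 1 ∧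
    n * (s.b * (n * (s.b * (s.e * (s.f * s.e))))) = 1 := by
  have a : s.e * s.f * s.e * (s.e * (s.f * s.e)) = 1 ∧ s.z2 * (s.e * (s.f * (s.e * s.f))) = 1 ∧
      s.ph * s.p1 * (s.b * (s.e * (s.f * s.e))) = 1 := Cod.listsL_nil.decide s.rep (by decide +kernel)
  obtain ⟨a1, -, -, a2, a3, -⟩ := h.act
  have h1 := h.c
  have h2 := h.d
  rw [h.ni] at a1 a2 a3 h1 h2
  refine ⟨by rw [← s.sq.2.2.1]; nth_rewrite 3 [← h1]; group, by rw [← s.sq.2.2.2.1]; nth_rewrite 3 [← h2]; group,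
    ?_, by rw [← a.2.1, ← a1]; group, by rw [← a.2.2, ← a2]; group⟩
  rw [← a.1]
  nth_rewrite 1 [← a3]
  group

theorem NRel.ne_act (h : s.NRel n) : n * s.e * s.z * (n * s.e)⁻¹ = s.ph ∧ n * s.e * s.ph * (n * s.e)⁻¹ = s.p3 ∧
    n * s.e * s.p3 * (n * s.e)⁻¹ = s.z ∧ n * s.e * s.p1 * (n * s.e)⁻¹ = s.p1 ∧ n * s.e * s.p2 * (n * s.e)⁻¹ = s.p2 ∧
    n * s.e * s.c * (n * s.e)⁻¹ = s.c := by
  have a : s.e * s.z * s.e⁻¹ = s.z ∧ s.e * s.ph * s.e⁻¹ = s.p3 ∧ s.e * s.p3 * s.e⁻¹ = s.ph ∧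
      s.e * s.p1 * s.e⁻¹ = s.p1 ∧ s.e * s.p2 * s.e⁻¹ = s.p2 ∧ s.e * s.c * s.e⁻¹ = s.c :=
    Cod.listsL_nil.decide s.rep (by decide +kernel)
  obtain ⟨n0, n4, n1, n2, n3⟩ := h.nu
  simp only [cj_cj, a, n0, n1, n2, n3, n4, h.c, and_self]

theorem NRel.ne3 (h : s.NRel n) : (n * s.e) ^ 3 = 1 := by
  obtain ⟨a0, a4, a3, a1, a2, a5⟩ := h.ne_act
  have e3 : ∀ x, (n * s.e) ^ 3 * x * ((n * s.e) ^ 3)⁻¹ =
      n * s.e * (n * s.e * (n * s.e * x * (n * s.e)⁻¹) * (n * s.e)⁻¹) * (n * s.e)⁻¹ := fun x => by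
    generalize n * s.e = y
    simp only [pow_succ, pow_zero, one_mul, cj_cj]
  have h1 : (n * s.e) ^ 3 ∈ s.F := s.cF _ (s.mem_H' (by rw [e3, a0, a4, a3])) (by rw [e3, a1, a1, a1])
    (by rw [e3, a2, a2, a2]) (by rw [e3, a3, a0, a4])
  have h2 : ∀ u ∈ s.F, u⁻¹ = u ∧ (u * s.c * u⁻¹ = s.c → s.e * u * s.e⁻¹ = u → u = 1 ∨ u = s.z ∨ u = s.z1 ∨ u = s.z2) :=
    s.hL.decide s.rep (by decide +kernel)
  obtain ⟨h3, h4⟩ := h2 _ h1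
  have ei := s.inv.2.2.2.2.1
  have h5 : n * (n * s.e) ^ 3 * n⁻¹ = (n * s.e) ^ 3 := by
    rw [← conj_pow, ← mul_assoc, h.nn, one_mul, ← h3, ← inv_pow, mul_inv_rev, ei]
  have h6 : s.e * (n * s.e) ^ 3 * s.e⁻¹ = (n * s.e) ^ 3 := by
    rw [← conj_pow, mul_assoc, mul_inv_cancel_right, ← h3, ← inv_pow, mul_inv_rev, ei, h.ni]
  rcases h4 (by rw [e3, a5, a5, a5]) h6 with e | e | e | e
  · exact e
  · rw [e, h.z] at h5
    exact absurd h5.symm s.pts.2.2.1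
  · exfalso
    have h7 : (n * s.e) ^ 3 * s.z1 = 1 := by rw [e, s.sq.2.2.2.2.2.2.2.1]
    obtain ⟨r1, r2, -, -, r3⟩ := h.rel
    have h8 : Sat rB [s.c, s.d, s.e, s.b, s.f, n] := by
      refine sat_append.2 ⟨((s.rep.pick [2, 3, 5, 1, 6]).sat (by decide +kernel)).extend [n] (m := 5) rfl
        (by decide +kernel), ?_⟩
      simp only [z1, pow_succ, pow_zero, one_mul, mul_assoc] at h7
      simp only [exB, sat_cons, sat_nil, evalW_cons, evalW_nil, nth_zero, nth_succ, mul_one, and_true, h.nn, r1, r2,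
        r3, h7]
    have h9 : s.T ≤ clos [s.c, s.d, s.e, s.b, s.f, n] := clos_le.2 (by
      simp only [List.mem_cons, List.not_mem_nil, or_false, forall_eq_or_imp, forall_eq]
      exact ⟨mem_clos (by simp), mem_clos (by simp), mem_clos (by simp), mem_clos (by simp),
        mul_mem (mul_mem (mul_mem (mem_clos (by simp)) (mem_clos (by simp))) (mem_clos (by simp)))
          (mem_clos (by simp))⟩)
    have h10 := (card_le_of_le h9).trans (pB G _ rfl h8).2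
    rw [s.gT.2] at h10
    omega
  · rw [e, h.act.2.1] at h5
    exact absurd h5 (Cod.listsL_nil.decide s.rep (by decide +kernel))

theorem NRel.not_c (h : s.NRel n) (wc : ¬ s.Con s.z1) : ¬ s.Con s.c := fun hc => by
  obtain ⟨g, hg, h1, -⟩ := s.pair wc s.pu2 s.gF2.2 s.gD2.2 hc
  obtain ⟨a0, -, -, -, -, a5⟩ := h.ne_act
  have h2 : ∀ y ∈ s.H, y ^ 3 = 1 → ∀ x ∈ s.H, x * x = 1 → Let (y * x * y⁻¹) fun w => x * w = w * x → x * w ∈ s.Q :=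
    s.hL.decide s.rep (by decide +kernel)
  have a : s.c * s.z = s.z * s.c ∧ s.z * s.ph = s.ph * s.z ∧ s.z * s.ph * s.z = s.z * (s.z * s.ph) ∧
      s.z * s.ph ∉ s.F2 := s.hL.decide s.rep (by decide +kernel)
  have h3 := h2 (g⁻¹ * (n * s.e) * g⁻¹⁻¹) (s.mem_H' (cj_inj (g := g) (by rw [hg, ← a5, ← hg]; group)))
    (by rw [conj_pow, h.ne3]; group) (g⁻¹ * s.z * g⁻¹⁻¹)
    (s.mem_H (comm_of_conj' (g := g) (by simpa [mul_assoc, ← hg] using a.1.symm))) (con_z.conj _).sq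
  have e : g⁻¹ * (n * s.e) * g⁻¹⁻¹ * (g⁻¹ * s.z * g⁻¹⁻¹) * (g⁻¹ * (n * s.e) * g⁻¹⁻¹)⁻¹ = g⁻¹ * s.ph * g⁻¹⁻¹ := by
    rw [← a0]; group
  rw [let_iff, e, ← cj_mul'] at h3
  have h4 := h1 _ (h3 (by rw [a.2.1, cj_mul']))
  rw [show g * (g⁻¹ * (s.z * s.ph) * g⁻¹⁻¹) * g⁻¹ = s.z * s.ph by group] at h4
  exact a.2.2.2 (h4 a.2.2.1)

variable (s) in
theorem sylT : IsSylIn 2 s.T ⊤ := by
  have h : s.z ∈ s.T ∧ ∀ x ∈ s.T, (∀ y ∈ s.T, x * y = y * x) → x = 1 ∨ x = s.z := s.hL.decide s.rep (by decide +kernel)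
  exact isSylIn_of_center (s.cent ▸ isSylIn_of_card (k := 7) (m := 9) s.le.2.1 s.gT.2 s.gH.2 (by norm_num)) h.1
    s.sq.2.2.2.2.2.2.2.2 h.2

theorem NRel.con_zc (h : s.NRel n) (hy : s.Hyp) (hG : NE.NoIdx G) : s.Con s.zc := by
  by_contra hn
  have a1 : ∀ h ∈ s.H, Let (h⁻¹ * s.p1 * h⁻¹⁻¹) fun x => x ∈ s.T → x ∈ s.P5 := s.hL.decide s.rep (by decide +kernel)
  have a2 : s.z ∈ s.P5 ∧ (∀ x ∈ s.P5, x ∈ s.F ∧ (x = s.z ∨ x ∈ s.P4)) ∧ s.zc ∈ s.T ∧ s.zc ∉ s.F ∧ s.zc * s.zc = 1 ∧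
      s.z * s.zc = s.zc * s.z ∧ s.p3 * s.zc = s.zc * s.p3 ∧ s.ph * s.zc = s.zc * s.ph ∧ s.p3 ∈ s.F ∧ s.ph ∈ s.F ∧
      s.p3 ≠ s.ph ∧ ∀ a ∈ s.T, ∀ b ∈ s.T, a ∉ s.M → b ∉ s.M → a * b ∈ s.M := s.hL.decide s.rep (by decide +kernel)
  obtain ⟨zP, hP, cT, cF, c2, c0, c3, c4, m3, m4, d34, hM⟩ := a2
  have zF := s.le.2.2.2.2.2.2.2.1
  have FT := s.le.2.2.1
  have conT : ∀ x ∈ s.T, s.Con x → x ∈ s.P5 := fun x hx hc => by
    obtain ⟨k, hk, h2⟩ := (s.cls _ (s.le.2.1 hx) hc.sq).resolve_left hc.ne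
    have h3 := hc.conj k
    rcases h2 with e | e | e | (e | e) | e | e
    · exact cj_inj (e.trans (s.cz' hk).symm) ▸ zP
    · exact absurd (e ▸ h3) hy.wc
    · exact absurd (Con.of_conj (h.act.2.2.2.2.2.2 ▸ e ▸ h3)) hn
    · exact absurd (e ▸ h3) hy.hb'
    · have h4 := a1 k hk
      rw [let_iff, cj_symm e] at h4
      exact h4 hx
    · exact absurd (e ▸ h3) (h.not_c hy.wc)
    · exact absurd (e ▸ h3) hn
  obtain ⟨g, h1, -, h2⟩ := hG.transfer2 s.sylT hM c2 (C := s.T ⊓ centralizer {s.zc})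
    (s.sylT.isPGroup.to_le inf_le_left) fun c hc => mem_cen.1 hc.2
  have a3 : ∀ y ∈ s.M, y * y = 1 → ∀ u ∈ s.P5, u * y = y * u → ∀ v ∈ s.P5, v * y = y * v → u ≠ v → ∀ w ∈ s.P5,
      w * y = y * w → u ≠ w → v ≠ w → (y = 1 ∨ y ∈ s.P5) ∨ (y * u = 1 ∨ y * u ∈ s.P5) ∨ (y * v = 1 ∨ y * v ∈ s.P5) ∨
      (y * w = 1 ∨ y * w ∈ s.P5) ∨ (y * (u * v) = 1 ∨ y * (u * v) ∈ s.P5) ∨ (y * (u * w) = 1 ∨ y * (u * w) ∈ s.P5) ∨
      (y * (v * w) = 1 ∨ y * (v * w) ∈ s.P5) ∨ (y * (u * v * w) = 1 ∨ y * (u * v * w) ∈ s.P5) :=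
    s.hL.decide s.rep (by decide +kernel)
  have bad : ∀ w ∈ s.F, ¬ (g * (s.zc * w) * g⁻¹ = 1 ∨ g * (s.zc * w) * g⁻¹ ∈ s.P5) := by
    rintro w hw (e | e)
    · exact cF ((mul_mem_cancel_right hw).1 (conj_eq_one.1 e ▸ one_mem _))
    · exact cF ((mul_mem_cancel_right hw).1 (hP _ (conT _ (mul_mem cT (FT hw))
        (Con.of_conj ((hP _ e).2.elim (fun e => e ▸ con_z) hy.con_P4)))).1)
  have h3 := a3 _ h1 (conj_sq c2) _ (conT _ (h2 _ ⟨FT zF, mem_cen.2 c0⟩) (con_z.conj g)) (comm_of_conj c0) _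
    (conT _ (h2 _ ⟨FT m3, mem_cen.2 c3⟩) ((hy.con_P4 s.pts.2.2.2.2.2.2.2.2.2.2.2.2.2.1).conj g)) (comm_of_conj c3)
    (fun e => s.pts.2.2.2.2.2.2.2.2.1 (cj_inj e)) _ (conT _ (h2 _ ⟨FT m4, mem_cen.2 c4⟩) (hy.con_ph.conj g))
    (comm_of_conj c4) (fun e => s.pts.2.2.1 (cj_inj e)) fun e => d34 (cj_inj e)
  simp only [← cj_mul'] at h3
  rcases h3 with e | e | e | e | e | e | e | e
  exacts [bad 1 (one_mem _) (by rwa [mul_one]), bad _ zF e, bad _ m3 e, bad _ m4 e, bad _ (mul_mem zF m3) e,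
    bad _ (mul_mem zF m4) e, bad _ (mul_mem m3 m4) e, bad _ (mul_mem (mul_mem zF m3) m4) e]

theorem NRel.hyp_swap (h : s.NRel n) (hy : s.Hyp) (hG : NE.NoIdx G) : s.swap.Hyp :=
  ⟨s.tw_eq.2.2.1 ▸ hy.wc, h.con_zc hy hG, h.not_c hy.wc⟩

theorem NRel.exists_m (h : s.NRel n) (hy : s.Hyp) (hG : NE.NoIdx G) : ∃ m, s.swap.NRel m := by
  obtain ⟨m, hm⟩ := (h.hyp_swap hy hG).exists_n
  refine ⟨m, hm.resolve_right fun h1 => h1.not_c (h.hyp_swap hy hG).tw.wc ?_⟩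
  have h2 : s.p1 = s.b * s.z := Cod.listsL_nil.decide s.rep (by decide +kernel)
  exact (h2 ▸ hy.hb : s.Con (s.b * s.z))

end St

end Cfsg.Agent.W2.L43
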