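import Mathlib
import Cfsg.Agent.W2.L43B
import Cfsg.Agent.W2.L43K
import Cfsg.Agent.Rec.J23.StepC1
import Cfsg.Agent.Rec.J23.A6

/-!
The centralisers of `j` and of `z₁`.
-/

set_option autoImplicit false
set_option synthInstance.maxSize 100000
set_option synthInstance.maxHeartbeats 1000000
set_option linter.unusedSectionVars false

namespace Cfsg.Agent.W2.L43

open Cfsg.Agent.Spor Cfsg.Agent.Rec Cfsg.Agent.Inv.Fz Subgroup

universe u

variable {G : Type u} [Group G] [Finite G]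

theorem normalK {G₀ : Type*} [Group G₀] [Finite G₀] {C : Cod B G₀} {e : List G₀} (h : C.RepL cK e) {x y : G₀}
    (hx : C.Rep (nth 0 cY 6) x) (hy : C.Rep (nth 0 cY 7) y) {K : Subgroup G₀} (hK : K ≤ clos e)
    (hn : ∀ g ∈ clos e, ∀ k ∈ K, g * k * g⁻¹ ∈ K) (h3 : K ≠ ⊥) : x ∈ K ∨ y ∈ K := by
  have h4 : ∀ k ∈ clos e, k = 1 ∨ k = x ∨ k * k = x ∨ ∃ g ∈ cls e y, Let (g * k * g⁻¹ * k⁻¹) fun w =>
      w ∈ cls e y ∨ w * w ∈ cls e y :=
    ((h.gen K_ok).1.cons ((h.orb hy cZ_ok).1.cons Cod.listsL_nil)).decide (hx.cons Cod.repL_nil) (by decide +kernel)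
  have yH : y ∈ clos e := ((h.gen K_ok).1.cons Cod.listsL_nil).decide (hy.cons Cod.repL_nil) (by decide +kernel)
  obtain ⟨⟨k, hk⟩, k1⟩ := ne_bot_iff_exists_ne_one.1 h3
  rcases h4 k (hK hk) with e | e | e | ⟨_, ⟨g, hg, rfl⟩, h5⟩
  · exact absurd (Subtype.ext e) k1
  · exact .inl (e ▸ hk)
  · exact .inl (e ▸ mul_mem hk hk)
  · have h6 := mul_mem (hn _ (mul_mem (mul_mem hg yH) (inv_mem hg)) k hk) (inv_mem hk)
    rcases h5 with ⟨r, hr, e⟩ | ⟨r, hr, e⟩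
    · exact .inr (cj_symm e ▸ hn _ (inv_mem hr) _ h6)
    · exact .inr (cj_symm e ▸ hn _ (inv_mem hr) _ (mul_mem h6 h6))

theorem codK {e : List G} (hl : e.length = 6) (hs : Sat rK e) (h1 : evalW (nth 1 e) [0, 1, 0, 1] ≠ 1)
    (h2 : evalW (nth 1 e) [2, 3, 2, 3] ≠ 1) : ∃ C : Cod B G, C.RepL cK e := by
  have h₀ := repL_permOf B_ok cK_ok
  generalize List.map _ cK = e₀ at h₀
  refine pK.cod_of_normal h₀ (h₀.sat (by decide +kernel)) h₀.length_eq.symm (h₀.gen K_ok).2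
    (W := [[0, 1, 0, 1], [2, 3, 2, 3]]) (fun K hK hn h3 => ?_) hs hl
    (List.forall_mem_cons.2 ⟨h1, List.forall_mem_singleton.2 h2⟩)
  have e1 : evC B cK [0, 1, 0, 1] = nth 0 cY 6 := by decide +kernel
  have e2 : evC B cK [2, 3, 2, 3] = nth 0 cY 7 := by decide +kernel
  exact (normalK h₀ (e1 ▸ h₀.word [0, 1, 0, 1]) (e2 ▸ h₀.word [2, 3, 2, 3]) hK hn h3).elim
    (fun h => ⟨_, List.mem_cons_self, h⟩) fun h => ⟨_, List.mem_cons_of_mem _ List.mem_cons_self, h⟩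

namespace St

variable {s : St G} {n m : G}

theorem NRel.ne3' (h : s.NRel n) : (n * (s.f * s.e * s.f)) ^ 3 = 1 := by
  have a : s.e * s.f * s.e * s.e * (s.e * s.f * s.e)⁻¹ = s.f * s.e * s.f :=
    Cod.listsL_nil.decide s.rep (by decide +kernel)
  have h1 : s.e * s.f * s.e * n * (s.e * s.f * s.e)⁻¹ = n :=
    mul_inv_eq_iff_eq_mul.2 (mul_inv_eq_iff_eq_mul.1 h.act.2.2.2.2.1).symm
  rw [← a]
  nth_rewrite 1 [← h1]
  rw [← cj_mul', conj_pow, h.ne3]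
  group

theorem NRel.normF (h : s.NRel n) : n ∈ normalizer (s.F : Set G) := by
  obtain ⟨-, a1, a2, a3, -⟩ := h.act
  have a : s.ph * s.p1 ∈ s.F ∧ s.z1 ∈ s.F ∧ s.f ∈ s.F ∧ s.q1 ∈ s.F := s.hL.decide s.rep (by decide +kernel)
  refine mem_normalizer_of_conj_mem (conj_clos_mem ?_)
  simp only [List.mem_cons, List.not_mem_nil, or_false, forall_eq_or_imp, forall_eq, a1, a2, a3, a, true_and]
  rw [q1, cj_mul', cj_mul', h.d, a2]
  exact a.2.2.2

/-- Both involutions. -/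
structure Both (s : St G) (n m : G) : Prop where
  hy : s.Hyp
  hn : s.NRel n
  hm : s.swap.NRel m

theorem Both.act (h : s.Both n m) : m * s.e * m⁻¹ = s.z2 ∧ m * s.z2 * m⁻¹ = s.e ∧ m * s.z1 * m⁻¹ = s.z1 ∧
    m * s.c * m⁻¹ = s.z * (s.f * s.e * s.f) * s.zc ∧ m * (s.f * s.e * s.f) * m⁻¹ = s.f * s.e * s.f ∧
    m * s.j * m⁻¹ = s.j ∧ m * s.z * m⁻¹ = s.z * (s.f * s.e * s.f) ∧ m * (s.z * (s.f * s.e * s.f)) * m⁻¹ = s.z ∧
    m * s.a * m⁻¹ = s.a ∧ m * s.b * m⁻¹ = s.b := by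
  obtain ⟨a1, a2, a3, a4, a5, a6, -⟩ := h.hm.act
  have e : s.c * s.b * s.z2 = s.j⁻¹ := Cod.listsL_nil.decide s.rep (by decide +kernel)
  rw [j, s.tw_eq.2.2.2] at a6
  rw [s.tw_eq.2.2.2] at a1 a2
  rw [s.tw_eq.2.2.1] at a3
  refine ⟨a1, a2, a3, a4, a5, inv_injective ?_, h.hm.z, h.hm.nu.ph, h.hm.d, h.hm.c⟩
  rw [conj_inv, ← e]
  exact a6

theorem Both.rel (h : s.Both n m) : m * m = 1 ∧ (m * s.f) ^ 3 = 1 ∧ m * (s.b * (m * s.b)) = 1 ∧
    m * (s.a * (m * s.a)) = 1 ∧ m * (s.f * (s.e * (s.f * (m * (s.f * (s.e * s.f)))))) = 1 ∧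
    m * (s.e * (m * (s.f * (s.e * (s.f * s.e))))) = 1 ∧ m * (s.c * (m * (s.c * (s.f * (s.e * s.f))))) = 1 :=
  ⟨h.hm.nn, h.hm.ne3, h.hm.rel⟩

theorem Both.satL (h : s.Both n m) : Sat rL [s.b, s.c, s.e, s.f, n, m] := by
  obtain ⟨r1, -, r2, r3, r4⟩ := h.hn.rel
  have r5 := h.hn.ne3
  obtain ⟨r6, r7, r8, -, r9, r10, r11⟩ := h.rel
  simp only [pow_succ, pow_zero, one_mul, mul_assoc] at r5 r7
  refine sat_append.2 ⟨sat_append.2 ⟨((s.rep.pick [1, 2, 5, 6]).sat (by decide +kernel)).extend [n, m] (m := 4) rfl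
    (by decide +kernel), ?_⟩, ?_⟩ <;>
  simp only [exN, exM, sat_cons, sat_nil, evalW_cons, evalW_nil, nth_zero, nth_succ, mul_one, and_true, h.hn.nn, r1,
    r2, r3, r4, r5, r6, r7, r8, r9, r10, r11]

theorem Both.not_collapse (h : s.Both n m) {ws : List (List ℕ)} (hb : Bound.{u} (rL ++ ws) 5 6 1) :
    ¬ Sat ws [s.b, s.c, s.e, s.f, n, m] := fun h1 => by
  have a : (∀ x ∈ s.F, s.b * x * s.b⁻¹ ∈ s.F ∧ s.c * x * s.c⁻¹ ∈ s.F ∧ s.e * x * s.e⁻¹ ∈ s.F ∧ s.f * x * s.f⁻¹ ∈ s.F) ∧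
      s.z * (s.f * s.e * s.f) ∉ s.F := s.hL.decide s.rep (by decide +kernel)
  have h2 := hb.mem (sat_append.2 ⟨h.satL, h1⟩) (H := normalizer (s.F : Set G)) (fun x hx => by
    interval_cases x
    exacts [mem_normalizer_of_conj_mem fun y hy => (a.1 y hy).1, mem_normalizer_of_conj_mem fun y hy => (a.1 y hy).2.1,
      mem_normalizer_of_conj_mem fun y hy => (a.1 y hy).2.2.1, mem_normalizer_of_conj_mem fun y hy => (a.1 y hy).2.2.2,
      h.hn.normF]) 5 (by norm_num)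
  exact a.2 (h.act.2.2.2.2.2.2.1 ▸ conj_mem_of_mem_norm h2 s.le.2.2.2.2.2.2.2.1)

theorem Hyp.not_z2 (h : s.Hyp) : ¬ s.Con s.z2 := fun h1 => by
  have a : s.t * s.z2 * s.t⁻¹ = s.z1 := Cod.listsL_nil.decide s.rep (by decide +kernel)
  exact h.wc (a ▸ h1.conj _)

theorem Both.cent_j (h : s.Both n m) : ∃ C : Cod B G, C.RepL cK [s.b, s.c, s.e, s.f, n, m] ∧
    centralizer {s.j} ≤ clos [s.b, s.c, s.e, s.f, n, m] := by
  have a : s.e * s.j = s.j * s.e ∧ s.f * s.j = s.j * s.f ∧ s.z2 * s.z2 = 1 ∧ s.z2 ∉ s.Z ∧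
      s.e * s.f * s.e * (s.e * s.f * s.e) = 1 ∧ s.e * s.f * s.e ∉ s.Z ∧ s.f * s.e * s.f * (s.f * s.e * s.f) = 1 ∧
      s.f * s.e * s.f ∉ s.Z ∧ s.e * s.f * s.e * (s.f * s.e * s.f) * (s.e * s.f * s.e) * (s.f * s.e * s.f) = s.z2 ∧
      s.f = s.z2 * (s.e * s.f * s.e) ∧ s.e = s.z2 * (s.f * s.e * s.f) ∧
      (∀ w ∈ s.Z, w ^ 4 = 1 ∧ Let (w * s.z2) fun y => y * y = 1 → y = s.z2 ∨ y = s.z) ∧ s.z = s.j * s.j * s.z2 ∧
      (∀ h ∈ s.H, h * s.j = s.j * h → h ∈ s.J0) ∧ s.e * s.z2 = s.z2 * s.e ∧ s.f * s.z2 = s.z2 * s.f ∧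
      s.b * (s.c * (s.b * s.c)) ≠ 1 ∧ s.e * (s.f * (s.e * s.f)) ≠ 1 := s.hL.decide s.rep (by decide +kernel)
  obtain ⟨ej, fj, a1, a2, a3, a4, a5, a6, a7, a8, a9, a10, a11, a12, a13, a14, a15, a16⟩ := a
  set K := centralizer ({s.j} : Set G) with hK
  have hZ : ∀ g ∈ K, ∀ w ∈ s.Z, g * w = w * g := fun g hg => commute_clos (by simpa using mem_cen.1 hg)
  obtain ⟨L, _, _, π, hπ, hk⟩ := exists_quot (K := K) (N := s.Z) fun g hg =>
    mem_normalizer_of_conj_mem fun w hw => by rwa [hZ g hg w hw, mul_inv_cancel_right]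
  let E : K := ⟨s.e, mem_cen.2 ej⟩
  let F : K := ⟨s.f, mem_cen.2 fj⟩
  let N : K := ⟨n, mem_cen'.2 h.hn.act.2.2.2.2.2.1⟩
  let M : K := ⟨m, mem_cen'.2 h.act.2.2.2.2.2.1⟩
  have m1 : ∀ {u v : K}, (u : G) = v → π u = π v := fun h => congrArg π (Subtype.ext h)
  have o2 : ∀ u : K, (u : G) * u = 1 → (u : G) ∉ s.Z → orderOf (π u) = 2 := fun u h1 h2 =>
    orderOf_eq_prime (by rw [pow_two, ← map_mul, m1 (v := 1) h1, map_one]) fun e => h2 ((hk u).1 e)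
  have hC : centralizer {π (E * F * E * F)} = closure {π (E * F * E), π (F * E * F)} := by
    refine le_antisymm (fun c hc => ?_) ((closure_le _).2 ?_)
    · obtain ⟨k, rfl⟩ := hπ c
      have h1 : (k : G) * s.z2 * (k : G)⁻¹ * s.z2⁻¹ ∈ s.Z := (hk (k * (E * F * E * F) * k⁻¹ * (E * F * E * F)⁻¹)).1 (by
        rw [map_mul, map_mul, map_mul, map_inv, map_inv, mem_cen'.1 hc, mul_inv_cancel])
      have h2 := (a10 _ h1).2
      rw [let_iff, inv_mul_cancel_right] at h2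
      have h3 := (h2 (conj_sq a1)).resolve_right fun e => h.hy.not_z2 ⟨_, cj_symm e⟩
      have h4 := mem_cen'.1 k.2
      have h5 := a12 k (s.mem_H' (by rw [a11, cj_mul', cj_mul', h3, h4])) (mem_cen.1 k.2)
      have b1 : π (E * F * E) ∈ closure {π (E * F * E), π (F * E * F)} := subset_closure (by simp)
      have b2 : π (F * E * F) ∈ closure {π (E * F * E), π (F * E * F)} := subset_closure (by simp)
      generalize closure {π (E * F * E), π (F * E * F)} = Y at b1 b2 ⊢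
      replace b1 : E * F * E ∈ Y.comap π := b1
      replace b2 : F * E * F ∈ Y.comap π := b2
      have b3 : s.z2 ∈ (Y.comap π).map K.subtype := ⟨_, mul_mem (mul_mem (mul_mem b1 b2) b1) b2, a7⟩
      have h6 : s.J0 ≤ (Y.comap π).map K.subtype := by
        refine clos_le.2 ?_
        simp only [List.mem_cons, List.not_mem_nil, or_false, forall_eq_or_imp, forall_eq]
        refine ⟨⟨⟨s.j, mem_cen.2 rfl⟩, ?_, rfl⟩, ?_, ?_⟩
        · rw [SetLike.mem_coe, mem_comap, (hk _).2 (mem_clos (by simp))]; exact one_mem _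
        · rw [a9]; exact mul_mem b3 ⟨_, b2, rfl⟩
        · rw [a8]; exact mul_mem b3 ⟨_, b1, rfl⟩
      obtain ⟨k', h7, h8⟩ := h6 h5
      exact (Subtype.ext h8 : k' = k) ▸ h7
    · have b1 : E ∈ (centralizer {π (E * F * E * F)}).comap π :=
        mem_cen.2 (by rw [← map_mul, ← map_mul]; exact m1 a13)
      have b2 : F ∈ (centralizer {π (E * F * E * F)}).comap π :=
        mem_cen.2 (by rw [← map_mul, ← map_mul]; exact m1 a14)
      rintro _ (rfl | rfl)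
      exacts [mul_mem (mul_mem b1 b2) b1, mul_mem (mul_mem b2 b1) b2]
  have ni := h.hn.ni
  have mi := h.hm.ni
  obtain ⟨-, -, -, -, ei, fi, -⟩ := s.inv
  have hrel : ∀ w ∈ s.Z, w * s.e * w⁻¹ * s.e = 1 := fun w hw => by
    rw [← hZ _ E.2 w hw, mul_inv_cancel_right, s.sq.2.2.2.2.1]
  rcases J23.dih_fused (z := π (E * F * E * F)) (a := π (E * F * E)) (b := π (F * E * F)) (p := π N) (r := π M)
    (o2 _ a1 a2) (o2 _ a3 a4) (o2 _ a5 a6) (by simp only [← map_mul]; exact m1 a7) hC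
    (by simp only [← map_mul, ← map_inv]; exact m1 (h.hn.act.2.1.trans a8))
    (by simp only [← map_mul, ← map_inv]; exact m1 (h.act.2.1.trans a9)) with ⟨⟨φ⟩⟩ | ⟨⟨φ⟩⟩
  swap
  · exfalso
    rcases J23.sl3_rel (p := φ (π N)) (r := φ (π M)) (by rw [← map_mul, ← map_mul, m1 (v := 1) h.hn.nn]; simp)
      (by rw [← map_mul, ← map_mul, m1 (v := 1) h.hm.nn]; simp) with h1 | h1 <;>
      rw [← map_mul, ← map_pow, map_eq_one_iff _ φ.injective, ← map_mul, ← map_pow, hk] at h1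
    · exact h.not_collapse tc3_bd (by simpa [ex3, sat_cons, sat_nil, pow_succ, mul_assoc, N, M, ni, mi] using hrel _ h1)
    · exact h.not_collapse tc4_bd (by simpa [ex4, sat_cons, sat_nil, pow_succ, mul_assoc, N, M, ni, mi] using hrel _ h1)
  have m2 : ∀ u v : K, (u : G) * v = 1 → φ (π u) * φ (π v) = 1 := fun u v h => by
    rw [← map_mul, ← map_mul, m1 (v := 1) h, map_one, map_one]
  have m3 : ∀ (u v : K) {k : ℕ}, ((u : G) * v) ^ k = 1 → (φ (π u) * φ (π v)) ^ k = 1 := fun u v k h => by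
    rw [← map_mul, ← map_mul, ← map_pow, ← map_pow, m1 (v := 1) h, map_one, map_one]
  have m4 : ∀ u v : K, (u : G) * v * (u : G)⁻¹ = v → φ (π u) * φ (π v) = φ (π v) * φ (π u) := fun u v h => by
    rw [← map_mul, ← map_mul, ← map_mul, ← map_mul, m1 (v := v * u) (mul_inv_eq_iff_eq_mul.1 h)]
  have e2 : ((E * F * E * (F * E * F)) ^ 2 : K) = E * F * E * F := Subtype.ext (by
    rw [pow_two, ← mul_assoc]; exact a7)
  have h1 := (J23.a6_rel (a := φ (π (E * F * E))) (b := φ (π (F * E * F))) (p := φ (π N)) (r := φ (π M))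
    (m2 _ _ a3) (m2 _ _ a5) (m2 _ _ h.hn.nn) (m2 _ _ h.hm.nn)
    (by rw [← map_mul, ← map_mul, ← map_pow, ← map_pow, e2, Ne, map_eq_one_iff _ φ.injective, hk]; exact a2)
    (by rw [← map_mul, ← map_mul, ← map_pow, ← map_pow, show 4 = 2 * 2 from rfl, pow_mul, e2, pow_two,
      m1 (v := 1) a1, map_one, map_one])
    (m4 _ _ h.hn.act.2.2.2.2.1) (m3 _ _ h.hn.ne3') (m4 _ _ h.act.2.2.2.2.1) (m3 _ _ h.hm.ne3')).2.2.2
  simp only [← map_mul, ← map_pow] at h1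
  rw [map_eq_one_iff _ φ.injective, hk] at h1
  replace h1 : (n * (s.f * s.e * s.f) * (s.e * s.f * s.e) * m) ^ 4 ∈ s.Z := h1
  have h2 := hrel _ h1
  have h3 := (a10 _ h1).1
  simp only [pow_succ, pow_zero, one_mul, mul_assoc, mul_inv_rev, ni, mi, ei, fi] at h2 h3
  obtain ⟨C, hC⟩ := codK (e := [s.b, s.c, s.e, s.f, n, m]) rfl (sat_append.2 ⟨h.satL, by
    simp only [exK, sat_cons, sat_nil, evalW_cons, evalW_nil, nth_zero, nth_succ, mul_one, and_true, h2, h3]⟩)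
    (by simpa using a15) (by simpa using a16)
  refine ⟨C, hC, ?_⟩
  have hj : C.Rep (nth 0 cY 8) s.j := hC.term (s.b * s.c * (s.e * s.f * s.e * s.f)) (by decide +kernel)
  have h4 := ((hj.cons (hC.pick [2, 3, 4, 5])).gen C1_ok).2
  have h5 := π.ker.index_mul_card
  have h6 : π.ker = s.Z.subgroupOf K := by ext x; exact hk x
  have h8 : s.Z ≤ K := clos_le.2 (by simpa using mem_cen.2 rfl)
  rw [index_ker, MonoidHom.range_eq_top.2 hπ, card_top, h6, Nat.card_congr (subgroupOfEquivOfLe h8).toEquiv, s.gZ.2,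
    Nat.card_congr φ.toEquiv, J23.card_A6] at h5
  have h7 : clos [s.j, s.e, s.f, n, m] = K := eq_of_le_of_card_ge (clos_le.2 (by
    simp only [List.mem_cons, List.not_mem_nil, or_false, forall_eq_or_imp, forall_eq]
    exact ⟨mem_cen.2 rfl, E.2, F.2, N.2, M.2⟩)) (h5.symm.trans h4.symm).le
  rw [← h7]
  refine clos_le.2 ?_
  simp only [List.mem_cons, List.not_mem_nil, or_false, forall_eq_or_imp, forall_eq]
  have b : ∀ {x}, x ∈ [s.b, s.c, s.e, s.f, n, m] → x ∈ clos [s.b, s.c, s.e, s.f, n, m] := mem_clos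
  exact ⟨mul_mem (mul_mem (b (by simp)) (b (by simp))) (mul_mem (mul_mem (mul_mem (b (by simp)) (b (by simp)))
    (b (by simp))) (b (by simp))), b (by simp), b (by simp), b (by simp), b (by simp)⟩

end St

end Cfsg.Agent.W2.L43
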