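import Mathlib
import Cfsg.Agent.W2.L43K
import Cfsg.Agent.Spor.NM.F3x4
import Cfsg.Agent.Rec.Loc
import Cfsg.Agent.S2403
import Cfsg.Agent.Cl.LinearBasic

/-!
Generators of `L₄(3)` satisfying the relators `rG`.
-/

set_option autoImplicit false

namespace Cfsg.Agent.W2.L43

open Cfsg.Agent.Spor Cfsg.Agent.Spor.NM Cfsg.Agent.Rec Subgroup

/-- The special linear group. -/
abbrev SL43 : Type := Matrix.SpecialLinearGroup (Fin 4) (ZMod 3)
/-- The projective special linear group. -/
abbrev PSL43 : Type := Matrix.ProjectiveSpecialLinearGroup (Fin 4) (ZMod 3)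

instance : Fact (Even (Fintype.card (Fin 4))) := ⟨by decide⟩

/-- The matrix with a given code. -/
def dm (a : ℕ) : Matrix (Fin 4) (Fin 4) (ZMod 3) := dec (Equiv.refl (Fin 4)) 8 (fun x => (x : ZMod 3)) a

theorem det_ok : ∀ x < 8, (dm (nth 0 cM x)).det = 1 := by decide +kernel

theorem ent_ok : allLt 8 (fun x => F3x4.ent (nth 0 cM x)) = true := by decide +kernel

/-- The generators. -/
noncomputable def sl (x : ℕ) : SL43 := if h : x < 8 then ⟨dm (nth 0 cM x), det_ok x h⟩ else 1

theorem coe_ev {w : List ℕ} (hw : lettersLt 8 w = true) :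
    Ent 8 (4 * 4) (· < 3) (evN F3x4.mul F3x4.one (nth 0 cM) w) ∧
      ((evalW sl w : SL43) : Matrix _ _ _) = dm (evN F3x4.mul F3x4.one (nth 0 cM) w) := by
  rw [lettersLt_iff] at hw
  induction w with
  | nil => exact ⟨F3x4.spec.ent_one, (F3x4.spec.dec_one _).symm⟩
  | cons x w ih =>
    obtain ⟨h1, h2⟩ := ih fun y hy => hw y (List.mem_cons_of_mem _ hy)
    have hx := hw x List.mem_cons_self
    have h3 := F3x4.spec.of_ent _ ((allLt_iff _ _).1 ent_ok x hx)
    refine ⟨F3x4.spec.ent_mul _ _ h3 h1, ?_⟩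
    have h4 : (sl x : Matrix _ _ _) = dm (nth 0 cM x) := congrArg Subtype.val (dif_pos hx)
    rw [evalW_cons, Matrix.SpecialLinearGroup.coe_mul, h2, h4]
    exact (F3x4.spec.dec_mul _ h3 h1).symm

/-- The projection. -/
abbrev pr : SL43 →* PSL43 := QuotientGroup.mk' _

theorem pr_neg (g : SL43) : pr (-g) = pr g := by
  have h : pr (-1) = 1 := (QuotientGroup.eq_one_iff _).2 (mem_center_iff.2 fun g => by simp)
  rw [← neg_one_mul, map_mul, h, one_mul]

/-- The generators of `L₄(3)`. -/
noncomputable def eM : List PSL43 := (List.range 8).map fun x => pr (sl x)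

theorem ev_eM {w : List ℕ} (hw : lettersLt 8 w = true) : evalW (nth 1 eM) w = pr (evalW sl w) := by
  rw [map_evalW]
  refine evalW_congr fun x hx => ?_
  have h := (lettersLt_iff _ _).1 hw x hx
  rw [nth_of_lt 1 (by simpa [eM] using h)]
  simp [eM]

theorem sat_eM : Sat rG eM := by
  have h : allL rG (fun w => band (lettersLt 8 w) (force (evN F3x4.mul F3x4.one (nth 0 cM) w) fun a =>
      bor (Nat.beq a F3x4.one) (Nat.beq a mN))) = true := by decide +kernel
  intro w hw
  have h1 := (allL_iff _ _).1 h w hw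
  rw [band_iff, force_eq, bor_iff, nbeq_iff, nbeq_iff] at h1
  have h2 := (coe_ev h1.1).2
  rw [ev_eM h1.1]
  rcases h1.2 with h3 | h3 <;> rw [h3] at h2
  · rw [show evalW sl w = 1 from Subtype.ext (h2.trans (F3x4.spec.dec_one _)), map_one]
  · have h4 : dm mN = -1 := by decide +kernel
    rw [show evalW sl w = -1 from Subtype.ext (h2.trans h4), pr_neg, map_one]

theorem clos_eM : clos eM = ⊤ := by
  have h1 := (coe_ev (w := wX) (by decide +kernel)).2
  have h2 := (coe_ev (w := wW) (by decide +kernel)).2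
  rw [show evN F3x4.mul F3x4.one (nth 0 cM) wX = mX by decide +kernel] at h1
  rw [show evN F3x4.mul F3x4.one (nth 0 cM) wW = mW by decide +kernel] at h2
  have h3 := S2403.result (K := ZMod 3) (by simp) 3 (by norm_num) (evalW sl wX) (-evalW sl wW)
    (h1.trans (by decide +kernel)) (by rw [Matrix.SpecialLinearGroup.coe_neg, h2]; decide +kernel)
  have h4 : (clos eM).comap pr = ⊤ := by
    refine top_le_iff.1 (h3.ge.trans (sup_le ((closure_le _).2 ?_) fun g hg => ?_))
    · rintro _ (rfl | rfl)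
      · show pr _ ∈ clos eM
        rw [← ev_eM (by decide +kernel)]
        exact evalW_mem fun i _ => nth_mem_clos _ i
      · show pr _ ∈ clos eM
        rw [pr_neg, ← ev_eM (by decide +kernel)]
        exact evalW_mem fun i _ => nth_mem_clos _ i
    · show pr g ∈ clos eM
      rw [show pr g = 1 from (QuotientGroup.eq_one_iff _).2 hg]
      exact one_mem _
  refine eq_top_iff.2 fun g _ => ?_
  obtain ⟨g, rfl⟩ := QuotientGroup.mk'_surjective _ g
  exact h4.ge (mem_top g)

theorem card_PSL43 : Nat.card PSL43 = 6065280 := by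
  rw [Cl.card_psl]
  simp [Finset.prod_range_succ]

universe u

theorem equiv_of_sat {G : Type u} [Group G] {e : List G} (hs : Sat rG e) (hl : e.length = 8) (hne : clos e ≠ ⊥) :
    Nonempty (clos e ≃* PSL43) :=
  have : IsSimpleGroup PSL43 := Cl.psl_fin_isSimpleGroup (by norm_num) (by norm_num)
  pG.nonempty_equiv sat_eM hs (by simp [eM]) hl clos_eM card_PSL43 hne

end Cfsg.Agent.W2.L43
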