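import Mathlib
import Cfsg.Agent.W2.L43C
import Cfsg.Agent.W2.L43Model

/-!
A group without subgroup of index two in which the centraliser of an involution is the Weyl group of type `F₄`, with
the fusion of `L₄(3)`, is `L₄(3)`.
-/

set_option autoImplicit false
set_option synthInstance.maxSize 100000
set_option synthInstance.maxHeartbeats 1000000
set_option linter.unusedSectionVars false

namespace Cfsg.Agent.W2.L43

open Cfsg.Agent.Spor Cfsg.Agent.Rec Cfsg.Agent.Inv.Fz Subgroup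

universe u

/-- The Coxeter relations of `W(F₄)`. -/
def RelF4 {G : Type u} [Group G] (a b c d : G) : Prop :=
  a * a = 1 ∧ b * b = 1 ∧ c * c = 1 ∧ d * d = 1 ∧ (a * b) ^ 3 = 1 ∧ (b * c) ^ 4 = 1 ∧ (c * d) ^ 3 = 1 ∧
    a * c = c * a ∧ a * d = d * a ∧ b * d = d * b

variable {G : Type u} [Group G] [Finite G]

namespace St

variable {s : St G} {n m : G}

theorem Hyp.mem_H (h : s.Hyp) {R : Subgroup G} (hz : s.z ∈ R) (hR : ∀ x ∈ R, (∀ y ∈ R, x * y = y * x) → x * x = 1 →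
    x = 1 ∨ x = s.z ∨ x = s.z1 ∨ x = s.z2) (hH : R ≤ s.H) {g : G} (hg : g ∈ normalizer (R : Set G)) : g ∈ s.H := by
  rcases hR _ (conj_mem_of_mem_norm hg hz) (fun y hy => comm_of_conj' (g := g⁻¹) (by
    simpa [mul_assoc] using (s.cz (hH (conj_mem_of_mem_norm (inv_mem hg) hy))).symm)) (con_z.conj g).sq with
    e | e | e | e
  exacts [absurd e (con_z.conj g).ne, s.mem_H' e, absurd ⟨g, e⟩ h.wc, absurd ⟨g, e⟩ h.not_z2]

theorem Hyp.not_conj (h : s.Hyp) (k : G) : k * s.j * k⁻¹ ≠ s.b * s.c := fun hk => by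
  have a : (∀ x ∈ s.J0, (∀ y ∈ s.J0, x * y = y * x) → x * x = 1 → x = 1 ∨ x = s.z ∨ x = s.z1 ∨ x = s.z2) ∧
      (∀ x ∈ s.J0, x * s.j = s.j * x ∧ x * (s.b * s.c) = s.b * s.c * x) ∧
      ∀ h ∈ s.H, h * s.j * h⁻¹ ≠ s.b * s.c ∧ (h * (s.b * s.c) = s.b * s.c * h → h ∈ s.J0) :=
    s.hL.decide s.rep (by decide +kernel)
  obtain ⟨a1, a2, a3⟩ := a
  obtain ⟨-, TH, -, -, -, JT, J0J, -, -, zJ, -⟩ := s.le
  have hp : IsPGroup 2 s.J0 := IsPGroup.of_card (n := 5) s.gJ0.2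
  have hH := (J0J.trans JT).trans TH
  have hS : IsSylIn 2 s.J0 (centralizer {s.b * s.c}) := isSylIn_of_normalizer (isSylIn_self hp)
    (fun x hx => mem_cen.2 (a2 x hx).2) fun g hg h1 => (a3 g (h.mem_H zJ a1 hH h1)).2 (mem_cen.1 hg)
  obtain ⟨v, hv, h1⟩ := hS.exists_cj_le (isPGroup_cj hp k)
    (cj_le_iff.2 fun x hx => mem_cen.2 (hk ▸ comm_of_conj (a2 x hx).1))
  refine (a3 (v * k) (h.mem_H zJ a1 hH (mem_normalizer_of_conj_mem fun x hx => ?_))).1 ?_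
  · rw [cj_cj]; exact h1 (conj_mem_cj.2 (conj_mem_cj.2 hx))
  · rw [cj_cj, hk, mem_cen'.1 hv]

theorem Both.cent_z1 (h : s.Both n m) : centralizer {s.z1} ≤ clos [s.b, s.c, s.e, s.f, n, m] := by
  have a : (∀ x ∈ s.J, (∀ y ∈ s.J, x * y = y * x) → x * x = 1 → x = 1 ∨ x = s.z ∨ x = s.z1 ∨ x = s.z2) ∧
      (∀ x ∈ s.J, x * s.z1 = s.z1 * x ∧ x ^ 4 = 1 ∧ (x * x = s.z1 → x * s.j⁻¹ = 1 ∨ x * s.j⁻¹ = s.z1 ∨ ∃ h ∈ s.J,
        Let (h * x * h⁻¹) fun y => y = s.b * s.c ∨ y = s.j * s.f ∨ y = s.j * s.e)) ∧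
      (∀ h ∈ s.H, (h * s.z1 * h⁻¹ * s.z1⁻¹) ^ 4 = 1 ∧ (h * s.z1 = s.z1 * h → h ∈ s.J)) ∧ s.z1 ∈ s.J ∧ s.j ∈ s.J ∧
      s.j * s.j = s.z1 ∧ s.j * s.z2 = s.b * s.c ∧ s.b * (s.z1 * s.j) * s.b⁻¹ = s.j ∧ s.ps ∈ s.J ∧ s.ps * s.ps = 1 ∧
      s.b * s.a * s.f * (s.z * (s.f * s.e * s.f)) * (s.b * s.a * s.f)⁻¹ = s.zc ∧
      s.b * s.a * s.f * s.z1 * (s.b * s.a * s.f)⁻¹ ∈ s.J ∧ s.e * s.b ∈ s.J ∧
      s.e * s.b * s.ps * (s.e * s.b)⁻¹ = s.z * s.ps := s.hL.decide s.rep (by decide +kernel)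
  obtain ⟨a1, a2, a3, a4, a5, a6, a7, a8, a9, a10, a11, a12, a13, a14⟩ := a
  obtain ⟨-, TH, -, -, -, JT, J0J, -, -, zJ, -⟩ := s.le
  obtain ⟨n1, -, n2, -, -, n3, n4⟩ := h.hn.act
  obtain ⟨m1, -, m2, -, -, m3, m4, -⟩ := h.act
  set K := centralizer ({s.z1} : Set G) with hK
  have JK : s.J ≤ K := fun x hx => mem_cen.2 (a2 x hx).1
  have hS : IsSylIn 2 s.J K := isSylIn_of_normalizer (isSylIn_self (IsPGroup.of_card (n := 6) s.gJ.2)) JK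
    fun g hg h1 => (a3 g (h.hy.mem_H (J0J zJ) a1 (JT.trans TH) h1)).2 (mem_cen.1 hg)
  have hz := mem_zpowers_iff_of_sq s.sq.2.2.2.2.2.2.2.1 (x := s.z1)
  have key := zstar_mod (Z := zpowers s.z1) hS (zpowers_le.2 a4) (fun g hg w hw => by
    obtain ⟨k, rfl⟩ := hw; exact (Commute.zpow_right (mem_cen.1 hg) k).eq) a5 (fun g hg h1 => by
      rcases (a2 _ h1).2.2 (by rw [← cj_mul', a6, mem_cen'.1 hg]) with e | e | ⟨k, -, e | e | e⟩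
      · exact e ▸ one_mem _
      · exact e ▸ mem_zpowers _
      · exact absurd ((cj_cj k g _).trans e) (h.hy.not_conj _)
      · exact absurd (by rw [cj_cj, cj_cj, e, cj_mul', n3, n1, a7]) (h.hy.not_conj (n * (k * g)))
      · exact absurd (by rw [cj_cj, cj_cj, e, cj_mul', m3, m1, a7]) (h.hy.not_conj (m * (k * g))))
    fun O h1 h2 h3 => by
      have fpf : ∀ g : G, g * s.z1 * g⁻¹ ∈ K → ∀ k ∈ O, k * (g * s.z * g⁻¹) = g * s.z * g⁻¹ * k → k = 1 := by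
        intro g hg k hk e
        obtain ⟨b1, b2⟩ := a3 (g⁻¹ * k * g⁻¹⁻¹) (s.mem_H (comm_of_conj' (g := g) (by simpa [mul_assoc] using e)))
        have b3 := commute_of_odd h3 hk (h2 hg) (j := 2) (by
          rw [← conj_eq_one (g := g⁻¹), ← conj_pow, show 2 ^ 2 = 4 from rfl, ← b1]; congr 1; group)
        have b4 := (a2 _ (b2 (comm_of_conj' (g := g) (by simpa [mul_assoc] using b3)))).2.1
        rw [conj_pow, conj_eq_one] at b4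
        exact eq_one_of_odd_of_sq h3 hk (k := 2) b4
      have nK : n ∈ K := mem_cen'.2 n2
      have e1 : n * (s.b * s.a * s.f * m) * s.z * (n * (s.b * s.a * s.f * m))⁻¹ = s.ps := by
        rw [cj_cj, cj_cj, m4, a11, n4]
      have e2 : n * (s.b * s.a * s.f * m) * s.z1 * (n * (s.b * s.a * s.f * m))⁻¹ ∈ K := by
        rw [cj_cj, cj_cj, m2]
        exact mul_mem (mul_mem nK (JK a12)) (inv_mem nK)
      refine odd_eq_bot_of_four h3 s.sq.2.2.2.2.2.2.1 a10 (h2 (JK (J0J zJ))) (h2 (JK a9))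
        (by simpa using fpf 1 (by simpa using JK a4)) (e1 ▸ fpf _ e2) ?_
      have e3 := fpf (s.e * s.b * (n * (s.b * s.a * s.f * m))) (by
        rw [cj_cj]; exact mul_mem (mul_mem (JK a13) e2) (inv_mem (JK a13)))
      rwa [cj_cj, e1, a14] at e3
  obtain ⟨-, -, hj⟩ := h.cent_j
  intro g hg
  rcases (mem_zpowers_iff_of_sq s.sq.2.2.2.2.2.2.2.1).1 (key g hg) with e | e
  · exact hj (mem_cen'.2 (mul_inv_eq_one.1 e))
  · refine (mul_mem_cancel_left (mem_clos (by simp) : s.b ∈ _)).1 (hj (mem_cen'.2 ?_))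
    rw [cj_cj, mul_inv_eq_iff_eq_mul.1 e, a8]

theorem Both.satG (h : s.Both n m) : Sat rG [s.a, s.b, s.c, s.d, s.e, s.f, n, m] := by
  obtain ⟨C, hC, -⟩ := h.cent_j
  have k1 : (∀ k ∈ clos [s.b, s.c, s.e, s.f, n, m], k * k = 1 → k * s.c = s.c * k →
      k * (s.e * s.f * s.e) = s.e * s.f * s.e * k → (k * (s.e * s.b * s.c * s.b)) ^ 3 = 1 →
      k * (s.b * (s.c * (n * s.b))) = 1 ∨ k * (s.e * (s.f * (s.e * (s.b * (s.c * (n * s.b)))))) = 1) ∧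
      (n * m) ^ 5 = 1 ∧ (s.f * m * s.f * (s.b * (s.c * (n * s.b)))⁻¹) ^ 6 = 1 :=
    ((hC.gen K_ok).1.cons Cod.listsL_nil).decide hC (by decide +kernel)
  obtain ⟨k1, k2, k3⟩ := k1
  obtain ⟨-, -, -, m1, -, -, m2, m3, m4, m5⟩ := h.act
  obtain ⟨mm, mf, r1, r2, -, -, r3⟩ := h.rel
  obtain ⟨r4, r5, -, -, r6⟩ := h.hn.rel
  have ne := h.hn.ne3
  have mi := h.hm.ni
  obtain ⟨ai, bi, -, -, -, fi, -⟩ := s.inv
  have a : (s.a * s.f)⁻¹ * s.c * (s.a * s.f)⁻¹⁻¹ = s.c ∧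
      s.a * s.f * (s.z * (s.f * s.e * s.f) * s.zc) * (s.a * s.f)⁻¹ = s.z1 ∧
      (s.a * s.f)⁻¹ * s.e * (s.a * s.f)⁻¹⁻¹ = s.b * s.c * s.b ∧
      s.a * s.f * (s.b * (s.z * (s.f * s.e * s.f) * s.zc) * s.b) * (s.a * s.f)⁻¹ = s.e * s.b * s.c * s.b ∧
      (s.a * s.f)⁻¹ * s.f * (s.a * s.f)⁻¹⁻¹ = s.a ∧ s.a * s.f * s.a * (s.a * s.f)⁻¹ = s.f ∧
      s.e * s.b * s.c * s.b * s.f * (s.e * s.b * s.c * s.b) = s.e * s.f * s.e ∧
      (s.a * s.f)⁻¹ * s.a * (s.a * s.f)⁻¹⁻¹ = s.a * s.f * s.a ∧ s.a * s.f * (s.a * s.f) = s.f * s.a ∧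
      s.f * s.a * (s.a * s.f)⁻¹ = s.a * s.f := Cod.listsL_nil.decide s.rep (by decide +kernel)
  obtain ⟨a1, a2, a3, a4, a5, a6, a7, a8, a9, a10⟩ := a
  obtain ⟨g, hg⟩ : ∃ g, g = s.a * s.f * m * (s.a * s.f)⁻¹ := ⟨_, rfl⟩
  have e0 : ∀ x, g * x * g⁻¹ = s.a * s.f * (m * ((s.a * s.f)⁻¹ * x * (s.a * s.f)⁻¹⁻¹) * m⁻¹) * (s.a * s.f)⁻¹ :=
    fun x => by rw [hg]; group
  have g2 : g * g = 1 := hg ▸ conj_sq mm
  have gc : g * s.c * g⁻¹ = s.z1 := by rw [e0, a1, m1, a2]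
  have gz : g * s.z1 * g⁻¹ = s.c := by rw [← gc, ← cj_cj, g2]; group
  have ge : g * s.e * g⁻¹ = s.e * s.b * s.c * s.b := by rw [e0, a3, cj_mul' m, cj_mul' m, m5, m1, a4]
  have gf : g * s.f * g⁻¹ = s.f := by rw [e0, a5, m4, a6]
  have ga : g * s.a * g⁻¹ = s.f * m * s.f := by
    have h1 : m * s.f * m⁻¹ = s.f * m * s.f := by
      have h2 : m * s.f * m * (s.f * m * s.f) = 1 := by simpa only [pow_succ, pow_zero, one_mul, mul_assoc] using mf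
      rw [mi, eq_inv_of_mul_eq_one_left h2, mul_inv_rev, mul_inv_rev, fi, mi, mul_assoc]
    rw [e0, a8, cj_mul' m, cj_mul' m, m4, h1]
    calc _ = s.a * s.f * (s.a * s.f) * m * (s.f * s.a * (s.a * s.f)⁻¹) := by group
      _ = s.f * s.a * (m * s.a * m⁻¹) * m * s.f := by rw [a9, a10]; group
      _ = _ := by rw [m4, mul_assoc s.f, s.sq.1, mul_one]
  have gi : g⁻¹ = g := inv_eq_of_mul_eq_one_right g2
  have hE : Sat (rE ++ gN) [s.a, s.b, s.c, s.d, s.e, s.f, n, m] := by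
    refine sat_append.2 ⟨((s.rep.pick [0, 1, 2, 3, 5, 6]).sat (by decide +kernel)).extend [n, m] (m := 6) rfl
      (by decide +kernel), ?_⟩
    simp only [pow_succ, pow_zero, one_mul, mul_assoc] at ne
    simp only [gN, sat_cons, sat_nil, evalW_cons, evalW_nil, nth_zero, nth_succ, mul_one, and_true, h.hn.nn, r4, r5, r6,
      ne]
  have hM : Sat L43.gM [s.a, s.b, s.c, s.d, s.e, s.f, n, m] := by
    simp only [pow_succ, pow_zero, one_mul, mul_assoc] at mf k2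
    simp only [L43.gM, sat_cons, sat_nil, evalW_cons, evalW_nil, nth_zero, nth_succ, mul_one, and_true, mm, r1, r2, r3, mf,
      k2]
  have nz := h.hn.act.2.2.1
  rcases k1 (g * n * g⁻¹) (h.cent_z1 (mem_cen.2 (gc ▸ comm_of_conj (mul_inv_eq_iff_eq_mul.1 h.hn.c))))
    (conj_sq h.hn.nn) (gz ▸ comm_of_conj (mul_inv_eq_iff_eq_mul.1 nz)) (by
      have h1 := comm_of_conj (g := g) (mul_inv_eq_iff_eq_mul.1 h.hn.act.2.2.2.2.1)
      rwa [cj_mul' g (s.e * s.f), cj_mul' g s.e, ge, gf, a7] at h1)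
    (by rw [← ge, ← cj_mul', conj_pow, ne]; group) with e | e
  · have h1 : (s.a * n) ^ 6 = 1 := by
      rw [← conj_eq_one (g := g), ← conj_pow, cj_mul', ga, eq_inv_of_mul_eq_one_left e, k3]
    rw [gi, hg] at e
    simp only [pow_succ, pow_zero, one_mul, mul_assoc, mul_inv_rev, ai, fi] at e h1
    refine sat_append.2 ⟨sat_append.2 ⟨sat_append.2 ⟨hE, ?_⟩, hM⟩, ?_⟩ <;>
      simp only [gA, g1, sat_cons, sat_nil, evalW_cons, evalW_nil, nth_zero, nth_succ, mul_one, and_true, e, h1]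
  · exfalso
    rw [gi, hg] at e
    simp only [mul_assoc, mul_inv_rev, ai, fi] at e
    have h1 := tX_bd.mem (e := [s.a, s.b, s.c, s.d, s.e, s.f, n, m]) (sat_append.2 ⟨sat_append.2 ⟨hE, hM⟩, by
      simp only [L43.g2, sat_cons, sat_nil, evalW_cons, evalW_nil, nth_zero, nth_succ, mul_one, and_true, e]⟩)
      (H := s.H) (fun x hx => by
        have h2 : s.a ∈ s.H ∧ s.b ∈ s.H ∧ s.c ∈ s.H ∧ s.d ∈ s.H ∧ s.e ∈ s.H ∧ s.f ∈ s.H :=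
          s.hL.decide s.rep (by decide +kernel)
        interval_cases x
        exacts [h2.1, h2.2.1, h2.2.2.1, h2.2.2.2.1, h2.2.2.2.2.1, h2.2.2.2.2.2]) 6 (by norm_num)
    exact s.pts.2.2.1 ((s.cz' h1).symm.trans h.hn.z)

theorem Both.eq_top (h : s.Both n m) : clos [s.a, s.b, s.c, s.d, s.e, s.f, n, m] = ⊤ := by
  set M := clos [s.a, s.b, s.c, s.d, s.e, s.f, n, m]
  have hH : s.H ≤ M := clos_le.2 fun x hx => mem_clos (by simp only [List.mem_cons] at hx ⊢; tauto)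
  have hn : n ∈ M := mem_clos (by simp)
  have hm : m ∈ M := mem_clos (by simp)
  have a : (∃ h ∈ s.H, h * s.z2 * h⁻¹ = s.z1) ∧ (∃ h ∈ s.H, h * s.b * h⁻¹ = s.f) ∧ (∃ h ∈ s.H, h * s.p1 * h⁻¹ = s.ph) ∧
      (∃ h ∈ s.H, h * s.c * h⁻¹ = s.e) ∧ ∃ h ∈ s.H, h * s.zc * h⁻¹ = s.z * (s.f * s.e * s.f) :=
    s.hL.decide s.rep (by decide +kernel)
  obtain ⟨⟨h1, b1, a1⟩, ⟨h2, b2, a2⟩, ⟨h3, b3, a3⟩, ⟨h4, b4, a4⟩, h5, b5, a5⟩ := a
  have key : ∀ {x y g : G}, g ∈ M → g * x * g⁻¹ = y → (∃ k ∈ M, k * y * k⁻¹ = s.z ∨ k * y * k⁻¹ = s.z1) →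
      ∃ k ∈ M, k * x * k⁻¹ = s.z ∨ k * x * k⁻¹ = s.z1 := by
    rintro x _ g hg rfl ⟨k, hk, e⟩
    exact ⟨k * g, mul_mem hk hg, by rwa [cj_cj]⟩
  have c0 : ∃ k ∈ M, k * s.z * k⁻¹ = s.z ∨ k * s.z * k⁻¹ = s.z1 := ⟨1, one_mem _, .inl (by group)⟩
  have c1 : ∃ k ∈ M, k * s.z1 * k⁻¹ = s.z ∨ k * s.z1 * k⁻¹ = s.z1 := ⟨1, one_mem _, .inr (by group)⟩
  have c2 := key (hH b1) a1 c1
  have c3 := key (hH b5) a5 (key hm h.act.2.2.2.2.2.2.2.1 c0)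
  refine eq_top_of_two_classes (s.sylT.mono (s.le.2.1.trans hH) le_top) s.sq.2.2.2.2.2.2.1 s.sq.2.2.2.2.2.2.2.2
    s.sq.2.2.2.2.2.2.2.1 (fun g e => h.hy.wc ⟨g, e⟩) (s.cent.le.trans hH)
    (h.cent_z1.trans (clos_le.2 fun x hx => mem_clos (by simp only [List.mem_cons] at hx ⊢; tauto))) fun x hx x2 x1 => ?_
  obtain ⟨k, hk, e⟩ := (s.cls x (s.le.2.1 hx) x2).resolve_left x1
  rcases e with e | e | e | (e | e) | e | e <;> refine key (hH hk) e ?_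
  exacts [c0, c1, key (inv_mem hn) (cj_symm h.hn.act.2.2.2.2.2.2) c3, key (hH b2) a2 (key hn h.hn.act.1 c2),
    key (hH b3) a3 (key hn h.hn.nu.ph c0), key (hH b4) a4 (key hm h.act.1 c2), c3]

theorem Hyp.equiv (h : s.Hyp) (hG : NE.NoIdx G) : Nonempty (G ≃* PSL43) := by
  obtain ⟨s, n, h, hn⟩ : ∃ (s : St G) (n : G), s.Hyp ∧ s.NRel n := by
    obtain ⟨n, hn | hn⟩ := h.exists_n
    exacts [⟨s, n, h, hn⟩, ⟨s.tw, n, h.tw, hn⟩]
  obtain ⟨m, hm⟩ := hn.exists_m h hG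
  have hB : s.Both n m := ⟨h, hn, hm⟩
  obtain ⟨φ⟩ := equiv_of_sat hB.satG rfl fun e => s.sq.2.2.2.2.2.2.2.2 (mem_bot.1 (e ▸ hB.eq_top.ge (mem_top _)))
  exact ⟨(topEquiv.symm.trans (MulEquiv.subgroupCongr hB.eq_top.symm)).trans φ⟩

end St

theorem main {G : Type u} [Group G] [Finite G] (hG : ∀ H : Subgroup G, H.index ≠ 2) {a b c d z : G}
    (h : RelF4 a b c d)
    (hz : (a * b * c * d) ^ 6 = z) (z1 : z ≠ 1) (cent : centralizer {z} = clos [a, b, c, d])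
    (wc : ∀ g : G, g * z * g⁻¹ ≠ (b * c) ^ 2) (hb : ∃ g : G, g * z * g⁻¹ = b * z)
    (hb' : ∀ g : G, g * z * g⁻¹ ≠ b) :
    Nonempty (G ≃* Matrix.ProjectiveSpecialLinearGroup (Fin 4) (ZMod 3)) := by
  obtain ⟨h1, h2, h3, h4, h5, h6, h7, h8, h9, h10⟩ := h
  have k : ∀ {x y : G}, x * x = 1 → y * y = 1 → x * y = y * x → x * (y * (x * y)) = 1 := fun {x y} e1 e2 e3 => by
    rw [e3, ← mul_assoc y, e2, one_mul, e1]
  obtain ⟨C, hC⟩ := cod4 (a := a) (b := b) (c := c) (d := d) (by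
    simp only [pow_succ, pow_zero, one_mul, mul_assoc] at h5 h6 h7
    simp only [rH4, sat_cons, sat_nil, evalW_cons, evalW_nil, nth_zero, nth_succ, mul_one, and_true, h1, h2, h3, h4, h5,
      h6, h7, k h1 h3 h8, k h1 h4 h9, k h2 h4 h10]) (hz ▸ z1)
  let s : St G := ⟨a, b, c, d, z, C, hC, hz, cent⟩
  refine St.Hyp.equiv (s := s) ⟨fun ⟨g, e⟩ => wc g (e.trans ?_), ?_, fun ⟨g, e⟩ => hb' g e⟩ hG
  · show b * c * b * c = _
    rw [pow_two, mul_assoc (b * c)]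
  · obtain ⟨g, e⟩ := hb
    exact ⟨g, e.trans (s.cz (mem_clos (by simp [s])))⟩

end Cfsg.Agent.W2.L43
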