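import Mathlib
import Cfsg.Agent.Rec.Tree

/-!
Arithmetic in the two extraspecial groups of order 32 and in their automorphism groups, on natural numbers.
-/

set_option autoImplicit false

namespace Cfsg.Agent.W2

open Cfsg.Agent.Spor Cfsg.Agent.Rec

/-- The product of two codes; `T` is the table of the cocycle. -/
def mu (T a b : ℕ) : ℕ :=
  Nat.xor (Nat.xor a b)
    (Nat.shiftLeft (Nat.land (Nat.shiftRight T (Nat.add (Nat.mul 16 (Nat.land a 15)) (Nat.land b 15))) 1) 4)

/-- The inverse of a code. -/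
def iq (T a : ℕ) : ℕ := Nat.xor a (mu T a a)

/-- The image of a code under the automorphism with table `α`. -/
def ap (α n : ℕ) : ℕ := Nat.xor (Nat.land (Nat.shiftRight α (Nat.mul 5 (Nat.land n 15))) 31) (Nat.land n 16)

/-- Conjugation by `m`. -/
noncomputable def cq (T m n : ℕ) : ℕ := force (mu T m n) fun a => force (iq T m) fun b => mu T a b

/-- `a` if bit `i` of `n` is set, else the identity. -/
def sel (n i a : ℕ) : ℕ := Nat.mul a (Nat.land (Nat.shiftRight n i) 1)

/-- The value at `n` of the homomorphism with the given values on the four generators. -/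
noncomputable def lin (T a b c d n : ℕ) : ℕ :=
  force (mu T (sel n 0 a) (sel n 1 b)) fun x => force (mu T (sel n 2 c) (sel n 3 d)) fun y => mu T x y

/-- Its table. -/
noncomputable def tab (T a b c d : ℕ) : ℕ := sumF 16 fun n => Nat.shiftLeft (lin T a b c d n) (Nat.mul 5 n)

/-- A type of extraspecial group with its lists of automorphisms. -/
structure Ty where
  /-- The cocycle. -/
  T : ℕ
  /-- The square of the last two generators. -/
  s : ℕ
  /-- All automorphisms with their inverses. -/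
  A : ST
  /-- Those of order at most two. -/
  I : ST
  /-- Those of order one or three. -/
  C : ST
  /-- The orthogonal group. -/
  O : ST

/-- Lazy implication. -/
noncomputable def bimp (a b : Bool) : Bool := Bool.rec true b a

@[simp] theorem bimp_iff (a b : Bool) : bimp a b = true ↔ (a = true → b = true) := by
  cases a <;> cases b <;> simp [bimp]

/-- `f` and `g` agree on the four generators after masking. -/
noncomputable def agr (m : ℕ) (f g : ℕ → ℕ) : Bool :=
  band (Nat.beq (Nat.land (f 1) m) (Nat.land (g 1) m)) (band (Nat.beq (Nat.land (f 2) m) (Nat.land (g 2) m))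
    (band (Nat.beq (Nat.land (f 4) m) (Nat.land (g 4) m)) (Nat.beq (Nat.land (f 8) m) (Nat.land (g 8) m))))

namespace Ty

variable (τ : Ty)

/-- Every quadruple with the relations of the generators is listed. -/
noncomputable def okAll : Bool :=
  allLt 32 fun a => bimp (Nat.beq (mu τ.T a a) 16) (allLt 32 fun b =>
    bimp (band (Nat.beq (mu τ.T b b) 16) (bneg (Nat.beq (mu τ.T a b) (mu τ.T b a)))) (allLt 32 fun c =>
      bimp (band (Nat.beq (mu τ.T c c) τ.s) (band (Nat.beq (mu τ.T a c) (mu τ.T c a)) (Nat.beq (mu τ.T b c) (mu τ.T c b))))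
        (allLt 32 fun d => bimp (band (Nat.beq (mu τ.T d d) τ.s) (band (Nat.beq (mu τ.T a d) (mu τ.T d a))
          (band (Nat.beq (mu τ.T b d) (mu τ.T d b)) (bneg (Nat.beq (mu τ.T c d) (mu τ.T d c))))))
          (force (tab τ.T a b c d) fun t => τ.A.look t fun x _ =>
            allLt 16 fun n => Nat.beq (ap x n) (lin τ.T a b c d n)))))

/-- The listed pairs are inverse to each other, and the sublists are complete. -/
noncomputable def okA : Bool :=
  τ.A.all2 fun a c => band (allLt 32 fun n => force (ap c n) fun m => band (blt m 32) (Nat.beq (ap a m) n))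
    (band (τ.O.look (Nat.land a 0x7bdef7bdef7bdef7bdef) fun a' c' => allLt 32 fun n =>
      band (band (blt (ap a' n) 32) (blt (ap c' n) 32)) (band (Nat.beq (Nat.land (ap a' n) 15) (Nat.land (ap a n) 15))
        (Nat.beq (Nat.land (ap c' n) 15) (Nat.land (ap c n) 15))))
    (band (bimp (agr 31 (fun n => ap a (ap a n)) fun n => n) (τ.I.look a fun a' c' => band (Nat.beq a' a) (Nat.beq c' c)))
      (bimp (agr 31 (fun n => ap a (ap a (ap a n))) fun n => n) (τ.C.look a fun a' c' => band (Nat.beq a' a) (Nat.beq c' c)))))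

/-- All checks. -/
structure OK : Prop where
  s : τ.s = 0 ∨ τ.s = 16
  lt : ∀ a < 32, ∀ b < 32, mu τ.T a b < 32 ∧ Nat.land (mu τ.T a b) 15 = Nat.xor (Nat.land a 15) (Nat.land b 15)
  bit : ∀ a < 32, ∀ b < 32, (∀ i < 4, (mu τ.T a b).testBit i = (a.testBit i ^^ b.testBit i)) ∧
    (mu τ.T a b).testBit 4 = ((a.testBit 4 ^^ b.testBit 4) ^^
      (((true && ((a.testBit 0 && b.testBit 0) ^^ (a.testBit 1 && b.testBit 1))) ^^ (a.testBit 1 && b.testBit 0)) ^^
      ((τ.s.testBit 4 && ((a.testBit 2 && b.testBit 2) ^^ (a.testBit 3 && b.testBit 3))) ^^ (a.testBit 3 && b.testBit 2))))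
  inv : ∀ a < 32, iq τ.T a < 32 ∧ mu τ.T a (iq τ.T a) = 0 ∧ mu τ.T 16 (Nat.land a 15) = Nat.xor (Nat.land a 15) 16 ∧
    Nat.land a 15 < 16 ∧ (a = Nat.land a 15 ∨ (a = mu τ.T 16 (Nat.land a 15) ∧ Nat.land a 16 = 16)) ∧
    (a < 16 → lin τ.T 1 2 4 8 a = a ∧ Nat.land a 16 = 0 ∧ Nat.land a 15 = a) ∧ Nat.land a 31 = a ∧
    Nat.land (mu τ.T 16 a) 15 = Nat.land a 15 ∧ mu τ.T 16 a = Nat.xor a 16 ∧
    (a = 0 ∨ a = 16 ∨ ∃ m < 32, mu τ.T a m = mu τ.T 16 (mu τ.T m a))
  eqv : ∀ a < 32, ∀ b < 32, (Nat.land a 15 = Nat.land b 15 → a = b ∨ a = mu τ.T 16 b) ∧ (mu τ.T a (iq τ.T b) = 0 → a = b)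
  gen : mu τ.T 0 0 = 0 ∧ mu τ.T 1 1 = 16 ∧ mu τ.T 2 2 = 16 ∧ mu τ.T 4 4 = τ.s ∧ mu τ.T 8 8 = τ.s ∧
    mu τ.T 1 2 ≠ mu τ.T 2 1 ∧ mu τ.T 4 8 ≠ mu τ.T 8 4 ∧ mu τ.T 1 4 = mu τ.T 4 1 ∧ mu τ.T 2 4 = mu τ.T 4 2 ∧
    mu τ.T 1 8 = mu τ.T 8 1 ∧ mu τ.T 2 8 = mu τ.T 8 2
  all : τ.okAll = true
  A : τ.okA = true

end Ty

end Cfsg.Agent.W2
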