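import Mathlib
import Cfsg.Agent.W2.Arith
import Cfsg.Agent.Spor.ESSym
import Cfsg.Agent.Inv.FzBasic

/-!
Coordinates in a large extraspecial subgroup of order 32 and codes for the elements of the centraliser of its centre.
-/

set_option autoImplicit false

namespace Cfsg.Agent.W2

open Cfsg.Agent.Spor Cfsg.Agent.Rec Cfsg.Agent.Inv.Fz Subgroup

variable {G : Type*} [Group G]

/-- Coordinates. -/
structure Fr (τ : Ty) (Q : Subgroup G) (z : G) (ε : ℕ → G) : Prop where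
  ok : τ.OK
  mul : ∀ a < 32, ∀ b < 32, ε (mu τ.T a b) = ε a * ε b
  inj : ∀ a < 32, ∀ b < 32, ε a = ε b → a = b
  mem : ∀ x, x ∈ Q ↔ ∃ a < 32, ε a = x
  e16 : ε 16 = z
  lg : Lg Q z

/-- `n` names `x`, up to `z` if `b` is set. -/
def RQ (z : G) (ε : ℕ → G) (b : Bool) (n : ℕ) (x : G) : Prop := n < 32 ∧ (x = ε n ∨ (b = true ∧ x = z * ε n))

/-- `f` and `g` describe the actions of `h` and of its inverse. -/
def RH (z : G) (ε : ℕ → G) (b : Bool) (f g : ℕ → ℕ) (h : G) : Prop :=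
  z * h = h * z ∧ (∀ n x, RQ z ε b n x → RQ z ε b (f n) (h * x * h⁻¹)) ∧ ∀ n x, RQ z ε b n x → RQ z ε b (g n) (h⁻¹ * x * h)

namespace RH

variable {z : G} {ε : ℕ → G} {b : Bool} {f g f' g' : ℕ → ℕ} {h h' : G}

theorem one : RH z ε b (fun n => n) (fun n => n) (1 : G) :=
  ⟨by simp, fun _ _ h => by simpa using h, fun _ _ h => by simpa using h⟩

theorem inv (r : RH z ε b f g h) : RH z ε b g f h⁻¹ :=
  ⟨(Commute.inv_right r.1).eq, fun n x hx => by simpa using r.2.2 n x hx, fun n x hx => by simpa using r.2.1 n x hx⟩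

theorem mul (r : RH z ε b f g h) (r' : RH z ε b f' g' h') :
    RH z ε b (fun n => force (f' n) f) (fun n => force (g n) g') (h * h') :=
  ⟨(Commute.mul_right r.1 r'.1).eq, fun n x hx => by simpa [mul_assoc] using r.2.1 _ _ (r'.2.1 n x hx),
    fun n x hx => by simpa [mul_assoc] using r'.2.2 _ _ (r.2.2 n x hx)⟩

end RH

namespace Fr

variable {τ : Ty} {Q : Subgroup G} {z : G} {ε : ℕ → G} (F : Fr τ Q z ε) {b : Bool} {n m : ℕ} {x y h h' : G}
  {f g f' g' : ℕ → ℕ}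
include F

theorem zz : z * z = 1 := F.lg.aes.z_sq

theorem e0 : ε 0 = 1 := by
  have := F.mul 0 (by norm_num) 0 (by norm_num)
  rw [F.ok.gen.1] at this
  exact (mul_eq_left.1 this.symm)

theorem mem' (hn : n < 32) : ε n ∈ Q := (F.mem _).2 ⟨n, hn, rfl⟩

theorem zc (hx : x ∈ Q) : z * x = x * z := F.lg.aes.z_comm x hx

theorem ez (hn : n < 32) : ε (mu τ.T 16 n) = z * ε n := by rw [F.mul 16 (by norm_num) n hn, F.e16]

theorem einv (hn : n < 32) : ε (iq τ.T n) = (ε n)⁻¹ := by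
  have := F.mul n hn _ (F.ok.inv n hn).1
  rw [(F.ok.inv n hn).2.1, F.e0] at this
  exact (inv_eq_of_mul_eq_one_right this.symm).symm

theorem rmem (r : RQ z ε b n x) : x ∈ Q := by
  rcases r.2 with rfl | ⟨-, rfl⟩
  exacts [F.mem' r.1, Q.mul_mem F.lg.aes.z_mem (F.mem' r.1)]

omit F in
theorem rq (hn : n < 32) : RQ z ε b n (ε n) := ⟨hn, .inl rfl⟩

omit F in
theorem reqv (r : RQ z ε b n x) : Eqv z x (ε n) := r.2.imp id fun h => h.2

theorem rq1 : RQ z ε b 0 1 := ⟨by norm_num, .inl F.e0.symm⟩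

theorem rqz : RQ z ε b 16 z := ⟨by norm_num, .inl F.e16.symm⟩

omit F in
theorem rq_of_eqv (hn : n < 32) (e : Eqv z x (ε n)) : RQ z ε true n x := ⟨hn, e.imp id fun h => ⟨rfl, h⟩⟩

theorem rmul (r : RQ z ε b n x) (r' : RQ z ε b m y) : RQ z ε b (mu τ.T n m) (x * y) := by
  cases b
  · obtain ⟨hn, rfl | ⟨h, -⟩⟩ := r
    · obtain ⟨hm, rfl | ⟨h, -⟩⟩ := r'
      · exact ⟨(F.ok.lt n hn m hm).1, .inl (F.mul n hn m hm).symm⟩
      · cases h
    · cases h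
  · refine rq_of_eqv (F.ok.lt n r.1 m r'.1).1 ?_
    rw [F.mul n r.1 m r'.1]
    exact (reqv r).mul F.zz (reqv r') (F.zc (F.rmem r))

theorem rinv (r : RQ z ε b n x) : RQ z ε b (iq τ.T n) x⁻¹ := by
  refine ⟨(F.ok.inv n r.1).1, ?_⟩
  rw [F.einv r.1]
  rcases r.2 with rfl | ⟨hb, rfl⟩
  · exact .inl rfl
  · refine .inr ⟨hb, ?_⟩
    rw [mul_inv_rev, F.lg.aes.z_inv, F.zc (Q.inv_mem (F.mem' r.1))]

theorem rcq (r : RQ z ε b n x) : RH z ε b (cq τ.T n) (fun m => force (iq τ.T n) fun k => cq τ.T k m) x :=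
  ⟨F.zc (F.rmem r), fun _ _ hy => F.rmul (F.rmul r hy) (F.rinv r),
    fun _ _ hy => by simpa [cq] using F.rmul (F.rmul (F.rinv r) hy) (F.rinv (F.rinv r))⟩

theorem eqv_iff (hn : n < 32) (hm : m < 32) : Nat.land n 15 = Nat.land m 15 ↔ Eqv z (ε n) (ε m) := by
  constructor
  · intro e
    rcases (F.ok.eqv n hn m hm).1 e with rfl | rfl
    exacts [.inl rfl, .inr (F.ez hm)]
  · rintro (e | e)
    · rw [F.inj n hn m hm e]
    · rw [← F.ez hm] at e
      rw [F.inj n hn _ (F.ok.lt 16 (by norm_num) m hm).1 e]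
      exact (F.ok.inv m hm).2.2.2.2.2.2.2.1

theorem r_eqv (r : RQ z ε b n x) (r' : RQ z ε b m y) : Nat.land n 15 = Nat.land m 15 ↔ Eqv z x y :=
  (F.eqv_iff r.1 r'.1).trans ⟨fun e => ((reqv r).trans F.zz e).trans F.zz ((reqv r').symm F.zz),
    fun e => (((reqv r).symm F.zz).trans F.zz e).trans F.zz (reqv r')⟩

theorem r_eq (r : RQ z ε false n x) (r' : RQ z ε false m y) : n = m ↔ x = y := by
  obtain ⟨hn, rfl | ⟨h, -⟩⟩ := r
  · obtain ⟨hm, rfl | ⟨h, -⟩⟩ := r'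
    · exact ⟨fun e => e ▸ rfl, F.inj n hn m hm⟩
    · cases h
  · cases h

theorem r_sq (r : RQ z ε b n x) : mu τ.T n n = 0 ↔ x * x = 1 := by
  refine (F.r_eq (F.rmul (rq r.1) (rq r.1)) F.rq1).trans ?_
  rcases r.2 with rfl | ⟨-, rfl⟩
  · rfl
  · have : z * ε n * (z * ε n) = ε n * ε n := by
      rw [mul_assoc, ← mul_assoc (ε n), ← F.zc (F.mem' r.1), mul_assoc, F.lg.aes.z_mul_z_mul]
    rw [this]

theorem r_cm (r : RQ z ε b n x) (r' : RQ z ε b m y) : mu τ.T n m = mu τ.T m n ↔ x * y = y * x := by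
  refine (F.r_eq (F.rmul (rq r.1) (rq r'.1)) (F.rmul (rq r'.1) (rq r.1))).trans ?_
  rw [← bf_eq_zero, ← bf_eq_zero, F.lg.aes.bf_eqv_left (F.rmem r') (reqv r),
    F.lg.aes.bf_eqv_right (F.mem' r.1) (reqv r')]

theorem exists_rq (b : Bool) (hx : x ∈ Q) : ∃ n < cond b 16 32, RQ z ε b n x := by
  obtain ⟨n, hn, rfl⟩ := (F.mem x).1 hx
  cases b
  · exact ⟨n, hn, rq hn⟩
  · obtain ⟨-, -, -, h1, h2, -⟩ := F.ok.inv n hn
    refine ⟨_, h1, rq_of_eqv (by omega) ?_⟩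
    rcases h2 with h2 | ⟨h2, -⟩
    · exact .inl (congrArg ε h2)
    · exact .inr (by rw [← F.ez (by omega), ← h2])

theorem elin {a b c d : ℕ} (ha : a < 32) (hb : b < 32) (hc : c < 32) (hd : d < 32) (n : ℕ) :
    lin τ.T a b c d n < 32 ∧ ε (lin τ.T a b c d n) = cond (n.testBit 0) (ε a) 1 * cond (n.testBit 1) (ε b) 1 *
      (cond (n.testBit 2) (ε c) 1 * cond (n.testBit 3) (ε d) 1) := by
  have key : ∀ i a, a < 32 → RQ z ε false (sel n i a) (cond (n.testBit i) (ε a) 1) := by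
    intro i a ha
    have e : sel n i a = a * (n >>> i % 2) := by rw [← Nat.and_one_is_mod]; rfl
    rw [e, Nat.testBit, Nat.one_and_eq_mod_two]
    rcases Nat.mod_two_eq_zero_or_one (n >>> i) with h | h <;> rw [h]
    · simpa using F.rq1
    · simpa using rq ha
  obtain ⟨h1, h2 | ⟨h, -⟩⟩ := F.rmul (F.rmul (key 0 a ha) (key 1 b hb)) (F.rmul (key 2 c hc) (key 3 d hd))
  · exact ⟨h1, h2.symm⟩
  · cases h

/-- Induction over the generators. -/
theorem ind {P : G → Prop} (h0 : P 1) (hz : P z) (h1 : P (ε 1)) (h2 : P (ε 2)) (h4 : P (ε 4)) (h8 : P (ε 8))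
    (hm : ∀ x ∈ Q, ∀ y ∈ Q, P x → P y → P (x * y)) : ∀ x ∈ Q, P x := by
  have key : ∀ n < 16, P (ε n) := by
    intro n hn
    have e := (F.elin (a := 1) (b := 2) (c := 4) (d := 8) (by norm_num) (by norm_num) (by norm_num) (by norm_num) n).2
    rw [((F.ok.inv n (by omega)).2.2.2.2.2.1 hn).1] at e
    have k : ∀ (c : Bool) (a : ℕ), a < 32 → P (ε a) → cond c (ε a) 1 ∈ Q ∧ P (cond c (ε a) 1) := fun c a ha hp => by
      cases c
      exacts [⟨Q.one_mem, h0⟩, ⟨F.mem' ha, hp⟩]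
    obtain ⟨a1, a2⟩ := k (n.testBit 0) 1 (by norm_num) h1
    obtain ⟨b1, b2⟩ := k (n.testBit 1) 2 (by norm_num) h2
    obtain ⟨c1, c2⟩ := k (n.testBit 2) 4 (by norm_num) h4
    obtain ⟨d1, d2⟩ := k (n.testBit 3) 8 (by norm_num) h8
    rw [e]
    exact hm _ (Q.mul_mem a1 b1) _ (Q.mul_mem c1 d1) (hm _ a1 _ b1 a2 b2) (hm _ c1 _ d1 c2 d2)
  intro x hx
  obtain ⟨n, hn, r⟩ := F.exists_rq true hx
  rcases r.2 with rfl | ⟨-, rfl⟩
  exacts [key n hn, hm _ F.lg.aes.z_mem _ (F.mem' r.1) hz (key n hn)]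

theorem center (hx : x ∈ Q) (hc : ∀ q ∈ Q, x * q = q * x) : x = 1 ∨ x = z := by
  obtain ⟨n, hn, rfl⟩ := (F.mem x).1 hx
  rcases (F.ok.inv n hn).2.2.2.2.2.2.2.2.2 with rfl | rfl | ⟨m, hm, e⟩
  exacts [.inl F.e0, .inr F.e16, absurd (by
    have := congrArg ε e
    rw [F.ez (F.ok.lt m hm n hn).1, F.mul n hn m hm, F.mul m hm n hn, hc _ (F.mem' hm)] at this
    exact (mul_eq_right.1 this.symm)) F.lg.aes.z_ne]

theorem r_inQ (r : RH z ε b f g h) : agr 15 f (fun n => n) = true ↔ h ∈ Q := by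
  have k : ∀ n < 32, (Nat.land (f n) 15 = Nat.land n 15 ↔ Eqv z (h * ε n * h⁻¹) (ε n)) := fun n hn =>
    F.r_eqv (r.2.1 _ _ (rq hn)) (rq hn)
  simp only [agr, band_iff, nbeq_iff]
  rw [k 1 (by norm_num), k 2 (by norm_num), k 4 (by norm_num), k 8 (by norm_num)]
  refine ⟨fun ⟨h1, h2, h4, h8⟩ => F.lg.triv h r.1 (F.ind (.inl (by simp)) (.inl (by rw [← r.1]; simp)) h1 h2 h4 h8 ?_),
    fun hq => ⟨?_, ?_, ?_, ?_⟩⟩
  · intro x hx y _ e e'
    rw [show h * (x * y) * h⁻¹ = h * x * h⁻¹ * (h * y * h⁻¹) by group]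
    exact e.mul F.zz e' (F.zc (F.lg.norm h r.1 x hx))
  all_goals exact F.lg.aes.eqv_conj hq (F.mem' (by norm_num))

theorem r_eqvH (r : RH z ε false f g h) (r' : RH z ε false f' g' h') : agr 31 f f' = true ↔ Eqv z h h' := by
  have k : ∀ n < 32, (Nat.land (f n) 31 = Nat.land (f' n) 31 ↔ h * ε n * h⁻¹ = h' * ε n * h'⁻¹) := fun n hn => by
    have a := r.2.1 _ _ (rq hn)
    have a' := r'.2.1 _ _ (rq hn)
    rw [(F.ok.inv _ a.1).2.2.2.2.2.2.1, (F.ok.inv _ a'.1).2.2.2.2.2.2.1]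
    exact F.r_eq a a'
  simp only [agr, band_iff, nbeq_iff]
  rw [k 1 (by norm_num), k 2 (by norm_num), k 4 (by norm_num), k 8 (by norm_num)]
  constructor
  · rintro ⟨h1, h2, h4, h8⟩
    have e : ∀ x ∈ Q, h * x * h⁻¹ = h' * x * h'⁻¹ := F.ind (by simp) (by rw [← r.1, ← r'.1]; simp) h1 h2 h4 h8
      fun x _ y _ e e' => by
        rw [show h * (x * y) * h⁻¹ = h * x * h⁻¹ * (h * y * h⁻¹) by group, e, e']; group
    have e' : ∀ x ∈ Q, h'⁻¹ * h * x = x * (h'⁻¹ * h) := fun x hx => by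
      calc h'⁻¹ * h * x = h'⁻¹ * (h * x * h⁻¹) * h := by group
        _ = _ := by rw [e x hx]; group
    rcases F.center (F.lg.centralizer_le fun q hq => (e' q hq).symm) e' with e1 | e1
    · exact .inl (inv_mul_eq_one.1 e1).symm
    · exact .inr (by rw [r'.1, ← e1]; group)
  · have e : ∀ x ∈ Q, z * h' * x * (z * h')⁻¹ = h' * x * h'⁻¹ := fun x hx => by
      rw [show z * h' * x * (z * h')⁻¹ = z * (h' * x * h'⁻¹) * z⁻¹ by group, F.zc (F.lg.norm h' r'.1 x hx)]; group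
    rintro (rfl | rfl)
    · exact ⟨rfl, rfl, rfl, rfl⟩
    · refine ⟨e _ ?_, e _ ?_, e _ ?_, e _ ?_⟩ <;> exact F.mem' (by norm_num)

/-- The action of `h` is read off from the generators. -/
theorem act_of_lin (hz : z * h = h * z) {a b c d α : ℕ} (ha : a < 32) (hb : b < 32) (hc : c < 32) (hd : d < 32)
    (h1 : h * ε 1 * h⁻¹ = ε a) (h2 : h * ε 2 * h⁻¹ = ε b) (h4 : h * ε 4 * h⁻¹ = ε c) (h8 : h * ε 8 * h⁻¹ = ε d)
    (hα : ∀ n < 16, ap α n = lin τ.T a b c d n) : ∀ n < 32, ap α n < 32 ∧ h * ε n * h⁻¹ = ε (ap α n) := by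
  have key : ∀ n < 16, ap α n < 32 ∧ h * ε n * h⁻¹ = ε (ap α n) := by
    intro n hn
    have e := (F.elin (a := 1) (b := 2) (c := 4) (d := 8) (by norm_num) (by norm_num) (by norm_num) (by norm_num) n).2
    rw [((F.ok.inv n (by omega)).2.2.2.2.2.1 hn).1] at e
    have k : ∀ (c : Bool) {x y : G}, h * x * h⁻¹ = y → h * cond c x 1 * h⁻¹ = cond c y 1 := fun c x y e => by
      cases c
      exacts [by simp, e]
    rw [hα n hn, (F.elin ha hb hc hd n).2, e, ← k _ h1, ← k _ h2, ← k _ h4, ← k _ h8]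
    exact ⟨(F.elin ha hb hc hd n).1, by group⟩
  intro n hn
  obtain ⟨-, -, -, h1, h2, -⟩ := F.ok.inv n hn
  obtain ⟨k1, k2⟩ := key _ h1
  obtain ⟨-, k3, k4⟩ := (F.ok.inv _ (h1.trans (by norm_num))).2.2.2.2.2.1 h1
  rcases h2 with h2 | ⟨h2, h3⟩
  · rw [h2]; exact ⟨k1, k2⟩
  · have e : ap α n = mu τ.T 16 (ap α (Nat.land n 15)) := by
      rw [(F.ok.inv _ k1).2.2.2.2.2.2.2.2.1]
      simp only [ap, k3, k4, h3]
      exact congrArg (Nat.xor · 16) (Nat.xor_zero _).symm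
    rw [e, F.ez k1, ← k2]
    refine ⟨(F.ok.lt 16 (by norm_num) _ k1).1, ?_⟩
    conv_lhs => rw [h2, F.ez (h1.trans (by norm_num))]
    rw [← mul_assoc, ← hz]; group

omit F in
theorem rh_of_act (hz : z * h = h * z) {α β : ℕ} (h1 : ∀ n < 32, ap α n < 32 ∧ h * ε n * h⁻¹ = ε (ap α n))
    (h2 : ∀ n < 32, ap β n < 32 ∧ ap α (ap β n) = n) : RH z ε false (ap α) (ap β) h := by
  refine ⟨hz, ?_, ?_⟩
  · rintro n x ⟨hn, rfl | ⟨h, -⟩⟩
    · exact ⟨(h1 n hn).1, .inl (h1 n hn).2⟩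
    · cases h
  · rintro n x ⟨hn, rfl | ⟨h, -⟩⟩
    · refine ⟨(h2 n hn).1, .inl ?_⟩
      have := (h1 _ (h2 n hn).1).2
      rw [(h2 n hn).2] at this
      rw [← this]; group
    · cases h

theorem rh_bar (r : RH z ε false f g h) (h1 : ∀ n < 32, (f' n < 32 ∧ g' n < 32) ∧
    Nat.land (f' n) 15 = Nat.land (f n) 15 ∧ Nat.land (g' n) 15 = Nat.land (g n) 15) : RH z ε true f' g' h := by
  have k : ∀ {f f' : ℕ → ℕ} {h : G} {n : ℕ} {x : G}, z * h = h * z → RQ z ε true n x → RQ z ε false (f n) (h * ε n * h⁻¹) →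
      f' n < 32 → Nat.land (f' n) 15 = Nat.land (f n) 15 → RQ z ε true (f' n) (h * x * h⁻¹) :=
    fun hz hx a hl e => rq_of_eqv hl (((reqv hx).conj hz).trans F.zz (((F.r_eqv (rq hl) a).1 e).symm F.zz))
  refine ⟨r.1, fun n x hx => k r.1 hx (r.2.1 _ _ (rq hx.1)) (h1 n hx.1).1.1 (h1 n hx.1).2.1, fun n x hx => ?_⟩
  simpa using k (h := h⁻¹) (f := g) r.inv.1 hx (r.inv.2.1 _ _ (rq hx.1)) (h1 n hx.1).1.2 (h1 n hx.1).2.2

theorem exists_rh (hz : z * h = h * z) : ∃ a c, τ.A.Leaf a c ∧ RH z ε false (ap a) (ap c) h := by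
  have k : ∀ n < 32, ∃ a < 32, h * ε n * h⁻¹ = ε a := fun n hn => by
    obtain ⟨a, ha, e⟩ := (F.mem _).1 (F.lg.norm h hz _ (F.mem' hn))
    exact ⟨a, ha, e.symm⟩
  obtain ⟨a, ha, h1⟩ := k 1 (by norm_num)
  obtain ⟨b, hb, h2⟩ := k 2 (by norm_num)
  obtain ⟨c, hc, h4⟩ := k 4 (by norm_num)
  obtain ⟨d, hd, h8⟩ := k 8 (by norm_num)
  have sq : ∀ {n a s : ℕ}, n < 32 → a < 32 → h * ε n * h⁻¹ = ε a → mu τ.T n n = s → s = 0 ∨ s = 16 → mu τ.T a a = s := by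
    intro n a s hn ha e e' hs
    refine F.inj _ (F.ok.lt a ha a ha).1 _ (by omega) ?_
    rw [F.mul a ha a ha, ← e, show h * ε n * h⁻¹ * (h * ε n * h⁻¹) = h * (ε n * ε n) * h⁻¹ by group,
      ← F.mul n hn n hn, e']
    rcases hs with rfl | rfl
    · simp [F.e0]
    · rw [F.e16, ← hz]; simp
  have cm : ∀ {n m a b : ℕ}, n < 32 → m < 32 → a < 32 → b < 32 → h * ε n * h⁻¹ = ε a → h * ε m * h⁻¹ = ε b →
      (mu τ.T a b = mu τ.T b a ↔ mu τ.T n m = mu τ.T m n) := by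
    intro n m a b hn hm ha hb e e'
    rw [F.r_cm (b := false) (rq ha) (rq hb), F.r_cm (b := false) (rq hn) (rq hm), ← e, ← e']
    simp [mul_assoc]
    simp [← mul_assoc]
  obtain ⟨-, g1, g2, g3, g4, g5, g6, g7, g8, g9, g10⟩ := F.ok.gen
  have H := F.ok.all
  simp only [Ty.okAll, allLt_iff, bimp_iff, band_iff, nbeq_iff, bneg_iff, force_eq] at H
  obtain ⟨α, β, hl, hα⟩ := ST.look_sound (H a ha (sq (by norm_num) ha h1 g1 (.inr rfl)) b hb
    ⟨sq (by norm_num) hb h2 g2 (.inr rfl), mt (cm (by norm_num) (by norm_num) ha hb h1 h2).1 g5⟩ c hc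
    ⟨sq (by norm_num) hc h4 g3 F.ok.s, (cm (by norm_num) (by norm_num) ha hc h1 h4).2 g7,
      (cm (by norm_num) (by norm_num) hb hc h2 h4).2 g8⟩ d hd
    ⟨sq (by norm_num) hd h8 g4 F.ok.s, (cm (by norm_num) (by norm_num) ha hd h1 h8).2 g9,
      (cm (by norm_num) (by norm_num) hb hd h2 h8).2 g10, mt (cm (by norm_num) (by norm_num) hc hd h4 h8).1 g6⟩)
  simp only [allLt_iff, nbeq_iff] at hα
  have H2 := (ST.all2_iff _ _).1 F.ok.A α β hl
  simp only [band_iff, allLt_iff, force_eq, blt_iff, nbeq_iff] at H2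
  exact ⟨α, β, hl, rh_of_act hz (F.act_of_lin hz ha hb hc hd h1 h2 h4 h8 hα) H2.1⟩

/-- The side condition of a domain. -/
def _root_.Cfsg.Agent.W2.Cnd (k : ℕ) (h : G) : Prop := (k = 1 → h * h = 1) ∧ (k = 2 → h ^ 3 = 1)

/-- The list that belongs to it. -/
noncomputable def _root_.Cfsg.Agent.W2.Ty.dom (τ : Ty) (b : Bool) (k : ℕ) : ST :=
  cond b τ.O (cond (Nat.beq k 1) τ.I (cond (Nat.beq k 2) τ.C τ.A))

theorem exists_dom (b : Bool) {k : ℕ} (hz : z * h = h * z) (hk : Cnd k h) :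
    ∃ a c, (τ.dom b k).Leaf a c ∧ RH z ε b (ap a) (ap c) h := by
  obtain ⟨a, c, hl, r⟩ := F.exists_rh hz
  have H := (ST.all2_iff _ _).1 F.ok.A a c hl
  simp only [band_iff, bimp_iff] at H
  obtain ⟨-, H1, H2, H3⟩ := H
  cases b
  · by_cases k1 : k = 1
    · subst k1
      obtain ⟨a', c', hl', e⟩ := ST.look_sound (H2 ((F.r_eqvH (r.mul r) RH.one).2 (.inl (hk.1 rfl))))
      simp only [band_iff, nbeq_iff] at e
      exact ⟨a, c, e.1 ▸ e.2 ▸ hl', r⟩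
    by_cases k2 : k = 2
    · subst k2
      obtain ⟨a', c', hl', e⟩ := ST.look_sound (H3 ((F.r_eqvH (r.mul (r.mul r)) RH.one).2
        (.inl (by rw [← hk.2 rfl, pow_three]))))
      simp only [band_iff, nbeq_iff] at e
      exact ⟨a, c, e.1 ▸ e.2 ▸ hl', r⟩
    · refine ⟨a, c, ?_, r⟩
      have e1 : Nat.beq k 1 = false := Bool.eq_false_iff.2 (mt (nbeq_iff _ _).1 k1)
      have e2 : Nat.beq k 2 = false := Bool.eq_false_iff.2 (mt (nbeq_iff _ _).1 k2)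
      simpa [Ty.dom, e1, e2] using hl
  · obtain ⟨a', c', hl', e⟩ := ST.look_sound H1
    simp only [allLt_iff, band_iff, nbeq_iff, blt_iff] at e
    exact ⟨a', c', hl', F.rh_bar r e⟩

theorem conj (g : G) : Fr τ (cj g Q) (g * z * g⁻¹) fun n => g * ε n * g⁻¹ where
  ok := F.ok
  mul a ha b hb := by rw [F.mul a ha b hb]; group
  inj a ha b hb e := F.inj a ha b hb (by simpa using e)
  mem x := by
    rw [mem_cj, F.mem]
    refine exists_congr fun a => and_congr_right fun _ => ⟨fun e => by rw [e]; group, fun e => by rw [← e]; group⟩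
  e16 := by rw [F.e16]
  lg := F.lg.conj g

theorem es : ES2 Q z where
  z_mem := F.lg.aes.z_mem
  z_ne := F.lg.aes.z_ne
  z_sq := F.zz
  z_comm := F.lg.aes.z_comm
  comm := F.lg.aes.comm
  center _ := F.center
  nonab := ⟨ε 1, F.mem' (by norm_num), ε 2, F.mem' (by norm_num),
    mt (F.r_cm (b := false) (rq (by norm_num)) (rq (by norm_num))).2 F.ok.gen.2.2.2.2.2.1⟩

theorem card : Nat.card Q = 32 := by
  rw [← Nat.card_eq_of_bijective (fun a : Fin 32 => (⟨ε a, F.mem' a.2⟩ : Q)) ⟨fun a b e =>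
    Fin.ext (F.inj _ a.2 _ b.2 (congrArg Subtype.val e)), fun x => by
      obtain ⟨a, ha, e⟩ := (F.mem x).1 x.2
      exact ⟨⟨a, ha⟩, Subtype.ext e⟩⟩]
  simp

end Fr

theorem pr_mul {i j z : G} (s : Bool) (hi : i * i = cond s z 1) (hj : j * j = cond s z 1) (hji : j * i = z * (i * j))
    (hz : z * z = 1) (zi : z * i = i * z) (x y x' y' : Bool) :
    cond x i 1 * cond y j 1 * (cond x' i 1 * cond y' j 1) =
      cond ((s && ((x && x') ^^ (y && y'))) ^^ (y && x')) z 1 * (cond (x ^^ x') i 1 * cond (y ^^ y') j 1) := by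
  have a1 : ∀ w, i * (i * w) = cond s z 1 * w := fun w => by rw [← mul_assoc, hi]
  have a2 : ∀ w, j * (j * w) = cond s z 1 * w := fun w => by rw [← mul_assoc, hj]
  have a3 : ∀ w, j * (i * w) = z * (i * (j * w)) := fun w => by rw [← mul_assoc, hji]; group
  have a4 : ∀ w, i * (z * w) = z * (i * w) := fun w => by rw [← mul_assoc, ← zi, mul_assoc]
  have a6 : ∀ w, z * (z * w) = w := fun w => by rw [← mul_assoc, hz, one_mul]
  cases s <;> cases x <;> cases y <;> cases x' <;> cases y' <;>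
    simp [mul_assoc, a1, a3, a4, a6, hi, hj, hji, hz, ← zi] at *

theorem exists_fr [Finite G] {τ : Ty} (hτ : τ.OK) {Q : Subgroup G} {z i j k l : G} (lg : Lg Q z) (hc : Nat.card Q = 32)
    (hi : i ∈ Q) (hj : j ∈ Q) (hk : k ∈ Q) (hl : l ∈ Q) (i2 : i * i = z) (j2 : j * j = z)
    (k2 : k * k = cond (τ.s.testBit 4) z 1) (l2 : l * l = cond (τ.s.testBit 4) z 1) (ij : i * j ≠ j * i)
    (kl : k * l ≠ l * k) (ik : i * k = k * i) (jk : j * k = k * j) (il : i * l = l * i) (jl : j * l = l * j) :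
    ∃ ε : ℕ → G, Fr τ Q z ε ∧ ε 1 = i ∧ ε 2 = j ∧ ε 4 = k ∧ ε 8 = l := by
  have A := lg.aes
  let P : ℕ → G := fun n => cond (n.testBit 0) i 1 * cond (n.testBit 1) j 1
  let R : ℕ → G := fun n => cond (n.testBit 2) k 1 * cond (n.testBit 3) l 1
  let ε : ℕ → G := fun n => cond (n.testBit 4) z 1 * (P n * R n)
  have cm : ∀ (c : Bool) {x : G}, x ∈ Q → cond c x 1 ∈ Q := fun c x hx => by cases c; exacts [Q.one_mem, hx]
  have Pm : ∀ n, P n ∈ Q := fun n => Q.mul_mem (cm _ hi) (cm _ hj)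
  have Rm : ∀ n, R n ∈ Q := fun n => Q.mul_mem (cm _ hk) (cm _ hl)
  have cc : ∀ (c d : Bool) {x y : G}, x * y = y * x → Commute (cond c x 1) (cond d y 1) := fun c d x y e => by
    cases c <;> cases d
    exacts [Commute.refl _, Commute.one_left _, Commute.one_right _, e]
  have PR : ∀ n m, Commute (P n) (R m) := fun n m =>
    ((cc _ _ ik).mul_right (cc _ _ il)).mul_left ((cc _ _ jk).mul_right (cc _ _ jl))
  have zq : ∀ (c : Bool) {x : G}, x ∈ Q → ∀ w, x * (cond c z 1 * w) = cond c z 1 * (x * w) := fun c x hx w => by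
    cases c
    · simp
    · simp [← mul_assoc, A.z_comm x hx]
  have zx : ∀ c d : Bool, ∀ w : G, cond c z 1 * (cond d z 1 * w) = cond (c ^^ d) z 1 * w := fun c d w => by
    cases c <;> cases d <;> simp [A.z_mul_z_mul]
  have em : ∀ a < 32, ∀ b < 32, ε (mu τ.T a b) = ε a * ε b := by
    intro a ha b hb
    obtain ⟨h1, h2⟩ := hτ.bit a ha b hb
    have e1 := pr_mul true i2 j2 (A.eq_of_ne hj hi ij.symm) A.z_sq (A.z_comm i hi)
      (a.testBit 0) (a.testBit 1) (b.testBit 0) (b.testBit 1)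
    have e2 := pr_mul _ k2 l2 (A.eq_of_ne hl hk kl.symm) A.z_sq (A.z_comm k hk)
      (a.testBit 2) (a.testBit 3) (b.testBit 2) (b.testBit 3)
    rw [← h1 0 (by norm_num), ← h1 1 (by norm_num)] at e1
    rw [← h1 2 (by norm_num), ← h1 3 (by norm_num)] at e2
    change P a * P b = _ * P _ at e1
    change R a * R b = _ * R _ at e2
    show cond _ z 1 * (P _ * R _) = cond _ z 1 * (P a * R a) * (cond _ z 1 * (P b * R b))
    rw [mul_assoc (cond _ z 1), zq _ (Q.mul_mem (Pm a) (Rm a)), zx, mul_assoc (P a), ← mul_assoc (R a), ← (PR b a).eq,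
      mul_assoc (P b), ← mul_assoc (P a), e1, e2, mul_assoc (cond _ z 1), zq _ (Pm _), zx, zx, h2]
    simp only [Bool.xor_assoc]
  have e0 : ε 0 = 1 := by simp [ε, P, R]
  have e16 : ε 16 = z := by simp [ε, P, R, Nat.testBit]
  have ej : ∀ a < 32, ∀ b < 32, ε a = ε b → a = b := by
    intro a ha b hb e
    obtain ⟨h1, h2, -⟩ := hτ.inv b hb
    have h3 := (hτ.lt a ha _ h1).1
    have e1 : ε (mu τ.T a (iq τ.T b)) = 1 := by rw [em a ha _ h1, e, ← em b hb _ h1, h2, e0]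
    refine (hτ.eqv a ha b hb).2 ?_
    rcases (hτ.inv _ h3).2.2.2.2.2.2.2.2.2 with h | h | ⟨m, hm, h⟩
    · exact h
    · exact absurd (by rw [← e16, ← h, e1]) A.z_ne
    · have := congrArg ε h
      rw [em 16 (by norm_num) _ (hτ.lt m hm _ h3).1, em _ h3 m hm, em m hm _ h3, e1, e16] at this
      exact absurd (by simpa using this) A.z_ne
  have em' : ∀ n, ε n ∈ Q := fun n => Q.mul_mem (cm _ A.z_mem) (Q.mul_mem (Pm n) (Rm n))
  refine ⟨ε, ⟨hτ, em, ej, fun x => ⟨fun hx => ?_, ?_⟩, e16, lg⟩, ?_, ?_, ?_, ?_⟩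
  · have := (Nat.bijective_iff_injective_and_card (fun a : Fin 32 => (⟨ε a, em' a⟩ : Q))).2 ⟨fun a b e =>
      Fin.ext (ej _ a.2 _ b.2 (congrArg Subtype.val e)), by simp [hc]⟩
    obtain ⟨a, e⟩ := this.2 ⟨x, hx⟩
    exact ⟨a, a.2, congrArg Subtype.val e⟩
  · rintro ⟨a, -, rfl⟩
    exact em' a
  all_goals simp [ε, P, R, Nat.testBit]

end Cfsg.Agent.W2
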