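import Mathlib
import Cfsg.Agent.W2.Frame
import Cfsg.Agent.W2.Data

/-!
A decision procedure for statements about an extraspecial group `Q` of order 32 and elements acting on it.
-/

set_option autoImplicit false

namespace Cfsg.Agent.W2

open Cfsg.Agent.Spor Cfsg.Agent.Rec Cfsg.Agent.Inv.Fz Subgroup

/-- Terms. -/
inductive T : Type
  | q (i : ℕ) : T
  | h (i : ℕ) : T
  | one : T
  | mul (s t : T) : T
  | inv (t : T) : T
  | pow (t : T) (n : ℕ) : T
  | cj (s t : T) : T
  | cj' (s t : T) : T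

/-- Values: a code in `Q`, the action on `Q` and the action of the inverse. -/
structure V where
  /-- The code. -/
  q : ℕ
  /-- The action. -/
  f : ℕ → ℕ
  /-- The inverse action. -/
  g : ℕ → ℕ

/-- Iteration. -/
noncomputable def itr (f : ℕ → ℕ) (n : ℕ) : ℕ → ℕ := Nat.rec (fun m => m) (fun _ ih m => force (ih m) f) n

/-- Iteration in the other order. -/
noncomputable def itr' (f : ℕ → ℕ) (n : ℕ) : ℕ → ℕ := Nat.rec (fun m => m) (fun _ ih m => force (f m) ih) n

/-- The value of a term. -/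
noncomputable def T.ev (M : ℕ) (c a a' : List ℕ) (t : T) : V :=
  T.rec (motive := fun _ => V)
    (fun i => ⟨nth 0 c i, cq M (nth 0 c i), fun m => force (iq M (nth 0 c i)) fun k => cq M k m⟩)
    (fun i => ⟨0, ap (nth 0x7b9ac5a928398a418820 a i), ap (nth 0x7b9ac5a928398a418820 a' i)⟩) ⟨0, fun n => n, fun n => n⟩
    (fun _ _ s t => ⟨force s.q fun x => force t.q fun y => mu M x y, fun n => force (t.f n) s.f,
      fun n => force (s.g n) t.g⟩)
    (fun _ t => ⟨force t.q (iq M), t.g, t.f⟩)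
    (fun _ n t => ⟨force t.q fun x => Nat.rec 0 (fun _ ih => force ih fun y => mu M x y) n, itr t.f n, itr' t.g n⟩)
    (fun _ _ s t => ⟨force t.q s.f, fun n => force (s.g n) fun m => force (t.f m) s.f,
      fun n => force (s.g n) fun m => force (t.g m) s.f⟩)
    (fun _ _ s t => ⟨force t.q s.g, fun n => force (s.f n) fun m => force (t.f m) s.g,
      fun n => force (s.f n) fun m => force (t.g m) s.g⟩) t

/-- The term denotes an element of `Q`. -/
def T.isQ : T → Bool
  | .q _ => true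
  | .h _ => false
  | .one => true
  | .mul s t => s.isQ && t.isQ
  | .inv t => t.isQ
  | .pow t _ => t.isQ
  | .cj _ t => t.isQ
  | .cj' _ t => t.isQ

/-- Formulas. -/
inductive Fm : Type
  | tt : Fm
  | eq (s t : T) : Fm
  | eqv (s t : T) : Fm
  | sq (s : T) : Fm
  | cm (s t : T) : Fm
  | fx (s t : T) : Fm
  | inQ (s : T) : Fm
  | eqvH (s t : T) : Fm
  | not (p : Fm) : Fm
  | and (p q : Fm) : Fm
  | or (p q : Fm) : Fm
  | imp (p q : Fm) : Fm
  | iff (p q : Fm) : Fm
  | all (p : Fm) : Fm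
  | ex (p : Fm) : Fm
  | bind (t : T) (p : Fm) : Fm

/-- The formula is admissible in the mode `b`. -/
def Fm.wf (b : Bool) : Fm → Bool
  | .tt => true
  | .eq s t => !b && s.isQ && t.isQ
  | .eqv s t => s.isQ && t.isQ
  | .sq s => s.isQ
  | .cm s t => s.isQ && t.isQ
  | .fx _ t => !b && t.isQ
  | .inQ _ => true
  | .eqvH _ _ => !b
  | .not p => p.wf b
  | .and p q => p.wf b && q.wf b
  | .or p q => p.wf b && q.wf b
  | .imp p q => p.wf b && q.wf b
  | .iff p q => p.wf b && q.wf b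
  | .all p => p.wf b
  | .ex p => p.wf b
  | .bind t p => t.isQ && p.wf b

/-- The truth value of a formula; `N` is the number of codes. -/
noncomputable def Fm.ev (M N : ℕ) (a a' : List ℕ) (p : Fm) : List ℕ → Bool :=
  Fm.rec (motive := fun _ => List ℕ → Bool) (fun _ => true)
    (fun s t c => Nat.beq (s.ev M c a a').q (t.ev M c a a').q)
    (fun s t c => Nat.beq (Nat.land (s.ev M c a a').q 15) (Nat.land (t.ev M c a a').q 15))
    (fun s c => force (s.ev M c a a').q fun x => Nat.beq (mu M x x) 0)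
    (fun s t c => force (s.ev M c a a').q fun x => force (t.ev M c a a').q fun y => Nat.beq (mu M x y) (mu M y x))
    (fun s t c => force (t.ev M c a a').q fun y => Nat.beq ((s.ev M c a a').f y) y)
    (fun s c => agr 15 (s.ev M c a a').f fun n => n)
    (fun s t c => agr 31 (s.ev M c a a').f (t.ev M c a a').f)
    (fun _ ih c => bneg (ih c))
    (fun _ _ ihp ihq c => band (ihp c) (ihq c))
    (fun _ _ ihp ihq c => bor (ihp c) (ihq c))
    (fun _ _ ihp ihq c => bimp (ihp c) (ihq c))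
    (fun _ _ ihp ihq c => Bool.rec (bneg (ihq c)) (ihq c) (ihp c))
    (fun _ ih c => allLt N fun n => ih (n :: c))
    (fun _ ih c => bneg (allLt N fun n => bneg (ih (n :: c))))
    (fun t _ ih c => force (t.ev M c a a').q fun n => ih (n :: c)) p

/-- Formulas with universal quantifiers over the centraliser in front. -/
inductive Pm : Type
  | base (p : Fm) : Pm
  | imp (p : Fm) (r : Pm) : Pm
  | and (r s : Pm) : Pm
  | allQ (r : Pm) : Pm
  | allH (k : ℕ) (r : Pm) : Pm

/-- Admissibility. -/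
def Pm.wf (b : Bool) : Pm → Bool
  | .base p => p.wf b
  | .imp p r => p.wf b && r.wf b
  | .and r s => r.wf b && s.wf b
  | .allQ r => r.wf b
  | .allH _ r => r.wf b

/-- The truth value. -/
noncomputable def Pm.ev0 (τ : Ty) (b : Bool) (p : Pm) : List ℕ → List ℕ → List ℕ → Bool :=
  Pm.rec (motive := fun _ => List ℕ → List ℕ → List ℕ → Bool)
    (fun p c a a' => p.ev τ.T (cond b 16 32) a a' c)
    (fun p _ ih c a a' => bimp (p.ev τ.T (cond b 16 32) a a' c) (ih c a a'))
    (fun _ _ ih ih' c a a' => band (ih c a a') (ih' c a a'))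
    (fun _ ih c a a' => allLt (cond b 16 32) fun n => ih (n :: c) a a')
    (fun k _ ih c a a' => (τ.dom b k).all2 fun x y => ih c (x :: a) (y :: a')) p

/-- The check. -/
noncomputable def Pm.ev (τ : Ty) (b : Bool) (p : Pm) (c a a' : List ℕ) : Bool := band (p.wf b) (p.ev0 τ b c a a')

variable {G : Type*} [Group G]

/-- The element a term denotes. -/
noncomputable def T.val (e d : List G) : T → G
  | .q i => nth 1 e i
  | .h i => nth 1 d i
  | .one => 1
  | .mul s t => s.val e d * t.val e d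
  | .inv t => (t.val e d)⁻¹
  | .pow t n => t.val e d ^ n
  | .cj s t => s.val e d * t.val e d * (s.val e d)⁻¹
  | .cj' s t => (s.val e d)⁻¹ * t.val e d * s.val e d

/-- The meaning of a formula. -/
def Fm.holds (Q : Subgroup G) (z : G) (d : List G) : Fm → List G → Prop
  | .tt, _ => True
  | .eq s t, e => s.val e d = t.val e d
  | .eqv s t, e => Eqv z (s.val e d) (t.val e d)
  | .sq s, e => s.val e d * s.val e d = 1
  | .cm s t, e => s.val e d * t.val e d = t.val e d * s.val e d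
  | .fx s t, e => s.val e d * t.val e d = t.val e d * s.val e d
  | .inQ s, e => s.val e d ∈ Q
  | .eqvH s t, e => Eqv z (s.val e d) (t.val e d)
  | .not p, e => ¬ p.holds Q z d e
  | .and p q, e => p.holds Q z d e ∧ q.holds Q z d e
  | .or p q, e => p.holds Q z d e ∨ q.holds Q z d e
  | .imp p q, e => p.holds Q z d e → q.holds Q z d e
  | .iff p q, e => p.holds Q z d e ↔ q.holds Q z d e
  | .all p, e => ∀ x ∈ Q, p.holds Q z d (x :: e)
  | .ex p, e => ∃ x ∈ Q, p.holds Q z d (x :: e)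
  | .bind t p, e => p.holds Q z d (t.val e d :: e)

/-- The meaning of a prefixed formula. -/
def Pm.holds (Q : Subgroup G) (z : G) : Pm → List G → List G → Prop
  | .base p, e, d => p.holds Q z d e
  | .imp p r, e, d => p.holds Q z d e → r.holds Q z e d
  | .and r s, e, d => r.holds Q z e d ∧ s.holds Q z e d
  | .allQ r, e, d => ∀ x ∈ Q, r.holds Q z (x :: e) d
  | .allH k r, e, d => ∀ h, z * h = h * z → Cnd k h → r.holds Q z e (h :: d)

/-- Codes for a list of elements of the centraliser. -/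
inductive RHL (z : G) (ε : ℕ → G) (b : Bool) : List ℕ → List ℕ → List G → Prop
  | nil : RHL z ε b [] [] []
  | cons {x y : ℕ} {h : G} {a a' : List ℕ} {d : List G} (r : RH z ε b (ap x) (ap y) h) (t : RHL z ε b a a' d) :
      RHL z ε b (x :: a) (y :: a') (h :: d)

theorem ap_one : ∀ n < 32, ap 0x7b9ac5a928398a418820 n = n := by decide +kernel

theorem RHL.nth {z : G} {ε : ℕ → G} {b : Bool} {a a' : List ℕ} {d : List G} (h : RHL z ε b a a' d) (i : ℕ) :
    RH z ε b (ap (nth 0x7b9ac5a928398a418820 a i)) (ap (nth 0x7b9ac5a928398a418820 a' i)) (nth 1 d i) := by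
  induction h generalizing i with
  | nil => exact ⟨by simp, fun n x h => by simpa [ap_one n h.1] using h, fun n x h => by simpa [ap_one n h.1] using h⟩
  | cons r _ ih => cases i with
    | zero => exact r
    | succ i => exact ih i

namespace Fr

variable {τ : Ty} {Q : Subgroup G} {z : G} {ε : ℕ → G} (F : Fr τ Q z ε) {b : Bool} {c a a' : List ℕ} {e d : List G}
include F

theorem nthQ (h : List.Forall₂ (RQ z ε b) c e) (i : ℕ) : RQ z ε b (nth 0 c i) (nth 1 e i) := by
  induction h generalizing i with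
  | nil => exact F.rq1
  | cons r _ ih => cases i with
    | zero => exact r
    | succ i => exact ih i

theorem tm (h : List.Forall₂ (RQ z ε b) c e) (h' : RHL z ε b a a' d) (t : T) :
    RH z ε b (t.ev τ.T c a a').f (t.ev τ.T c a a').g (t.val e d) ∧
      (t.isQ = true → RQ z ε b (t.ev τ.T c a a').q (t.val e d)) := by
  induction t with
  | q i => exact ⟨F.rcq (F.nthQ h i), fun _ => F.nthQ h i⟩
  | h i => exact ⟨h'.nth i, fun h => by cases h⟩
  | one => exact ⟨RH.one, fun _ => F.rq1⟩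
  | mul s t ihs iht =>
    exact ⟨ihs.1.mul iht.1, fun h => F.rmul (ihs.2 (Bool.and_eq_true_iff.1 h).1) (iht.2 (Bool.and_eq_true_iff.1 h).2)⟩
  | inv t ih => exact ⟨ih.1.inv, fun h => F.rinv (ih.2 h)⟩
  | pow t n ih =>
    induction n with
    | zero =>
      rw [T.val, pow_zero]
      exact ⟨RH.one, fun _ => F.rq1⟩
    | succ n ih' =>
      rw [T.val, pow_succ']
      exact ⟨ih.1.mul ih'.1, fun h => F.rmul (ih.2 h) (ih'.2 h)⟩
  | cj s t ihs iht => exact ⟨(ihs.1.mul iht.1).mul ihs.1.inv, fun h => ihs.1.2.1 _ _ (iht.2 h)⟩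
  | cj' s t ihs iht => exact ⟨(ihs.1.inv.mul iht.1).mul ihs.1, fun h => ihs.1.2.2 _ _ (iht.2 h)⟩

theorem all_iff {f : ℕ → Bool} {P : G → Prop} (hf : ∀ n x, RQ z ε b n x → (f n = true ↔ P x)) :
    allLt (cond b 16 32) f = true ↔ ∀ x ∈ Q, P x := by
  rw [allLt_iff]
  refine ⟨fun h x hx => ?_, fun h n hn => ?_⟩
  · obtain ⟨n, hn, r⟩ := F.exists_rq b hx
    exact (hf n x r).1 (h n hn)
  · have hn' : n < 32 := by cases b <;> simp at hn <;> omega
    exact (hf n _ (rq hn')).2 (h _ (F.mem' hn'))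

theorem fm (h' : RHL z ε b a a' d) (p : Fm) (hw : p.wf b = true) (h : List.Forall₂ (RQ z ε b) c e) :
    p.ev τ.T (cond b 16 32) a a' c = true ↔ p.holds Q z d e := by
  induction p generalizing c e with
  | tt => exact ⟨fun _ => trivial, fun _ => rfl⟩
  | eq s t =>
    simp only [Fm.wf, Bool.and_eq_true, Bool.not_eq_true'] at hw
    obtain ⟨⟨rfl, h1⟩, h2⟩ := hw
    exact (nbeq_iff _ _).trans (F.r_eq ((F.tm h h' s).2 h1) ((F.tm h h' t).2 h2))
  | eqv s t =>
    simp only [Fm.wf, Bool.and_eq_true] at hw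
    exact (nbeq_iff _ _).trans (F.r_eqv ((F.tm h h' s).2 hw.1) ((F.tm h h' t).2 hw.2))
  | sq s => exact (nbeq_iff _ _).trans (F.r_sq ((F.tm h h' s).2 hw))
  | cm s t =>
    simp only [Fm.wf, Bool.and_eq_true] at hw
    exact (nbeq_iff _ _).trans (F.r_cm ((F.tm h h' s).2 hw.1) ((F.tm h h' t).2 hw.2))
  | fx s t =>
    simp only [Fm.wf, Bool.and_eq_true, Bool.not_eq_true'] at hw
    obtain ⟨rfl, h2⟩ := hw
    exact (nbeq_iff _ _).trans ((F.r_eq ((F.tm h h' s).1.2.1 _ _ ((F.tm h h' t).2 h2)) ((F.tm h h' t).2 h2)).trans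
      mul_inv_eq_iff_eq_mul)
  | inQ s => exact F.r_inQ (F.tm h h' s).1
  | eqvH s t =>
    simp only [Fm.wf, Bool.not_eq_true'] at hw
    subst hw
    exact F.r_eqvH (F.tm h h' s).1 (F.tm h h' t).1
  | not p ih => exact (bneg_iff _).trans (not_congr (ih hw h))
  | and p q ihp ihq =>
    simp only [Fm.wf, Bool.and_eq_true] at hw
    exact (band_iff _ _).trans (and_congr (ihp hw.1 h) (ihq hw.2 h))
  | or p q ihp ihq =>
    simp only [Fm.wf, Bool.and_eq_true] at hw
    exact (bor_iff _ _).trans (or_congr (ihp hw.1 h) (ihq hw.2 h))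
  | imp p q ihp ihq =>
    simp only [Fm.wf, Bool.and_eq_true] at hw
    exact (bimp_iff _ _).trans (imp_congr (ihp hw.1 h) (ihq hw.2 h))
  | iff p q ihp ihq =>
    simp only [Fm.wf, Bool.and_eq_true] at hw
    refine Iff.trans ?_ (iff_congr (ihp hw.1 h) (ihq hw.2 h))
    show Bool.rec (bneg (q.ev τ.T _ a a' c)) (q.ev τ.T _ a a' c) (p.ev τ.T _ a a' c) = true ↔ _
    cases p.ev τ.T _ a a' c <;> simp
  | all p ih => exact F.all_iff fun n x r => ih hw (.cons r h)
  | ex p ih =>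
    refine (bneg_iff _).trans ((F.all_iff (P := fun x => ¬ p.holds Q z d (x :: e)) fun n x r =>
      (bneg_iff _).trans (not_congr (ih hw (.cons r h)))).not.trans ?_)
    show _ ↔ ∃ x ∈ Q, p.holds Q z d (x :: e)
    push Not
    rfl
  | bind t p ih =>
    simp only [Fm.wf, Bool.and_eq_true] at hw
    exact ih hw.2 (.cons ((F.tm h h' t).2 hw.1) h)

theorem pm (p : Pm) (hw : p.wf b = true) (h : List.Forall₂ (RQ z ε b) c e) (h' : RHL z ε b a a' d)
    (hp : p.ev0 τ b c a a' = true) : p.holds Q z e d := by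
  induction p generalizing c e a a' d with
  | base p => exact (F.fm h' p hw h).1 hp
  | imp p r ih =>
    simp only [Pm.wf, Bool.and_eq_true] at hw
    exact fun h1 => ih hw.2 h h' ((bimp_iff _ _).1 hp ((F.fm h' p hw.1 h).2 h1))
  | and r s ih ih' =>
    simp only [Pm.wf, Bool.and_eq_true] at hw
    exact ⟨ih hw.1 h h' ((band_iff _ _).1 hp).1, ih' hw.2 h h' ((band_iff _ _).1 hp).2⟩
  | allQ r ih =>
    intro x hx
    obtain ⟨n, hn, r⟩ := F.exists_rq b hx
    exact ih hw (.cons r h) h' ((allLt_iff _ _).1 hp n hn)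
  | allH k r ih =>
    intro g hg hk
    obtain ⟨x, y, hl, r⟩ := F.exists_dom b hg hk
    exact ih hw h (.cons r h') ((ST.all2_iff _ _).1 hp x y hl)

end Fr

/-- `x` is the value of a term that denotes an element of `Q`. -/
class TQ (e d : List G) (x : G) (t : outParam T) : Prop where
  eq : t.val e d = x

/-- `x` is the value of a term. -/
class TH (e d : List G) (x : G) (t : outParam T) : Prop where
  eq : t.val e d = x

section

variable (e d : List G) (x y u : G) (s t r : T)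

instance (priority := 3000) TQ.v (i : ℕ) [h : RV 1 e x i] : TQ e d x (.q i) := ⟨h.eq⟩
instance TQ.one : TQ e d 1 .one := ⟨rfl⟩
instance (priority := 900) TQ.mul [h : TQ e d x s] [h' : TQ e d y t] : TQ e d (x * y) (.mul s t) :=
  ⟨by rw [← h.eq, ← h'.eq]; rfl⟩
instance TQ.inv [h : TQ e d x t] : TQ e d x⁻¹ (.inv t) := ⟨by rw [← h.eq]; rfl⟩
instance TQ.pow (n : ℕ) [h : TQ e d x t] : TQ e d (x ^ n) (.pow t n) := ⟨by rw [← h.eq]; rfl⟩
instance (priority := 800) TQ.cj [h' : TQ e d y t] [h : TH e d x s] : TQ e d (x * y * x⁻¹) (.cj s t) :=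
  ⟨by rw [← h.eq, ← h'.eq]; rfl⟩
instance (priority := 800) TQ.cj' [h' : TQ e d y t] [h : TH e d x s] : TQ e d (x⁻¹ * y * x) (.cj' s t) :=
  ⟨by rw [← h.eq, ← h'.eq]; rfl⟩
instance (priority := 700) TQ.cm [h' : TQ e d y t] [h : TH e d x s] :
    TQ e d (y * x * y⁻¹ * x⁻¹) (.mul t (.cj s (.inv t))) := ⟨by rw [← h.eq, ← h'.eq]; simp [T.val, mul_assoc]⟩
instance (priority := 3000) TH.v (i : ℕ) [h : RV 1 d x i] : TH e d x (.h i) := ⟨h.eq⟩
instance (priority := 2000) TH.q (i : ℕ) [h : RV 1 e x i] : TH e d x (.q i) := ⟨h.eq⟩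
instance TH.one : TH e d 1 .one := ⟨rfl⟩
instance TH.mul [h : TH e d x s] [h' : TH e d y t] : TH e d (x * y) (.mul s t) := ⟨by rw [← h.eq, ← h'.eq]; rfl⟩
instance TH.inv [h : TH e d x t] : TH e d x⁻¹ (.inv t) := ⟨by rw [← h.eq]; rfl⟩
instance TH.pow (n : ℕ) [h : TH e d x t] : TH e d (x ^ n) (.pow t n) := ⟨by rw [← h.eq]; rfl⟩

end

/-- `P` is the meaning of `p`. -/
class RF (Q : Subgroup G) (z : G) (e d : List G) (P : Prop) (p : outParam Fm) : Prop where
  iff : p.holds Q z d e ↔ P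

/-- `P` implies the meaning of `p`. -/
class RW (Q : Subgroup G) (z : G) (b : Bool) (e d : List G) (P : Prop) (p : outParam Fm) : Prop where
  imp : P → p.holds Q z d e

/-- `P` follows from the meaning of `p`. -/
class RP (Q : Subgroup G) (z : G) (b : Bool) (e d : List G) (P : Prop) (p : outParam Pm) : Prop where
  imp : p.holds Q z e d → P

section

variable (Q : Subgroup G) (z : G) (b : Bool) (e d : List G) (x y : G) (s t : T) (P P' : Prop) (p q : Fm) (r r' : Pm)

instance RF.tt : RF Q z e d True .tt := ⟨Iff.rfl⟩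
instance RF.ff : RF Q z e d False (.not .tt) := ⟨by simp [Fm.holds]⟩
instance (priority := 500) RF.eq [h : TQ e d x s] [h' : TQ e d y t] : RF Q z e d (x = y) (.eq s t) :=
  ⟨by rw [← h.eq, ← h'.eq]; rfl⟩
instance (priority := 2000) RF.sq [h : TQ e d x s] : RF Q z e d (x * x = 1) (.sq s) := ⟨by rw [← h.eq]; rfl⟩
instance (priority := 1900) RF.cm [h : TQ e d x s] [h' : TQ e d y t] : RF Q z e d (x * y = y * x) (.cm s t) :=
  ⟨by rw [← h.eq, ← h'.eq]; rfl⟩
instance (priority := 1800) RF.fx [h' : TQ e d y t] [h : TH e d x s] : RF Q z e d (x * y = y * x) (.fx s t) :=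
  ⟨by rw [← h.eq, ← h'.eq]; rfl⟩
instance (priority := 1700) RF.fx' [h' : TQ e d y t] [h : TH e d x s] : RF Q z e d (y * x = x * y) (.fx s t) :=
  ⟨by rw [← h.eq, ← h'.eq]; exact eq_comm⟩
instance (priority := 2000) RF.eqv [h : TQ e d x s] [h' : TQ e d y t] : RF Q z e d (Eqv z x y) (.eqv s t) :=
  ⟨by rw [← h.eq, ← h'.eq]; rfl⟩
instance (priority := 500) RF.eqvH [h : TH e d x s] [h' : TH e d y t] : RF Q z e d (Eqv z x y) (.eqvH s t) :=
  ⟨by rw [← h.eq, ← h'.eq]; rfl⟩
instance RF.inQ [h : TH e d x s] : RF Q z e d (x ∈ Q) (.inQ s) := ⟨by rw [← h.eq]; rfl⟩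
instance RF.ne [h : RF Q z e d (x = y) p] : RF Q z e d (x ≠ y) (.not p) := ⟨not_congr h.iff⟩
instance RF.not [h : RF Q z e d P p] : RF Q z e d (¬ P) (.not p) := ⟨not_congr h.iff⟩
instance RF.and [h : RF Q z e d P p] [h' : RF Q z e d P' q] : RF Q z e d (P ∧ P') (.and p q) :=
  ⟨and_congr h.iff h'.iff⟩
instance RF.or [h : RF Q z e d P p] [h' : RF Q z e d P' q] : RF Q z e d (P ∨ P') (.or p q) := ⟨or_congr h.iff h'.iff⟩
instance RF.imp [h : RF Q z e d P p] [h' : RF Q z e d P' q] : RF Q z e d (P → P') (.imp p q) :=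
  ⟨imp_congr h.iff h'.iff⟩
instance RF.iff' [h : RF Q z e d P p] [h' : RF Q z e d P' q] : RF Q z e d (P ↔ P') (.iff p q) :=
  ⟨iff_congr h.iff h'.iff⟩
instance (priority := 2000) RF.all (P : G → Prop) [h : ∀ x, RF Q z (x :: e) d (P x) p] :
    RF Q z e d (∀ x ∈ Q, P x) (.all p) := ⟨forall_congr' fun x => imp_congr_right fun _ => (h x).iff⟩
instance RF.ex (P : G → Prop) [h : ∀ x, RF Q z (x :: e) d (P x) p] : RF Q z e d (∃ x ∈ Q, P x) (.ex p) :=
  ⟨exists_congr fun x => and_congr_right fun _ => (h x).iff⟩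
instance RF.bind (P : G → Prop) [h : TQ e d x t] [h' : ∀ y, RF Q z (y :: e) d (P y) p] :
    RF Q z e d (Let x P) (.bind t p) := ⟨by rw [← h.eq]; exact (h' _).iff⟩

instance (priority := 2000) RW.rf [h : RF Q z e d P p] : RW Q z b e d P p := ⟨h.iff.2⟩
instance RW.eq [h : TH e d x s] [h' : TH e d y t] : RW Q z false e d (x = y) (.eqvH s t) :=
  ⟨fun k => by rw [← h.eq, ← h'.eq] at k; exact .inl k⟩
instance RW.eq' [h : TH e d x s] [h' : TH e d y t] : RW Q z true e d (x = y) (.inQ (.mul s (.inv t))) :=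
  ⟨fun k => by
    show s.val e d * (t.val e d)⁻¹ ∈ Q
    rw [h.eq, h'.eq, k, mul_inv_cancel]; exact Q.one_mem⟩

instance (priority := 100) RP.base [h : RF Q z e d P p] : RP Q z b e d P (.base p) := ⟨h.iff.1⟩
instance (priority := 500) RP.imp' [h : RW Q z b e d P p] [h' : RP Q z b e d P' r] : RP Q z b e d (P → P') (.imp p r) :=
  ⟨fun k hP => h'.imp (k (h.imp hP))⟩
instance (priority := 500) RP.and [h : RP Q z b e d P r] [h' : RP Q z b e d P' r'] :
    RP Q z b e d (P ∧ P') (.and r r') := ⟨fun k => ⟨h.imp k.1, h'.imp k.2⟩⟩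
instance (priority := 600) RP.allQ (P : G → Prop) [h : ∀ x, RP Q z b (x :: e) d (P x) r] :
    RP Q z b e d (∀ x ∈ Q, P x) (.allQ r) := ⟨fun k x hx => (h x).imp (k x hx)⟩
instance (priority := 700) RP.all0 (P : G → Prop) [h : ∀ x, RP Q z b e (x :: d) (P x) r] :
    RP Q z b e d (∀ x, z * x = x * z → P x) (.allH 0 r) :=
  ⟨fun k x hx => (h x).imp (k x hx ⟨by simp, by simp⟩)⟩
instance (priority := 800) RP.all1 (P : G → Prop) [h : ∀ x, RP Q z false e (x :: d) (P x) r] :
    RP Q z false e d (∀ x, z * x = x * z → x * x = 1 → P x) (.allH 1 r) :=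
  ⟨fun k x hx h1 => (h x).imp (k x hx ⟨fun _ => h1, by simp⟩)⟩
instance (priority := 800) RP.all2 (P : G → Prop) [h : ∀ x, RP Q z false e (x :: d) (P x) r] :
    RP Q z false e d (∀ x, z * x = x * z → x ^ 3 = 1 → P x) (.allH 2 r) :=
  ⟨fun k x hx h1 => (h x).imp (k x hx ⟨by simp, fun _ => h1⟩)⟩

end

theorem Fr.dec {τ : Ty} {Q : Subgroup G} {z : G} {ε : ℕ → G} (F : Fr τ Q z ε) (b : Bool) {a a' : List ℕ} {d : List G}
    (h' : RHL z ε b a a' d) {P : Prop} {p : Pm} [h : RP Q z b [z, ε 1, ε 2, ε 4, ε 8] d P p]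
    (hp : p.ev τ b [16, 1, 2, 4, 8] a a' = true) : P :=
  h.imp (F.pm p ((band_iff _ _).1 hp).1 (.cons F.rqz (.cons (Fr.rq (by norm_num)) (.cons (Fr.rq (by norm_num))
    (.cons (Fr.rq (by norm_num)) (.cons (Fr.rq (by norm_num)) .nil))))) h' ((band_iff _ _).1 hp).2)

/-- `Q` is large extraspecial of order 32 and of type `τ`. -/
def Ok (τ : Ty) (Q : Subgroup G) (z : G) : Prop := ∃ ε, Fr τ Q z ε

/-- Of one of the two types. -/
def Ok2 (Q : Subgroup G) (z : G) : Prop := Ok tP Q z ∨ Ok tM Q z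

variable {τ : Ty} {Q : Subgroup G} {z : G}

theorem Ok.dec (F : Ok τ Q z) (b : Bool) {P : Prop} {p : Pm} [h : RP Q z b [z] [] P p]
    (hp : p.ev τ b [16] [] [] = true) : P := by
  obtain ⟨ε, F⟩ := F
  exact h.imp (F.pm p ((band_iff _ _).1 hp).1 (.cons F.rqz .nil) .nil ((band_iff _ _).1 hp).2)

theorem Ok2.dec (F : Ok2 Q z) (b : Bool) {P : Prop} {p : Pm} [RP Q z b [z] [] P p]
    (hp : band (p.ev tP b [16] [] []) (p.ev tM b [16] [] []) = true) : P :=
  F.elim (fun F => F.dec b ((band_iff _ _).1 hp).1) fun F => F.dec b ((band_iff _ _).1 hp).2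

theorem Ok.conj (F : Ok τ Q z) (g : G) : Ok τ (cj g Q) (g * z * g⁻¹) := F.elim fun _ F => ⟨_, F.conj g⟩

theorem Ok2.conj (F : Ok2 Q z) (g : G) : Ok2 (cj g Q) (g * z * g⁻¹) := F.imp (·.conj g) (·.conj g)

theorem Ok2.lg (F : Ok2 Q z) : Lg Q z := F.elim (fun ⟨_, F⟩ => F.lg) fun ⟨_, F⟩ => F.lg

theorem Ok2.es (F : Ok2 Q z) : ES2 Q z := F.elim (fun ⟨_, F⟩ => F.es) fun ⟨_, F⟩ => F.es

theorem Ok2.card (F : Ok2 Q z) : Nat.card Q = 32 := F.elim (fun ⟨_, F⟩ => F.card) fun ⟨_, F⟩ => F.card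

variable [Finite G]

theorem exists_ok {Q : Subgroup G} {z : G} (es : ES2 Q z) (lg : Lg Q z) (hc : Nat.card Q = 32) : Ok2 Q z := by
  have A := es.aes
  -- a pair of one of the two kinds inside a subgroup
  have pair : ∀ {K : Subgroup G}, K ≤ Q → ∀ {a b : G}, a ∈ K → b ∈ K → a * b ≠ b * a →
      ∃ a ∈ K, ∃ b ∈ K, a * b ≠ b * a ∧ ((a * a = z ∧ b * b = z) ∨ (a * a = 1 ∧ b * b = 1)) := by
    intro K hK a b ha hb h
    have e := A.eq_of_ne (hK hb) (hK ha) (Ne.symm h)
    have e1 : a * b * (a * b) = z * (a * a) * (b * b) := by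
      rw [mul_assoc, ← mul_assoc b, e, ← mul_assoc, ← mul_assoc, ← mul_assoc, ← A.z_comm a (hK ha)]; group
    rcases A.sq a (hK ha) with h1 | h1 <;> rcases A.sq b (hK hb) with h2 | h2
    · exact ⟨a, ha, b, hb, h, .inr ⟨h1, h2⟩⟩
    · exact ⟨a, ha, a * b, K.mul_mem ha hb, fun k => h (by simpa [mul_assoc] using k),
        .inr ⟨h1, by rw [e1, h1, h2, mul_one, A.z_sq]⟩⟩
    · exact ⟨a * b, K.mul_mem ha hb, b, hb, fun k => h (by simpa [← mul_assoc] using k),
        .inr ⟨by rw [e1, h1, h2, mul_one, A.z_sq], h2⟩⟩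
    · exact ⟨a, ha, b, hb, h, .inl ⟨h1, h2⟩⟩
  obtain ⟨a0, ha0, b0, hb0, h0⟩ := es.nonab
  obtain ⟨a, ha, b, hb, hab, H1⟩ := pair le_rfl ha0 hb0 h0
  set K := Q ⊓ (centralizer {a} ⊓ centralizer {b}) with hK
  have mK : ∀ {x}, x ∈ K ↔ x ∈ Q ∧ a * x = x * a ∧ b * x = x * b := by
    simp [hK, mem_centralizer_singleton]
  have dec : ∀ q ∈ Q, q ∈ K ∨ a * q ∈ K ∨ b * q ∈ K ∨ a * b * q ∈ K := by
    intro q hq
    have k1 : bf a b = 1 := bf_eq_one.2 hab
    have z2 : ∀ x : ZMod 2, x = 0 ∨ x = 1 := by decide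
    simp only [mK, ← bf_eq_zero, A.bf_mul_right ha hq, A.bf_mul_right hb hq, A.bf_mul_right (Q.mul_mem ha hb) hq,
      A.bf_mul_right ha hb, ha, hb, hq, Q.mul_mem, bf_self, k1, bf_comm b a, true_and]
    rcases z2 (bf a q) with h | h <;> rcases z2 (bf b q) with h' | h' <;> rw [h, h'] <;> decide
  have nab : ∃ c ∈ K, ∃ d ∈ K, c * d ≠ d * c := by
    by_contra hn
    push Not at hn
    have hz : ∀ x ∈ K, x = 1 ∨ x = z := fun x hx => es.center x (mK.1 hx).1 fun q hq => by
      have c1 : Commute x a := (mK.1 hx).2.1.symm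
      have c2 : Commute x b := (mK.1 hx).2.2.symm
      rcases dec q hq with h | h | h | h
      · exact hn x hx q h
      · simpa using (c1.inv_right.mul_right (hn x hx _ h)).eq
      · simpa using (c2.inv_right.mul_right (hn x hx _ h)).eq
      · simpa only [inv_mul_cancel_left] using ((c1.mul_right c2).inv_right.mul_right (hn x hx _ h)).eq
    classical
    have : (Q : Set G) ⊆ ({1, z, a⁻¹, a⁻¹ * z, b⁻¹, b⁻¹ * z, (a * b)⁻¹, (a * b)⁻¹ * z} : Finset G) := fun q hq => by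
      simp only [Finset.coe_insert, Finset.coe_singleton, Set.mem_insert_iff, Set.mem_singleton_iff,
        eq_inv_mul_iff_mul_eq, eq_inv_iff_mul_eq_one, mul_eq_one_comm (a := q)]
      rcases dec q hq with h | h | h | h <;> rcases hz _ h with h | h <;> simp [h]
    have h8 := Set.ncard_le_ncard this (Finset.finite_toSet _)
    rw [Set.ncard_coe_finset, ← Nat.card_coe_set_eq] at h8
    have h9 := h8.trans ((Finset.card_insert_le _ _).trans (Nat.succ_le_succ ((Finset.card_insert_le _ _).trans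
      (Nat.succ_le_succ Finset.card_le_six))))
    change Nat.card Q ≤ 8 at h9
    omega
  obtain ⟨c0, hc0, d0, hd0, h1⟩ := nab
  obtain ⟨c, hcK, d, hdK, hcd, H2⟩ := pair inf_le_left hc0 hd0 h1
  obtain ⟨hc', ac, bc⟩ := mK.1 hcK
  obtain ⟨hd', ad, bd⟩ := mK.1 hdK
  rcases H1 with ⟨a2, b2⟩ | ⟨a2, b2⟩ <;> rcases H2 with ⟨c2, d2⟩ | ⟨c2, d2⟩
  · exact .inl ((exists_fr tP_ok lg hc ha hb hc' hd' a2 b2 c2 d2 hab hcd ac bc ad bd).imp fun _ h => h.1)
  · exact .inr ((exists_fr tM_ok lg hc ha hb hc' hd' a2 b2 c2 d2 hab hcd ac bc ad bd).imp fun _ h => h.1)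
  · exact .inr ((exists_fr tM_ok lg hc hc' hd' ha hb c2 d2 a2 b2 hcd hab ac.symm ad.symm bc.symm bd.symm).imp
      fun _ h => h.1)
  · have sq : ∀ {x}, x ∈ Q → ∀ {y}, y ∈ Q → x * y * (x * y) = cond (decide (bf x y = 0)) 1 z * (x * x) * (y * y) := by
      intro x hx y hy
      by_cases h : x * y = y * x
      · simp only [bf_eq_zero.2 h, decide_true, cond_true, one_mul]
        rw [mul_assoc, ← mul_assoc y, ← h]; group
      · simp only [bf_eq_zero, h, decide_false, cond_false]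
        rw [mul_assoc, ← mul_assoc y, A.eq_of_ne hy hx (Ne.symm h), ← mul_assoc, ← mul_assoc, ← mul_assoc,
          ← A.z_comm x hx]; group
    have k1 := bf_eq_one.2 hab
    have k2 := bf_eq_one.2 hcd
    have k3 := bf_eq_zero.2 ac
    have k4 := bf_eq_zero.2 bc
    have k5 := bf_eq_zero.2 ad
    have k6 := bf_eq_zero.2 bd
    have ab := Q.mul_mem ha hb
    have cd := Q.mul_mem hc' hd'
    have s1 : a * b * (a * b) = z := by rw [sq ha hb, k1, a2, b2]; simp
    have s2 : c * d * (c * d) = z := by rw [sq hc' hd', k2, c2, d2]; simp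
    refine .inl ((exists_fr tP_ok lg hc ab (Q.mul_mem ha cd) cd (Q.mul_mem hc' ab) s1 ?_ s2 ?_ ?_ ?_ ?_ ?_ ?_ ?_).imp
      fun _ h => h.1)
    · rw [sq ha cd, a2, s2, A.bf_mul_right hc' hd' ha, k3, k5]; simp
    · rw [sq hc' ab, c2, s1, A.bf_mul_right ha hb hc', bf_comm c, bf_comm c, k3, k4]; simp; rfl
    all_goals
      simp only [Ne, ← bf_eq_zero, A.bf_mul_right, A.bf_mul_left, ha, hb, hc', hd', ab, cd, Q.mul_mem, bf_self,
        bf_comm b a, bf_comm c a, bf_comm c b, bf_comm d a, bf_comm d b, bf_comm d c, k1, k2, k3, k4, k5, k6]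
      decide

end Cfsg.Agent.W2
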