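import Mathlib
import Cfsg.Agent.W2.Refl
import Cfsg.Agent.NE.Tools
import Cfsg.Agent.Spor.ESPair2

/-!
Letters with known action, cosets, orders, and the basic hypothesis.
-/

set_option autoImplicit false

namespace Cfsg.Agent.W2

open Cfsg.Agent.Spor Cfsg.Agent.Rec Cfsg.Agent.Inv.Fz Subgroup

variable {G : Type*} [Group G]

/-- The action of a word. -/
noncomputable def wf (a : List ℕ) (w : List ℕ) : ℕ → ℕ :=
  List.rec (motive := fun _ => ℕ → ℕ) (fun n => n)
    (fun i _ ih n => force (ih n) (ap (nth 0x7b9ac5a928398a418820 a i))) w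

/-- The action of its inverse. -/
noncomputable def wg (a : List ℕ) (w : List ℕ) : ℕ → ℕ :=
  List.rec (motive := fun _ => ℕ → ℕ) (fun n => n)
    (fun i _ ih n => force (ap (nth 0x7b9ac5a928398a418820 a i) n) ih) w

/-- A number that depends only on the coset. -/
noncomputable def key (f : ℕ → ℕ) : ℕ :=
  Nat.succ (Nat.add (Nat.add (Nat.land (f 1) 15) (Nat.mul 16 (Nat.land (f 2) 15)))
    (Nat.add (Nat.mul 256 (Nat.land (f 4) 15)) (Nat.mul 4096 (Nat.land (f 8) 15))))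

/-- The table `α` describes `f` modulo the centre. -/
noncomputable def tb (α : ℕ) (f : ℕ → ℕ) : Bool :=
  allLt 32 fun n => force (ap α n) fun m => band (Nat.beq (Nat.land m 15) (Nat.land (f n) 15)) (blt m 32)

theorem RHL.word {z : G} {ε : ℕ → G} {b : Bool} {a a' : List ℕ} {d : List G} (h : RHL z ε b a a' d) (w : List ℕ) :
    RH z ε b (wf a w) (wg a' w) (evalW (Rec.nth 1 d) w) := by
  induction w with
  | nil => exact RH.one
  | cons i w ih => rw [evalW_cons]; exact (h.nth i).mul ih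

namespace Fr

variable {τ : Ty} {Q : Subgroup G} {z : G} {ε : ℕ → G} (F : Fr τ Q z ε) {b : Bool} {a a' : List ℕ} {d : List G}
  {f g f' g' : ℕ → ℕ} {h h' : G}
include F

theorem weak (r : RH z ε false f g h) : RH z ε true f g h :=
  F.rh_bar r fun _ hn => ⟨⟨(r.2.1 _ _ (rq hn)).1, (r.2.2 _ _ (rq hn)).1⟩, rfl, rfl⟩

theorem rh_tb (r : RH z ε true f g h) {α β : ℕ} (h1 : tb α f = true) (h2 : tb β g = true) :
    RH z ε true (ap α) (ap β) h := by
  simp only [tb, allLt_iff, force_eq, band_iff, nbeq_iff, blt_iff] at h1 h2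
  have k : ∀ {n m : ℕ} {x : G}, RQ z ε true n x → m < 32 → Nat.land m 15 = Nat.land n 15 → RQ z ε true m x :=
    fun hx hl e => rq_of_eqv hl (((F.r_eqv (rq hl) hx).1 e).symm F.zz)
  exact ⟨r.1, fun n x hx => k (r.2.1 _ _ hx) (h1 n hx.1).2 (h1 n hx.1).1,
    fun n x hx => k (r.2.2 _ _ hx) (h2 n hx.1).2 (h2 n hx.1).1⟩

/-- A property that determines the action. -/
theorem rh_of (b : Bool) (h' : RHL z ε b a a' d) (α β : ℕ) {P : G → Prop} {p : Fm}
    [hp : ∀ x, RF Q z [z, ε 1, ε 2, ε 4, ε 8] (x :: d) (P x) p]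
    (hc : band (p.wf b) ((τ.dom b 0).all2 fun x y => bimp (p.ev τ.T (cond b 16 32) (x :: a) (y :: a') [16, 1, 2, 4, 8])
      (band (Nat.beq x α) (Nat.beq y β))) = true) (hz : z * h = h * z) (hP : P h) : RH z ε b (ap α) (ap β) h := by
  obtain ⟨x, y, hl, r⟩ := F.exists_dom b (k := 0) hz ⟨by simp, by simp⟩
  rw [band_iff] at hc
  have := (bimp_iff _ _).1 ((ST.all2_iff _ _).1 hc.2 x y hl) ((F.fm (.cons r h') p hc.1 (.cons F.rqz
    (.cons (rq (by norm_num)) (.cons (rq (by norm_num)) (.cons (rq (by norm_num)) (.cons (rq (by norm_num)) .nil)))))).2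
    ((hp h).iff.2 hP))
  simp only [band_iff, nbeq_iff] at this
  exact this.1 ▸ this.2 ▸ r

/-- Reduction to coset representatives. -/
theorem red (h' : RHL z ε true a a' d) (W : List (List ℕ)) (α β : ℕ)
    (hc : (τ.O.all2 fun x y => bneg (allL W fun w => bneg (bor (agr 15 (fun n => force (ap x n) (wf a w)) fun n => n)
      (band (tb α fun n => force (ap x n) (wf a w)) (tb β fun n => force (wg a' w n) (ap y)))))) = true)
    (hz : z * h = h * z) :
    ∃ w ∈ W, evalW (nth 1 d) w * h ∈ Q ∨ RH z ε true (ap α) (ap β) (evalW (nth 1 d) w * h) := by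
  obtain ⟨x, y, hl, r⟩ := F.exists_dom true (k := 0) hz ⟨by simp, by simp⟩
  have := (ST.all2_iff _ _).1 hc x y hl
  simp only [bneg_iff, allL_iff, not_forall, not_not, bor_iff, band_iff] at this
  obtain ⟨w, hw, e⟩ := this
  exact ⟨w, hw, e.imp (F.r_inQ ((h'.word w).mul r)).1 fun e => F.rh_tb ((h'.word w).mul r) e.1 e.2⟩

theorem key_eq (r : RH z ε true f g h) (r' : RH z ε true f' g' h') (e : h⁻¹ * h' ∈ Q) : key f = key f' := by
  have k : ∀ n < 32, Nat.land (f n) 15 = Nat.land (f' n) 15 := fun n hn => by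
    refine (F.r_eqv (r.2.1 _ _ (rq hn)) (r'.2.1 _ _ (rq hn))).2 ?_
    have := ((F.lg.aes.eqv_conj e (F.mem' hn)).conj r.1).symm F.zz
    rwa [show h * (h⁻¹ * h' * ε n * (h⁻¹ * h')⁻¹) * h⁻¹ = h' * ε n * h'⁻¹ by group] at this
  simp only [key, k 1 (by norm_num), k 2 (by norm_num), k 4 (by norm_num), k 8 (by norm_num)]

/-- The order of the centraliser. -/
theorem card_cent [Finite G] (h' : RHL z ε true a a' d) (W : List (List ℕ))
    (hc : incr (W.map fun w => key (wf a w)) 0 = true)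
    (cov : ∀ h, z * h = h * z → ∃ w ∈ W, evalW (nth 1 d) w * h ∈ Q) :
    Nat.card (centralizer ({z} : Set G)) = W.length * 32 := by
  have h1 : (W.map fun w => key (wf a w)).Nodup := (List.pairwise_cons.1 (incr_sound hc)).2.imp ne_of_lt
  have m : ∀ (i : Fin W.length) (q : Q), evalW (nth 1 d) W[i] * q ∈ centralizer ({z} : Set G) := fun i q =>
    mul_mem (mem_centralizer_singleton.2 (h'.word _).1) (mem_centralizer_singleton.2 (F.zc q.2))
  rw [← Nat.card_eq_of_bijective (fun p : Fin W.length × Q => (⟨_, m p.1 p.2⟩ : centralizer ({z} : Set G)))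
    ⟨?_, ?_⟩, Nat.card_prod, F.card]
  · simp
  · rintro ⟨i, q⟩ ⟨j, q'⟩ e
    have e' : evalW (nth 1 d) W[i] * q = evalW (nth 1 d) W[j] * q' := congrArg Subtype.val e
    have : i = j := by
      have k := F.key_eq (h'.word W[i]) (h'.word W[j]) (by
        rw [show (evalW (nth 1 d) W[i])⁻¹ * evalW (nth 1 d) W[j] = q * (q' : G)⁻¹ by
          rw [inv_mul_eq_iff_eq_mul, ← mul_assoc, e']; group]
        exact Q.mul_mem q.2 (Q.inv_mem q'.2))
      have := (List.nodup_iff_injective_getElem.1 h1) (a₁ := ⟨i, by simp⟩) (a₂ := ⟨j, by simp⟩) (by simpa using k)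
      exact Fin.ext (Fin.mk.inj this)
    subst this
    exact Prod.ext rfl (Subtype.ext (mul_left_cancel e'))
  · rintro ⟨x, hx⟩
    have hx' : z * x = x * z := mem_centralizer_singleton.1 hx
    obtain ⟨w, hw, e⟩ := cov x⁻¹ (Commute.inv_right hx').eq
    obtain ⟨i, hi, rfl⟩ := List.getElem_of_mem hw
    refine ⟨⟨⟨i, hi⟩, ⟨_, F.lg.norm' (h'.word W[i]).1 (Q.inv_mem e)⟩⟩, Subtype.ext ?_⟩
    show evalW (nth 1 d) W[i] * ((evalW (nth 1 d) W[i])⁻¹ * (evalW (nth 1 d) W[i] * x⁻¹)⁻¹ * evalW (nth 1 d) W[i]) = x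
    group

end Fr

theorem exists_sub [Finite G] {P : G → Prop} (h1 : P 1) (hm : ∀ x y, P x → P y → P (x * y)) :
    ∃ K : Subgroup G, ∀ x, x ∈ K ↔ P x := by
  let M : Submonoid G := ⟨⟨{x | P x}, fun {a b} => hm a b⟩, h1⟩
  refine ⟨⟨M, fun {x} hx => ?_⟩, fun _ => Iff.rfl⟩
  rw [show x⁻¹ = x ^ (orderOf x - 1) from inv_eq_of_mul_eq_one_right (by
    rw [← pow_succ', Nat.sub_add_cancel (orderOf_pos x), pow_orderOf_eq_one])]
  exact M.pow_mem hx _

/-- The basic hypothesis. -/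
structure Hy (Q : Subgroup G) (z : G) : Prop where
  ok : Ok2 Q z
  o2 : pCoreOf 2 (centralizer ({z} : Set G)) ≤ Q

variable {Q : Subgroup G} {z : G}

theorem Ok2.zz (F : Ok2 Q z) : z * z = 1 := F.es.z_sq

theorem Ok2.cj_eq [Finite G] (F : Ok2 Q z) {g : G} (h : z * g = g * z) : cj g Q = Q :=
  cj_eq_iff.2 (F.lg.mem_normalizer h)

theorem Ok2.pow_four (F : Ok2 Q z) {S : Subgroup G} [Finite G] (hS : IsPGroup 2 S) {x : G} (hx : x ∈ S)
    (hz : z * x = x * z) : x ^ 4 ∈ Q := by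
  have h1 : ∀ h, z * h = h * z → (h ^ 4) ^ 15 ∈ Q := F.dec true (by decide +kernel)
  obtain ⟨k, hk⟩ := hS ⟨x, hx⟩
  have h2 : orderOf (x ^ 4) ∣ 2 ^ k := orderOf_dvd_of_pow_eq_one (by
    rw [← pow_mul, mul_comm, pow_mul, show x ^ 2 ^ k = 1 from congrArg Subtype.val hk, one_pow])
  obtain ⟨m, hm⟩ := exists_pow_eq_self_of_coprime (n := 15) (x := x ^ 4)
    (Nat.Coprime.coprime_dvd_right h2 (Nat.Coprime.pow_right k (by norm_num)))
  exact hm ▸ Q.pow_mem (h1 x hz) m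

namespace Hy

variable (h : Hy Q z)
include h

theorem conj (g : G) : Hy (cj g Q) (g * z * g⁻¹) :=
  ⟨h.ok.conj g, by rw [pCoreOf_centralizer_conj]; exact map_mono h.o2⟩

theorem mem [Finite G] {P : G → Prop} (h1 : P 1) (hm : ∀ x y, P x → P y → P (x * y)) (hz : ∀ x, P x → z * x = x * z)
    (hc : ∀ g, z * g = g * z → ∀ x, P x → P (g * x * g⁻¹)) (h4 : ∀ x, P x → x ^ 4 ∈ Q) {x : G} (hx : P x) : x ∈ Q := by
  obtain ⟨K, hK⟩ := exists_sub h1 hm
  refine h.o2 (GT.le_pCoreOf (N := K) (fun y hy => mem_centralizer_singleton.2 (hz y ((hK y).1 hy)))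
    (fun g hg => mem_normalizer_of_conj_mem fun y hy => (hK _).2 (hc g (mem_centralizer_singleton.1 hg) y ((hK y).1 hy)))
    (fun y => ⟨4, Subtype.ext ?_⟩) ((hK x).2 hx))
  exact (pow_mul (y : G) 4 4).trans (h.ok.lg.aes.pow_four (h4 y ((hK y).1 y.2)))

end Hy

end Cfsg.Agent.W2
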