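import Mathlib
import Cfsg.Agent.W2.Tools

/-!
Conjugates of `z` in its centraliser.
-/

set_option autoImplicit false
set_option synthInstance.maxSize 100000
set_option synthInstance.maxHeartbeats 1000000

namespace Cfsg.Agent.W2

open Cfsg.Agent.Spor Cfsg.Agent.Rec Cfsg.Agent.Inv.Fz Cfsg.Agent.NE Subgroup

variable {G : Type*} [Group G] {Q R : Subgroup G} {z u : G}

/-- The commutators with `Q` are singular. -/
abbrev TA (Q : Subgroup G) (u : G) : Prop := ∀ q ∈ Q, Let (q * u * q⁻¹ * u⁻¹) fun c => c * c = 1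

/-- A transvection. -/
abbrev TB (Q : Subgroup G) (z u : G) : Prop :=
  ∃ v ∈ Q, v * v ≠ 1 ∧ ∀ q ∈ Q, Let (q * u * q⁻¹ * u⁻¹) fun c => Eqv z c 1 ∨ Eqv z c v

/-- `r` lies in the unipotent radical of the stabiliser of `a`. -/
abbrev W (Q : Subgroup G) (z a r : G) : Prop :=
  Eqv z (r * a * r⁻¹) a ∧ ∀ x ∈ Q, x * a = a * x → Let (x * r * x⁻¹ * r⁻¹) fun c => c * c = 1

/-- Weak closure. -/
def WC (Q : Subgroup G) (z : G) : Prop := ∀ u ∈ Q, IsConj z u → u = z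

theorem isConj_conj (g z : G) : IsConj z (g * z * g⁻¹) := isConj_iff.2 ⟨g, rfl⟩

theorem sq_of_isConj (h : IsConj z u) (hz : z * z = 1) : u * u = 1 := by
  obtain ⟨g, rfl⟩ := isConj_iff.1 h
  exact conj_sq hz

theorem TA.conj (h : TA Q u) (g : G) : TA (cj g Q) (g * u * g⁻¹) := fun q hq => by
  have := conj_sq (g := g) (h _ (mem_cj.1 hq))
  rw [let_iff]
  convert this using 2 <;> group

theorem WC.conj (h : WC Q z) (g : G) : WC (cj g Q) (g * z * g⁻¹) := fun u hu hc => by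
  rw [← h _ (mem_cj.1 hu) (((isConj_conj g z).trans hc).trans (isConj_iff.2 ⟨g⁻¹, by group⟩))]; group

theorem WC.of_isConj (h : WC Q z) {g : G} (hc : IsConj z u) (hu : u ∈ cj g Q) : u = g * z * g⁻¹ :=
  h.conj g u hu ((isConj_conj g z).symm.trans hc)

theorem notB (hQ : Ok2 Q z) (hR : Ok2 R u) (c : z * u = u * z) (hu : u ∉ Q) (hz : z ∉ R) : ¬ TB Q z u := by
  intro h
  have f1 : ∀ u, z * u = u * z → u * u = 1 → u ∉ Q → TB Q z u →
      (∃ p ∈ Q, u * p = p * u ∧ ∃ q ∈ Q, u * q = q * u ∧ p * q * p⁻¹ * q⁻¹ = z) ∧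
      (∀ x ∈ Q, u * x = x * u → x = 1 ∨ x = z ∨ ∃ p ∈ Q, u * p = p * u ∧ p * x * p⁻¹ * x⁻¹ = z) ∧
      ∀ w, z * w = w * z → w * w = 1 → u * w = w * u → (∀ q ∈ Q, u * q = q * u → w * q = q * w) → w ∈ Q ∨ w * u ∈ Q :=
    hQ.dec false (by decide +kernel)
  have f4 : ∀ x, u * x = x * u → x ∉ R → TB R u x → ∀ p, u * p = p * u → x * p = p * x → ∀ q, u * q = q * u →
      p * q * p⁻¹ * q⁻¹ = x → False := hR.dec true (by decide +kernel)
  have f5 : ∀ w, u * w = w * u → w * w = 1 → TB R u w ∨ ∃ e ∈ R, e * e = 1 ∧ e ≠ 1 ∧ e ≠ u ∧ w * e = e * w :=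
    hR.dec false (by decide +kernel)
  obtain ⟨⟨p, hp', hp, q, -, hq, e⟩, h2, h3⟩ := f1 u c hR.zz hu h
  have k : ∀ x ∈ Q, u * x = x * u → x ∈ R → x = 1 := fun x h1 h4 h5 => by
    rcases h2 x h1 h4 with e | rfl | ⟨p, -, hp, e⟩
    exacts [e, absurd h5 hz, absurd (e ▸ R.mul_mem (hR.lg.norm p hp x h5) (R.inv_mem h5)) hz]
  obtain ⟨x, hx, x2, x1, xu, xz⟩ := (f5 z c.symm hQ.zz).resolve_left fun h => f4 z c.symm hz h p hp (hQ.es.z_comm p hp') q hq e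
  have ux := hR.es.z_comm x hx
  rcases h3 x xz x2 ux fun q hq uq => by
    have := k (x * q * x⁻¹ * q⁻¹) (Q.mul_mem (hQ.lg.norm x xz q hq) (Q.inv_mem hq))
      ((((Commute.mul_right ux uq).mul_right (Commute.inv_right ux)).mul_right (Commute.inv_right uq)).eq)
      (by simpa [mul_assoc] using R.mul_mem hx (hR.lg.norm q uq _ (R.inv_mem hx)))
    exact mul_inv_eq_iff_eq_mul.1 (mul_inv_eq_one.1 this) with h4 | h4
  · exact x1 (k x h4 ux hx)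
  · exact xu (by
      rw [eq_inv_of_mul_eq_one_left (k _ h4 (Commute.mul_right ux (Commute.refl u)).eq (R.mul_mem hx hR.es.z_mem)),
        hR.es.z_inv])

theorem existsA (hQ : Ok2 Q z) (wc : WC Q z) (hc : IsConj z u) (h1 : u ≠ z) (c : z * u = u * z) :
    ∃ u, IsConj z u ∧ u ≠ z ∧ z * u = u * z ∧ TA Q u := by
  have f6 : ∀ {Q : Subgroup G} {z : G}, Ok2 Q z → ∀ u, z * u = u * z → u * u = 1 → TA Q u ∨ TB Q z u ∨
      ((∃ a ∈ Q, a * a = 1 ∧ a ≠ 1 ∧ a ≠ z ∧ u * a = a * u ∧ ∃ q ∈ Q, q * u * q⁻¹ * u⁻¹ = a) ∧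
        ∃ q ∈ Q, q * u * q⁻¹ * u⁻¹ = z) := fun h => h.dec false (by decide +kernel)
  have nb : ∀ {Q : Subgroup G} {z u : G}, Ok2 Q z → WC Q z → IsConj z u → u ≠ z → z * u = u * z → ¬ TB Q z u := by
    intro Q z u hQ wc hc h1 c
    obtain ⟨g, rfl⟩ := isConj_iff.1 hc
    exact notB hQ (hQ.conj g) c (fun h => h1 (wc _ h hc)) fun h => h1 (wc.of_isConj (IsConj.refl z) h).symm
  have u2 := sq_of_isConj hc hQ.zz
  rcases f6 hQ u c u2 with h | h | ⟨⟨a, ha, a2, a1, az, ua, q, -, e⟩, -⟩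
  · exact ⟨u, hc, h1, c, h⟩
  · exact absurd h (nb hQ wc hc h1 c)
  have e1 : q * u * q⁻¹ = a * u := mul_inv_eq_iff_eq_mul.1 e
  have hy : IsConj u (a * u) := e1 ▸ isConj_conj q u
  have c' : u * (a * u) = a * u * u := by rw [← mul_assoc, ua]
  have h2 : a * u ≠ u := fun h => a1 (mul_eq_right.1 h)
  obtain ⟨g, rfl⟩ := isConj_iff.1 hc
  rcases f6 (hQ.conj g) _ c' (sq_of_isConj hy u2) with h | h | ⟨-, p, -, e⟩
  · refine ⟨_, (hc.trans hy).trans (isConj_conj g⁻¹ _), fun h => h2 (by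
      calc _ = g * (g⁻¹ * (a * (g * z * g⁻¹)) * g⁻¹⁻¹) * g⁻¹ := by group
        _ = _ := by rw [h]), ?_,
      cj_inv_cj g Q ▸ h.conj g⁻¹⟩
    simpa [mul_assoc] using conj_comm g⁻¹ c'
  · exact absurd h (nb (hQ.conj g) (wc.conj g) hy h2 c')
  · refine absurd (wc a ha ((hc.trans hy).trans (isConj_iff.2 ⟨p, ?_⟩))) az
    rw [mul_inv_eq_iff_eq_mul.1 e, c', mul_assoc, u2, mul_one]

theorem not_isConj_mul (hQ : Ok2 Q z) (wc : WC Q z) (hc : IsConj z u) (h1 : u ≠ z) (c : z * u = u * z) (h : TA Q u) :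
    ¬ IsConj z (z * u) := by
  intro h2
  have f8 : ∀ u, z * u = u * z → u * u = 1 → u ∉ Q → TA Q u →
      (∃ d ∈ Q, u * d = d * u ∧ ¬ Eqv z d 1 ∧ ∃ e ∈ Q, u * e = e * u ∧ ¬ Eqv z e 1 ∧ d * e = e * d ∧ ¬ Eqv z (d * e) 1) ∧
      ∀ d ∈ Q, u * d = d * u → d * d = 1 ∧ ∃ q ∈ Q, Eqv z (q * u * q⁻¹ * u⁻¹) d := hQ.dec false (by decide +kernel)
  obtain ⟨⟨d, hd, ud, d1, e, he, ue, e1, de, de1⟩, h3⟩ := f8 u c (sq_of_isConj hc hQ.zz) (fun h => h1 (wc _ h hc)) h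
  obtain ⟨g, hg⟩ := isConj_iff.1 hc
  have hR : Ok2 (cj g Q) u := hg ▸ hQ.conj g
  have f3 : ∀ x, u * x = x * u → x * x ∈ cj g Q → ∀ v, u * v = v * u → v * v ∈ cj g Q → x * v = v * x →
      ∀ w, u * w = w * u → w * w ∈ cj g Q → x * w = w * x → v * w = w * v → x ∈ cj g Q ∨ v ∈ cj g Q ∨ w ∈ cj g Q ∨
        x * v ∈ cj g Q ∨ x * w ∈ cj g Q ∨ x * (v * w) ∈ cj g Q ∨ v * w ∈ cj g Q := hR.dec true (by decide +kernel)
  have k : ∀ w ∈ Q, u * w = w * u → w ∈ cj g Q → w = 1 := fun w hw uw hw' => by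
    obtain ⟨-, q, hq, e⟩ := h3 w hw uw
    refine mul_eq_right.1 ((wc.of_isConj ?_ (mul_mem hw' hR.es.z_mem)).trans hg)
    rcases e with e | e
    · exact mul_inv_eq_iff_eq_mul.1 e ▸ hc.trans (isConj_conj q u)
    · refine h2.trans (isConj_iff.2 ⟨q, ?_⟩)
      rw [← mul_assoc, ← hQ.es.z_comm q hq, mul_assoc z, mul_assoc z, mul_inv_eq_iff_eq_mul.1 e, mul_assoc,
        hQ.es.z_mul_z_mul]
  have k' : ∀ w ∈ Q, u * w = w * u → ¬ Eqv z w 1 → w ∉ cj g Q ∧ z * w ∉ cj g Q := fun w hw uw w1 =>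
    ⟨fun h => w1 (.inl (k w hw uw h)), fun h => w1 (.inr (by
      rw [mul_one, eq_inv_of_mul_eq_one_right (k _ (mul_mem hQ.es.z_mem hw) (Commute.mul_right c.symm uw).eq h),
        hQ.es.z_inv]))⟩
  have := f3 z c.symm (hQ.zz ▸ one_mem _) d ud ((h3 d hd ud).1 ▸ one_mem _) (hQ.es.z_comm d hd) e ue
    ((h3 e he ue).1 ▸ one_mem _) (hQ.es.z_comm e he) de
  have a1 := k' d hd ud d1
  have a2 := k' e he ue e1
  have a3 := k' _ (mul_mem hd he) (Commute.mul_right ud ue).eq de1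
  have a4 := mt (k z hQ.es.z_mem c.symm) hQ.es.z_ne
  tauto

/-- A second conjugate of `z` in `Q`. -/
structure CI (Q R : Subgroup G) (z a : G) : Prop where
  okQ : Ok2 Q z
  okR : Ok2 R a
  pair : ESPair Q R z a

theorem Ok2.ci [Finite G] (hQ : Ok2 Q z) {g : G} (h : g * z * g⁻¹ ∈ Q) (h1 : g * z * g⁻¹ ≠ z) :
    CI Q (cj g Q) z (g * z * g⁻¹) :=
  ⟨hQ, hQ.conj g, ESPair.of_width hQ.es hQ.lg (by rw [hQ.card]; norm_num) h h1⟩

namespace CI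

variable {a : G} (h : CI Q R z a)
include h

theorem symm : CI R Q a z := ⟨h.okR, h.okQ, h.pair.symm⟩

theorem not_eqv : ¬ Eqv z a 1 := by
  rintro (e | e)
  exacts [h.okR.es.z_ne e, h.pair.ne (by rw [e, mul_one])]

theorem sq {x : G} (hx : x ∈ Q) (hx' : x ∈ R) : x * x = 1 := h.pair.E_sq ⟨hx, hx'⟩

theorem w {r : G} (hr : r ∈ R) (hz : z * r = r * z) : W Q z a r :=
  ⟨.inl (conj_eq_of_comm (h.okR.es.z_comm r hr).symm), fun x hx xa => h.sq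
    (by simpa [mul_assoc] using Q.mul_mem hx (h.okQ.lg.norm r hz _ (Q.inv_mem hx)))
    (R.mul_mem (h.okR.lg.norm x xa.symm r hr) (R.inv_mem hr))⟩

/-- The intersection has order four. -/
theorem four (h4 : ∀ x ∈ Q, x ∈ R → Eqv z x 1 ∨ Eqv z x a) :
    ∃ r ∈ R, z * r = r * z ∧ ∃ s ∈ R, z * s = s * z ∧ r ∉ Q ∧ s ∉ Q ∧ r * s ∉ Q := by
  have f : ∀ b ∈ R, ∃ p ∈ R, b * p = p * b ∧ ∃ q ∈ R, b * q = q * b ∧ p * q ≠ q * p :=
    h.okR.dec true (by decide +kernel)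
  obtain ⟨p, hp, zp, q, hq, zq, e⟩ := f z h.pair.z_mem
  have k : ∀ x ∈ Q, x ∈ R → ∀ y ∈ R, z * y = y * z → x * y = y * x := fun x hx hx' y hy zy => by
    have := h.okR.es.z_comm y hy
    rcases h4 x hx hx' with (rfl | rfl) | (rfl | rfl)
    exacts [by simp, by simpa using zy, this, (Commute.mul_left zy this).eq]
  exact ⟨p, hp, zp, q, hq, zq, fun h1 => e (k p h1 hp q hq zq), fun h1 => e (k q h1 hq p hp zp).symm,
    fun h1 => e (by simpa [← mul_assoc] using k _ h1 (mul_mem hp hq) q hq zq)⟩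

theorem exists_inv (hR : Ok tP R a) : ∃ r ∈ R, z * r = r * z ∧ r * r = 1 ∧ r ∉ Q := by
  have f : ∀ b ∈ R, b * b = 1 → ∃ p ∈ R, b * p = p * b ∧ p * p = 1 ∧ ∃ q ∈ R, b * q = q * b ∧ q * q = 1 ∧ p * q ≠ q * p :=
    hR.dec true (by decide +kernel)
  obtain ⟨p, hp, zp, p2, q, hq, zq, q2, e⟩ := f z h.pair.z_mem h.okQ.zz
  by_cases h1 : p ∈ Q
  · exact ⟨q, hq, zq, q2, fun h2 => e (h.pair.E_comm ⟨h1, hp⟩ ⟨h2, hq⟩)⟩
  · exact ⟨p, hp, zp, p2, h1⟩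

end CI

end Cfsg.Agent.W2
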