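import Mathlib
import Cfsg.Agent.W2.A

/-!
Without a subgroup of index two, `C(z)/Q` does not contain a full Sylow 2-subgroup of the orthogonal group.
-/

set_option autoImplicit false
set_option synthInstance.maxSize 100000
set_option synthInstance.maxHeartbeats 1000000

namespace Cfsg.Agent.W2

open Cfsg.Agent.Spor Cfsg.Agent.Rec Cfsg.Agent.Inv.Fz Cfsg.Agent.NE Subgroup

variable {G : Type*} [Group G] {Q : Subgroup G} {z : G}

/-- `s` lies in no unipotent radical, in a strong sense. -/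
abbrev NB (Q : Subgroup G) (z s : G) : Prop :=
  ∀ a ∈ Q, a * a = 1 → ¬ Eqv z a 1 → ∃ x ∈ Q, x * a = a * x ∧ ¬ Let (x * s * x⁻¹ * s⁻¹) fun c => c * c = 1

theorem NB.conj {s : G} (h : NB Q z s) (g : G) : NB (cj g Q) (g * z * g⁻¹) (g * s * g⁻¹) := fun a ha a2 a1 => by
  obtain ⟨b, rfl⟩ : ∃ b, a = g * b * g⁻¹ := ⟨g⁻¹ * a * g, by group⟩
  obtain ⟨x, hx, xb, e⟩ := h b (conj_mem_cj.1 ha) (conj_eq_one.1 ((conj_mul' g b b).trans a2)) fun e => a1 (by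
    rcases e with rfl | rfl
    exacts [.inl (by simp), .inr (by simp)])
  refine ⟨_, conj_mem_cj.2 hx, conj_comm g xb, fun e' => e (conj_eq_one (g := g).1 ?_)⟩
  rw [let_iff] at e'
  rw [conj_mul']
  convert e' using 2 <;> group

theorem eqv_of_mem (hz : z * z = 1) {x y : G} (h : x * y⁻¹ ∈ zpowers z) : Eqv z x y :=
  ((mem_zpowers_iff_of_sq hz).1 h).imp mul_inv_eq_one.1 mul_inv_eq_iff_eq_mul.1

theorem Ok2.cw (F : Ok2 Q z) : ∀ r, z * r = r * z → r * r ∈ Q → r ∉ Q → ∀ m ∈ Q, m * m = z →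
    (∀ q ∈ Q, Let (q * r * q⁻¹ * r⁻¹) fun c => Eqv z c 1 ∨ Eqv z c m) →
    ∃ q ∈ Q, ∀ x ∈ Q, x * m = m * x → r * q * x = x * (r * q) := F.dec false (by decide +kernel)

theorem Ok2.c2 (F : Ok2 Q z) : ∀ w, z * w = w * z → w * w ∈ Q → w ∉ Q → ∀ m ∈ Q, m * m = z →
    (∀ x ∈ Q, x * m = m * x → w * x = x * w) → Eqv z (w * w) m ∧ ∀ m' ∈ Q, Eqv z m' m → m' * m' = z ∧ ∀ n ∈ Q, n * n = z →
      m * n = n * m → ¬ Eqv z m n → m' * n = n * m' ∧ ∃ p ∈ Q, p * n = n * p ∧ m' * (w⁻¹ * p * w) * p = 1 ∧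
        w * p * m' * (w * p)⁻¹ = z * m' ∧ NB Q z (w * p) := F.dec false (by decide +kernel)

theorem Ok2.exists_root (F : Ok2 Q z) {r s : G} (hr : z * r = r * z) (tr : TB Q z r) (nr : r ∉ Q) (hs : z * s = s * z)
    (ts : TB Q z s) (ns : s ∉ Q) (c : r * s * r⁻¹ * s⁻¹ ∈ Q) (rs : r * s ∉ Q) :
    ∃ y w : G, z * y = y * z ∧ y * y = 1 ∧ NB Q z y ∧ w * y = y * w ∧ w ^ 4 = z := by
  have f0 : ∀ r, z * r = r * z → r ∉ Q → ∀ m ∈ Q, m * m ≠ 1 →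
      (∀ q ∈ Q, Let (q * r * q⁻¹ * r⁻¹) fun c => Eqv z c 1 ∨ Eqv z c m) → (∀ q ∈ Q, r * q * (r * q) ∈ Q) ∧
      ∀ s, z * s = s * z → r * s * r⁻¹ * s⁻¹ ∈ Q → s ∉ Q → r * s ∉ Q → ∀ n ∈ Q, n * n ≠ 1 →
        (∀ q ∈ Q, Let (q * s * q⁻¹ * s⁻¹) fun c => Eqv z c 1 ∨ Eqv z c n) → m * n = n * m ∧ ¬ Eqv z m n ∧
        ∀ c ∈ Q, Eqv z c 1 ∨ Eqv z c n → Eqv z c⁻¹ 1 ∨ Eqv z c⁻¹ m → Eqv z c 1 := F.dec true (by decide +kernel)
  obtain ⟨m, hm, m2, tr⟩ := tr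
  obtain ⟨n, hn, n2, ts⟩ := ts
  obtain ⟨a1, a2⟩ := f0 r hr nr m hm m2 tr
  obtain ⟨mn, mn', a3⟩ := a2 s hs c ns rs n hn n2 ts
  have a4 := (f0 s hs ns n hn n2 ts).1
  replace m2 := (F.es.sq m hm).resolve_left m2
  replace n2 := (F.es.sq n hn).resolve_left n2
  obtain ⟨q, hq, h1⟩ := F.cw r hr (by simpa using a1 1 (one_mem _)) nr m hm m2 tr
  obtain ⟨q', hq', h2⟩ := F.cw s hs (by simpa using a4 1 (one_mem _)) ns n hn n2 ts
  have f1 : r * q * (s * q') * (r * q)⁻¹ * (s * q')⁻¹ ∈ Q := by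
    have N := F.lg.norm
    rw [show r * q * (s * q') * (r * q)⁻¹ * (s * q')⁻¹ = r * q * r⁻¹ * (r * s * r⁻¹ * s⁻¹) *
      (s * (r * (q' * q⁻¹) * r⁻¹ * q'⁻¹) * s⁻¹) by group]
    exact mul_mem (mul_mem (N r hr q hq) c) (N s hs _ (mul_mem (N r hr _ (mul_mem hq' (inv_mem hq))) (inv_mem hq')))
  have z1 : z * (r * q) = r * q * z := (Commute.mul_right hr (F.es.z_comm q hq)).eq
  have z2 : z * (s * q') = s * q' * z := (Commute.mul_right hs (F.es.z_comm q' hq')).eq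
  obtain ⟨b1, b2⟩ := F.c2 _ z1 (a1 q hq) (mt (mul_mem_cancel_right hq).1 nr) m hm m2 h1
  obtain ⟨b3, b4⟩ := F.c2 _ z2 (a4 q' hq') (mt (mul_mem_cancel_right hq').1 ns) n hn n2 h2
  have h3 := a1 q hq
  have h4 := a4 q' hq'
  generalize r * q = w at *
  generalize s * q' = v at *
  obtain ⟨b5, b6⟩ := b2 _ h3 b1
  obtain ⟨b7, p, hp, pn, c2, c4, c5⟩ := b6 n hn n2 mn mn'
  have k : ∀ {w v n : G}, z * w = w * z → w * n = n * w → (∀ x ∈ Q, x * n = n * x → v * x = x * v) →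
      ∀ p ∈ Q, p * n = n * p → p * (w * v * w⁻¹ * v⁻¹) = w * v * w⁻¹ * v⁻¹ * p := by
    intro w v n zw wn h p hp pn
    have e := h _ (F.lg.norm' zw hp) (((Commute.inv_left wn).mul_left pn).mul_left wn).eq
    calc _ = w * (w⁻¹ * p * w * v) * w⁻¹ * v⁻¹ := by group
      _ = w * v * w⁻¹ * (p * v⁻¹) := by rw [← e]; group
      _ = _ := by rw [(Commute.inv_left (h p hp pn)).symm.eq]; group
  have c3 := a3 _ f1 (F.es.center_centralizer hn f1 (k z1 (h1 n hn mn.symm) h2))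
    (F.es.center_centralizer hm (inv_mem f1) (by simpa only [mul_inv_rev, inv_inv, mul_assoc] using k z2 (h2 m hm mn) h1))
  have c1 := h2 _ h3 b7
  have vp := h2 p hp pn
  have z3 : z * (w * p) = w * p * z := (Commute.mul_right z1 (F.es.z_comm p hp)).eq
  have v4 : v ^ 4 = z := by rw [← (b4 _ h4 b3).1]; simp only [pow_succ, pow_zero, one_mul, mul_assoc]
  rcases c3 with c3 | c3
  · exact ⟨_, v, z3, by rw [← c2]; group, c5,
      (Commute.mul_right (mul_inv_eq_iff_eq_mul.1 (mul_inv_eq_one.1 c3)).symm vp).eq, v4⟩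
  · refine ⟨_, v * (w * w), z3, by rw [← c2]; group, c5, ?_, ?_⟩
    · replace c3 : w * p * v = z * (v * (w * p)) := by
        rw [mul_assoc, ← vp, ← mul_assoc, ← mul_assoc, ← mul_assoc, ← mul_one z, ← c3]; group
      generalize w * p = y at *
      generalize w * w = m at *
      calc v * m * y = m * (z * (z * (v * y))) := by rw [F.es.z_mul_z_mul, c1, mul_assoc]
        _ = z * m * y * v := by rw [← c3, F.es.z_comm m h3]; group
        _ = _ := by rw [← c4, c1]; group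
    · rw [Commute.mul_pow c1, v4, show (4 : ℕ) = 2 + 2 from rfl, pow_add, sq, b5, F.zz, mul_one]

theorem Ok2.noC [Finite G] (hG : NoIdx G) (F : Ok2 Q z) {r s h : G} (hr : z * r = r * z) (tr : TB Q z r) (nr : r ∉ Q)
    (hs : z * s = s * z) (ts : TB Q z s) (ns : s ∉ Q) (c : r * s * r⁻¹ * s⁻¹ ∈ Q) (n : r * s ∉ Q) (hh : z * h = h * z)
    (h4 : h ^ 4 ∈ Q) (h2 : h * h ∉ Q) : False := by
  obtain ⟨y, w, zy, y2, nb, wy, w4⟩ := F.exists_root hr tr nr hs ts ns c n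
  obtain ⟨S, hS, hle⟩ := exists_isSylIn (H := centralizer {z}) (isPGroup_ext F.es.isPGroup (F.lg.mem_normalizer hh)
    (k := 4) ((pow_mul h 4 4).trans (F.lg.aes.pow_four h4)))
    (ext_le.2 ⟨fun q hq => mem_centralizer_singleton.2 (F.es.z_comm q hq), mem_centralizer_singleton.2 hh⟩)
  obtain ⟨hQ, hhS⟩ := ext_le.1 hle
  have cz : ∀ {x}, x ∈ S → z * x = x * z := fun hx => mem_centralizer_singleton.1 (hS.le hx)
  have p4 : ∀ {x}, x ∈ S → x ^ 4 ∈ Q := fun hx => F.pow_four hS.isPGroup hx (cz hx)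
  have hS' : IsSylIn 2 S ⊤ := isSylIn_of_center hS (hQ F.es.z_mem) F.es.z_ne fun x _ hc =>
    F.es.center x (F.lg.centralizer_le fun q hq => (hc q (hQ hq)).symm) fun q hq => hc q (hQ hq)
  obtain ⟨a, ha, a1, -, a3⟩ := exists_central_mod (N := zpowers z) (K := Q) hS.isPGroup
    (fun x hx => mem_normalizer_of_conj_mem fun y hy => by rwa [conj_eq_of_comm (comm_zpowers (cz hx).symm hy)]) hQ
    (fun x hx => F.lg.mem_normalizer (cz hx)) fun hle => by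
      obtain ⟨x, hx, y, hy, e⟩ := F.es.nonab
      exact e (comm_zpowers (F.es.z_comm x hx).symm (hle hy))
  have a1' : ¬ Eqv z a 1 := fun e => a1 ((mem_zpowers_iff_of_sq F.zz).2 (e.imp id fun e => by rw [e, mul_one]))
  have a4 : ∀ {x}, x ∈ S → Eqv z (x * a * x⁻¹) a := fun hx => eqv_of_mem F.zz (a3 _ hx)
  have f1 : ∀ h, z * h = h * z → h ^ 4 ∈ Q → h * h ∉ Q → ∀ a ∈ Q, Eqv z (h * a * h⁻¹) a → a * a = 1 :=
    F.dec true (by decide +kernel)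
  have f2 : ∀ a ∈ Q, a * a = 1 → ¬ Eqv z a 1 → W Q z a 1 ∧ ∀ x, z * x = x * z → Eqv z (x * a * x⁻¹) a →
      (x ^ 4 ∈ Q → ¬ W Q z a x → ∀ y, z * y = y * z → Eqv z (y * a * y⁻¹) a → y ^ 4 ∈ Q → (x * y) ^ 4 ∈ Q → ¬ W Q z a y →
        W Q z a (x * y)) ∧ (W Q z a x → (∀ b ∈ Q, b * b = 1 → ¬ Eqv z b 1 → Eqv z (x * b * x⁻¹) b → W Q z b x) ∧
          ∀ y, z * y = y * z → W Q z a y → W Q z a (x * y) ∧ x * y * x⁻¹ * y⁻¹ ∈ Q) := F.dec true (by decide +kernel)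
  have a2 := f1 h hh h4 h2 a ha (a4 hhS)
  obtain ⟨M, hM⟩ := exists_sub (P := fun x => z * x = x * z ∧ W Q z a x) ⟨by simp, (f2 a ha a2 a1').1⟩
    fun x y hx hy => ⟨(Commute.mul_right hx.1 hy.1).eq, ((((f2 a ha a2 a1').2 x hx.1 hx.2.1).2 hx.2).2 y hy.1 hy.2).1⟩
  obtain ⟨g, g1, g2, g3⟩ := hG.transfer2 (M := M) hS' (fun x hx y hy h1 h2 => (hM _).2 ⟨cz (mul_mem hx hy),
    ((f2 a ha a2 a1').2 x (cz hx) (a4 hx)).1 (p4 hx) (fun e => h1 ((hM x).2 ⟨cz hx, e⟩)) y (cz hy) (a4 hy) (p4 hy)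
      (p4 (mul_mem hx hy)) fun e => h2 ((hM y).2 ⟨cz hy, e⟩)⟩) y2 (C := zpowers w)
    (isPGroup_zpowers (k := 3) (by rw [show 2 ^ 3 = 4 + 4 by norm_num, pow_add, w4, F.zz]))
    fun c hc => (comm_zpowers wy.symm hc).symm
  obtain ⟨g4, g5⟩ := (hM _).1 g1
  have g6 : g * z * g⁻¹ ∈ Q := by rw [← w4, ← conj_pow]; exact p4 (g3 w (mem_zpowers w))
  have nb' := nb.conj g
  by_cases e : g * z * g⁻¹ = z
  · rw [e, F.cj_eq (comm_of_conj_eq e).symm] at nb'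
    obtain ⟨x, hx, xa, e⟩ := nb' a ha a2 a1'
    exact e (g5.2 x hx xa)
  have p := F.ci g6 e
  have yb := conj_comm g zy
  obtain ⟨x, hx, xz, e⟩ := nb' z p.pair.z_mem F.zz p.symm.not_eqv
  exact e (p.sq (((((f2 _ g6 p.okR.zz p.not_eqv).2 x xz.symm (p.w hx xz.symm).1).2 (p.w hx xz.symm)).2 _ g4
    ((((f2 a ha a2 a1').2 _ g4 g5.1).2 g5).1 _ g6 p.okR.zz p.not_eqv (.inl (conj_eq_of_comm yb.symm)))).2)
    (by simpa only [mul_assoc] using mul_mem hx (p.okR.lg.norm _ yb _ (inv_mem hx))))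

end Cfsg.Agent.W2
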