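import Mathlib
import Cfsg.Agent.W2.C
import Cfsg.Agent.Rec.J23.Final

/-!
The extraspecial group of minus type.
-/

set_option autoImplicit false
set_option synthInstance.maxSize 100000
set_option synthInstance.maxHeartbeats 1000000

namespace Cfsg.Agent.W2

open Cfsg.Agent.Spor Cfsg.Agent.Rec Cfsg.Agent.Inv.Fz Cfsg.Agent.NE Subgroup

universe u

variable {G : Type u} [Group G] [Finite G] {Q : Subgroup G} {z : G}

/-- `z` is not isolated. -/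
def Nis (z : G) : Prop := ∃ u, IsConj z u ∧ u ≠ z ∧ z * u = u * z

omit [Finite G] in
theorem not_wc (h : ¬ WC Q z) : ∃ g : G, g * z * g⁻¹ ∈ Q ∧ g * z * g⁻¹ ≠ z := by
  simp only [WC, not_forall] at h
  obtain ⟨u, hu, hc, e⟩ := h
  obtain ⟨g, rfl⟩ := isConj_iff.1 hc
  exact ⟨g, hu, e⟩

omit [Finite G] in
theorem Ok.not_wc (F : Ok tM Q z) (hn : Nis z) : ¬ WC Q z := fun wc => by
  obtain ⟨u, h1, h2, h3⟩ := hn
  obtain ⟨u, h1, h2, h3, h4⟩ := existsA (.inr F) wc h1 h2 h3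
  exact h2 (wc u ((F.dec true (by decide +kernel) : ∀ u, z * u = u * z → TA Q u → u ∈ Q) u h3 h4) h1)

/-- The four letters. -/
def cM : List ℕ := [0x6a1ea4b16e19824388a0, 0x73d0952d8d188a439820, 0x691e61a8282b0ee58920, 0x73c851892831d8d5a820]

theorem Hy.minus (h : Hy Q z) (F : Ok tM Q z) (hn : Nis z) :
    ∃ (ε : ℕ → G) (a b c d : G), Fr tM Q z ε ∧ RHL z ε true cM cM [a, b, c, d] := by
  obtain ⟨g, g1, g2⟩ := not_wc (F.not_wc hn)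
  have p := h.ok.ci g1 g2
  generalize g * z * g⁻¹ = a at *
  have f0 : ∀ a ∈ Q, a * a = 1 → ¬ Eqv z a 1 → (∀ x ∈ Q, x * x = 1 → x * a = a * x → Eqv z x 1 ∨ Eqv z x a) ∧
      W Q z a 1 ∧ (∀ b ∈ Q, b * b = 1 → ¬ Eqv z b 1 → ¬ Eqv z b a → a * b ≠ b * a ∧ ∃ i ∈ Q, i * i ≠ 1 ∧ i * a = a * i ∧
        i * b = b * i ∧ ∃ j ∈ Q, j * j ≠ 1 ∧ j * a = a * j ∧ j * b = b * j ∧ i * j ≠ j * i) ∧
      ∀ x, z * x = x * z → W Q z a x → x ^ 4 ∈ Q ∧ (∀ y, z * y = y * z → W Q z a y → W Q z a (x * y) ∧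
        ∀ i ∈ Q, i * a = a * i → Eqv z (x * i * x⁻¹) i ∨ Eqv z (y * i * y⁻¹) i ∨ Eqv z (x * y * i * (x * y)⁻¹) i) ∧
        ∀ k, z * k = k * z → W Q z (k * a * k⁻¹) (k * x * k⁻¹) ∧ (Eqv z (k * a * k⁻¹) a → W Q z a (k * x * k⁻¹)) :=
    F.dec true (by decide +kernel)
  obtain ⟨f1, f2, f3, f4⟩ := f0 a g1 p.okR.zz p.not_eqv
  obtain ⟨r, hr, zr, s, hs, zs, r1, s1, rs⟩ := p.four fun x hx hx' => f1 x hx (p.sq hx hx') (p.okR.es.z_comm x hx').symm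
  have wr := p.w hr zr
  have ws := p.w hs zs
  obtain ⟨k, zk, hk⟩ : ∃ k, z * k = k * z ∧ ¬ Eqv z (k * a * k⁻¹) a := by
    by_contra! hk
    exact r1 (h.mem (P := fun x => z * x = x * z ∧ W Q z a x) ⟨by simp, f2⟩
      (fun x y hx hy => ⟨(Commute.mul_right hx.1 hy.1).eq, ((f4 x hx.1 hx.2).2.1 y hy.1 hy.2).1⟩) (fun _ hx => hx.1)
      (fun k zk x hx => ⟨((Commute.mul_right zk hx.1).mul_right (Commute.inv_right zk)).eq,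
        ((f4 x hx.1 hx.2).2.2 k zk).2 (hk k zk)⟩) (fun x hx => (f4 x hx.1 hx.2).1) ⟨zr, wr⟩)
  have b1 := h.ok.lg.norm k zk a g1
  have b2 := conj_sq (g := k) p.okR.zz
  have b3 : ¬ Eqv z (k * a * k⁻¹) 1 := fun e => p.not_eqv (by
    simpa [mul_assoc] using e.conj (Commute.inv_right zk).eq)
  obtain ⟨ab, i, hi, i2, ia, ib, j, hj, j2, ja, jb, ij⟩ := f3 _ b1 b2 b3 hk
  obtain ⟨ε, E, rfl, rfl, e4, e8⟩ := exists_fr tM_ok h.ok.lg h.ok.card hi hj g1 b1 ((h.ok.es.sq i hi).resolve_left i2)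
    ((h.ok.es.sq j hj).resolve_left j2) p.okR.zz b2 ij ab ia ja ib jb
  have key : ∀ a ∈ Q, a * a = 1 → ¬ Eqv z a 1 → ∀ r s, z * r = r * z → z * s = s * z → W Q z a r → W Q z a s → r ∉ Q →
      s ∉ Q → r * s ∉ Q → ∀ i ∈ Q, i * a = a * i → ∃ x, z * x = x * z ∧ W Q z a x ∧ x ∉ Q ∧ Eqv z (x * i * x⁻¹) i := by
    intro a ha a2 a1 r s zr zs wr ws r1 s1 rs i hi ia
    obtain ⟨h1, h2⟩ := ((f0 a ha a2 a1).2.2.2 r zr wr).2.1 s zs ws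
    rcases h2 i hi ia with e | e | e
    exacts [⟨r, zr, wr, r1, e⟩, ⟨s, zs, ws, s1, e⟩, ⟨r * s, (Commute.mul_right zr zs).eq, h1, rs, e⟩]
  have k1 := key a g1 p.okR.zz p.not_eqv r s zr zs wr ws r1 s1 rs
  have nq : ∀ {x}, x ∉ Q → k * x * k⁻¹ ∉ Q := fun hx e => hx (by simpa [mul_assoc] using h.ok.lg.norm' zk e)
  have k2 := key _ b1 b2 b3 _ _ ((Commute.mul_right zk zr).mul_right (Commute.inv_right zk)).eq
    ((Commute.mul_right zk zs).mul_right (Commute.inv_right zk)).eq ((f4 r zr wr).2.2 k zk).1 ((f4 s zs ws).2.2 k zk).1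
    (nq r1) (nq s1) (conj_mul' k r s ▸ nq rs)
  obtain ⟨x1, z1, h1⟩ := k1 _ hj ja
  obtain ⟨x2, z2, h2⟩ := k1 _ hi ia
  obtain ⟨x3, z3, h3⟩ := k2 _ hj jb
  obtain ⟨x4, z4, h4⟩ := k2 _ hi ib
  rw [← e8] at h3 h4
  rw [← e4] at h1 h2
  exact ⟨ε, x1, x2, x3, x4, E,
    .cons (E.rh_of true .nil _ _ (P := fun x => W Q z (ε 4) x ∧ x ∉ Q ∧ Eqv z (x * ε 2 * x⁻¹) (ε 2)) (by decide +kernel) z1 h1)
    (.cons (E.rh_of true .nil _ _ (P := fun x => W Q z (ε 4) x ∧ x ∉ Q ∧ Eqv z (x * ε 1 * x⁻¹) (ε 1)) (by decide +kernel) z2 h2)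
    (.cons (E.rh_of true .nil _ _ (P := fun x => W Q z (ε 8) x ∧ x ∉ Q ∧ Eqv z (x * ε 2 * x⁻¹) (ε 2)) (by decide +kernel) z3 h3)
    (.cons (E.rh_of true .nil _ _ (P := fun x => W Q z (ε 8) x ∧ x ∉ Q ∧ Eqv z (x * ε 1 * x⁻¹) (ε 1)) (by decide +kernel) z4 h4)
    .nil)))⟩

theorem Hy.minus_nofix (h : Hy Q z) (F : Ok tM Q z) (hn : Nis z) {v : G} (hv : v ∈ Q)
    (hf : ∀ x, z * x = x * z → Eqv z (x * v * x⁻¹) v) : Eqv z v 1 := by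
  obtain ⟨ε, a, b, c, d, E, r⟩ := h.minus F hn
  exact (E.dec true r (by decide +kernel) : ∀ v ∈ Q, Eqv z (a * v * a⁻¹) v → Eqv z (b * v * b⁻¹) v →
    Eqv z (c * v * c⁻¹) v → Eqv z v 1) v hv (hf a (r.nth 0).1) (hf b (r.nth 1).1) (hf c (r.nth 2).1)

/-- Words for the alternating group. -/
def wM : List (List ℕ) :=
  [[0, 3, 0, 3, 0], [0, 2, 0], [1, 3, 1], [2, 1, 2, 1], [2, 0, 3], [3, 1], [2, 0], [3, 0, 3, 0], [3, 1, 2], [0, 3, 1],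
  [3, 2, 1, 0], [1, 2, 0], [2, 1, 0, 3, 0], [], [2, 1, 3, 2, 0], [0, 3, 2, 1], [3], [1, 0, 2, 1], [2], [1, 0, 3, 0],
  [1, 3, 2, 0], [0, 3, 1, 0], [1, 2, 1, 0], [3, 2], [2, 1, 0, 3], [1], [3, 2, 0, 3], [0, 3, 0, 3], [0, 2, 1], [1, 3],
  [3, 1, 2, 0], [1, 3, 2], [2, 1, 0], [1, 2], [3, 2, 0], [0, 3, 0], [0], [3, 2, 1, 2], [3, 1, 0, 2], [0, 2], [1, 2, 1, 2],
  [1, 3, 0], [3, 1, 0], [2, 0, 3, 1], [0, 3, 2], [3, 2, 1], [1, 2, 1], [0, 3], [2, 1, 3, 2], [3, 0, 3, 2], [1, 0],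
  [2, 1, 3], [1, 0, 3, 2], [3, 0, 2], [1, 0, 2], [3, 0], [2, 1, 2], [3, 0, 3], [1, 0, 3], [2, 1]]

theorem Hy.minus_card (hG : NoIdx G) (h : Hy Q z) (F : Ok tM Q z) (hn : Nis z) :
    Nat.card (centralizer ({z} : Set G)) = 1920 := by
  obtain ⟨ε, a, b, c, d, E, r⟩ := h.minus F hn
  refine E.card_cent r wM (by decide +kernel) fun x hx => ?_
  obtain ⟨w, hw, e⟩ := E.red r wM 0x7b9ac398a45a92818820 0x7b9ac398a45a92818820 (by decide +kernel) hx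
  refine ⟨w, hw, e.resolve_right fun e => ?_⟩
  generalize evalW (nth 1 [a, b, c, d]) w * x = y at e
  have f : TB Q z y ∧ y ∉ Q ∧ TB Q z (d * a * y * (d * a)⁻¹) ∧ d * a * y * (d * a)⁻¹ ∉ Q ∧
      y * (d * a * y * (d * a)⁻¹) * y⁻¹ * (d * a * y * (d * a)⁻¹)⁻¹ ∈ Q ∧ y * (d * a * y * (d * a)⁻¹) ∉ Q ∧
      (b * c * a * y) ^ 4 ∈ Q ∧ b * c * a * y * (b * c * a * y) ∉ Q := E.dec true (.cons e r) (by decide +kernel)
  obtain ⟨f1, f2, f3, f4, f5, f6, f7, f8⟩ := f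
  have za : Commute z a := (r.nth 0).1
  have zb : Commute z b := (r.nth 1).1
  have zc : Commute z c := (r.nth 2).1
  have zd : Commute z d := (r.nth 3).1
  exact h.ok.noC hG e.1 f1 f2 (((zd.mul_right za).mul_right e.1).mul_right (zd.mul_right za).inv_right).eq f3 f4 f5 f6
    (((zb.mul_right zc).mul_right za).mul_right e.1).eq f7 f8

theorem Hy.minus_iso (hG : NoIdx G) (h : Hy Q z) (F : Ok tM Q z) (hn : Nis z) : Spor.IsoJ2 G ∨ Spor.IsoJ3 G := by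
  obtain ⟨g, g1, g2⟩ := not_wc (F.not_wc hn)
  obtain ⟨s, -⟩ := J23.exists_stH h.ok.es h.ok.card h.ok.lg.norm h.ok.lg.centralizer_le (h.minus_card hG F hn) g1 g2
  exact s.isoJ2_or_isoJ3

end Cfsg.Agent.W2
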