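import Mathlib
import Cfsg.Agent.W2.Minus

/-!
The extraspecial group of plus type: elements of order three.
-/

set_option autoImplicit false
set_option synthInstance.maxSize 100000
set_option synthInstance.maxHeartbeats 1000000

namespace Cfsg.Agent.W2

open Cfsg.Agent.Spor Cfsg.Agent.Rec Cfsg.Agent.Inv.Fz Cfsg.Agent.NE Subgroup

universe u

variable {G : Type u} [Group G] {Q : Subgroup G} {z : G}

theorem RHL.weak {τ : Ty} {ε : ℕ → G} (F : Fr τ Q z ε) {a a' : List ℕ} {d : List G} (h : RHL z ε false a a' d) :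
    RHL z ε true a a' d := by
  induction h with
  | nil => exact .nil
  | cons r _ ih => exact .cons (F.weak r) ih

theorem Ok2.three (F : Ok2 Q z) {h : G} (h3 : h ^ 3 ∈ Q) : (h ^ 4) ^ 3 = 1 := by
  rw [← pow_mul, mul_comm, pow_mul, F.lg.aes.pow_four h3]

theorem cm_pow {x : G} (h : z * x = x * z) (n : ℕ) : z * x ^ n = x ^ n * z := (Commute.pow_right h n).eq

theorem cm_mul {x y : G} (h : z * x = x * z) (h' : z * y = y * z) : z * (x * y) = x * y * z := (Commute.mul_right h h').eq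

theorem cm_inv {x : G} (h : z * x = x * z) : z * x⁻¹ = x⁻¹ * z := (Commute.inv_right h).eq

theorem cm_conj {x y : G} (h : z * x = x * z) (h' : z * y = y * z) : z * (x * y * x⁻¹) = x * y * x⁻¹ * z :=
  cm_mul (cm_mul h h') (cm_inv h)

/-- `h` fixes a vector. -/
abbrev FX (Q : Subgroup G) (z h : G) : Prop := ∃ v ∈ Q, ¬ Eqv z v 1 ∧ Eqv z (h * v * h⁻¹) v

/-- One of nine words. -/
abbrev Nine (x y : G) (P : G → Prop) : Prop :=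
  P 1 ∨ P x ∨ P x⁻¹ ∨ P y ∨ P y⁻¹ ∨ P (x * y) ∨ P (x * y⁻¹) ∨ P (x⁻¹ * y) ∨ P (x⁻¹ * y⁻¹)

theorem Nine.elim {x y : G} {P : G → Prop} (h : Nine x y P) : ∃ w ∈ clos [x, y], P w := by
  have hx : x ∈ clos [x, y] := mem_clos (by simp)
  have hy : y ∈ clos [x, y] := mem_clos (by simp)
  rcases h with h | h | h | h | h | h | h | h | h <;> refine ⟨_, ?_, h⟩ <;>
    simp only [mul_mem, inv_mem, one_mem, hx, hy]

/-- `v` lies on a fixed singular line. -/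
abbrev LN (ε : ℕ → G) (v : G) : Prop := v * (ε 1 * ε 4) = ε 1 * ε 4 * v ∧ v * (ε 2 * ε 8) = ε 2 * ε 8 * v

/-- `h` preserves the two families of singular lines. -/
abbrev Om (ε : ℕ → G) (h : G) : Prop :=
  (LN ε (h * (ε 1 * ε 4) * h⁻¹) ↔ LN ε (h * (ε 2 * ε 8) * h⁻¹)) ∧
    (LN ε (h * (ε 1 * ε 4) * h⁻¹) ↔ LN ε (h * (ε 1 * ε 4 * (ε 2 * ε 8)) * h⁻¹))

/-- Two commuting elements of order three. -/
structure Gm (Q : Subgroup G) (z : G) (ε : ℕ → G) (x y : G) : Prop where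
  fr : Fr tP Q z ε
  r : RHL z ε false [0x6bdcc4ad4829cc408c40, 0x398a47b9ac5a92818820] [0x735ec52568314e410460, 0x5a928398a47b9ac18820] [x, y]
  x3 : x ^ 3 = 1
  y3 : y ^ 3 = 1

theorem Ok.gm_of (F : Ok tP Q z) [Finite G] {x y i k : G} (b1 : z * x = x * z) (b3 : x ^ 3 = 1) (b2 : z * y = y * z)
    (b4 : y ^ 3 = 1) (hi : i ∈ Q) (hk : k ∈ Q) (h : i * i = z ∧ y * i = i * y ∧ Let (x * i * x⁻¹) fun j =>
      x * j * x⁻¹ = i * j ∧ i * j ≠ j * i ∧ y * j = j * y ∧ j * j = z ∧ k * k = z ∧ x * k = k * x ∧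
        Let (y * k * y⁻¹) fun l => y * l * y⁻¹ = k * l ∧ k * l ≠ l * k ∧ x * l = l * x ∧ l * l = z ∧ i * k = k * i ∧
          j * k = k * j ∧ i * l = l * i ∧ j * l = l * j) : ∃ ε, Gm Q z ε x y ∧ ε 1 = i ∧ ε 4 = k := by
  have F2 : Ok2 Q z := .inl F
  obtain ⟨c1, c2, c3, c4, c5, c6, d1, d2, d3, d4, d5, d6, e1, e2, e3, e4⟩ := h
  obtain ⟨ε, E, rfl, h2, rfl, h8⟩ := exists_fr tP_ok F2.lg F2.card hi (F2.lg.norm x b1 i hi) hk (F2.lg.norm y b2 k hk)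
    c1 c6 d1 d6 c4 d4 e1 e2 e3 e4
  rw [← h2] at c3 c5
  rw [← h8] at d3 d5
  exact ⟨ε, ⟨E, .cons (E.rh_of false .nil _ _ (P := fun x => x * ε 4 = ε 4 * x ∧ x * ε 8 = ε 8 * x ∧
      x * ε 1 * x⁻¹ = ε 2 ∧ x * ε 2 * x⁻¹ = ε 1 * ε 2) (by decide +kernel) b1 ⟨d2, d5, h2.symm, c3⟩)
    (.cons (E.rh_of false .nil _ _ (P := fun x => x * ε 1 = ε 1 * x ∧ x * ε 2 = ε 2 * x ∧
      x * ε 4 * x⁻¹ = ε 8 ∧ x * ε 8 * x⁻¹ = ε 4 * ε 8) (by decide +kernel) b2 ⟨c2, c5, h8.symm, d3⟩) .nil), b3, b4⟩,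
    rfl, rfl⟩

theorem Ok.exists_gm (F : Ok tP Q z) [Finite G] {x y : G} (hx : z * x = x * z) (x3 : x ^ 3 = 1) (hy : z * y = y * z) (y3 : y ^ 3 = 1)
    (h1 : x ∉ Q) (h2 : y ∉ Q) (h3 : x * y ∉ Q) (h4 : x⁻¹ * y ∉ Q) : ∃ ε x y, Gm Q z ε x y := by
  let P : G → G → Prop := fun x y => x ^ 3 ∈ Q ∧ y ^ 3 ∈ Q ∧ FX Q z (x ^ 4) ∧ FX Q z (y ^ 4) ∧ x ^ 4 ∉ Q ∧ y ^ 4 ∉ Q ∧
    x ^ 4 * y ^ 4 ∉ Q ∧ (x ^ 4)⁻¹ * y ^ 4 ∉ Q
  have f : ∀ x, z * x = x * z → x ^ 3 = 1 → x ∉ Q → ∀ y, z * y = y * z → y ^ 3 = 1 → y ∉ Q → x * y ∉ Q → x⁻¹ * y ∉ Q →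
      P x y ∨ P x (x * y) ∨ P x (x * y⁻¹) ∨ P y (x * y) ∨ P y (x * y⁻¹) ∨ P (x * y) (x * y⁻¹) := by
    simp only [P]
    exact F.dec true (by decide +kernel)
  have f2 : ∀ x, z * x = x * z → x ^ 3 = 1 → x ∉ Q → FX Q z x → ∀ y, z * y = y * z → y ^ 3 = 1 → y ∉ Q → FX Q z y →
      x * y ∉ Q → x⁻¹ * y ∉ Q → ∃ i ∈ Q, i * i = z ∧ y * i = i * y ∧ Let (x * i * x⁻¹) fun j => x * j * x⁻¹ = i * j ∧
        i * j ≠ j * i ∧ y * j = j * y ∧ j * j = z ∧ ∃ k ∈ Q, k * k = z ∧ x * k = k * x ∧ Let (y * k * y⁻¹) fun l =>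
          y * l * y⁻¹ = k * l ∧ k * l ≠ l * k ∧ x * l = l * x ∧ l * l = z ∧ i * k = k * i ∧ j * k = k * j ∧
            i * l = l * i ∧ j * l = l * j := F.dec false (by decide +kernel)
  have F2 : Ok2 Q z := .inl F
  have k : ∀ {x y}, z * x = x * z → z * y = y * z → P x y → ∃ ε x y, Gm Q z ε x y := by
    rintro x y hx hy ⟨a1, a2, a3, a4, a5, a6, a7, a8⟩
    have b1 := cm_pow hx 4
    have b2 := cm_pow hy 4
    have b3 := F2.three a1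
    have b4 := F2.three a2
    obtain ⟨i, hi, c1, c2, c3, c4, c5, c6, k, hk, d⟩ := f2 _ b1 b3 a5 a3 _ b2 b4 a6 a4 a7 a8
    obtain ⟨ε, h, -⟩ := F.gm_of b1 b3 b2 b4 hi hk ⟨c1, c2, c3, c4, c5, c6, d⟩
    exact ⟨ε, _, _, h⟩
  have a1 := cm_mul hx hy
  have a2 := cm_mul hx (cm_inv hy)
  rcases f x hx x3 h1 y hy y3 h2 h3 h4 with e | e | e | e | e | e
  exacts [k hx hy e, k hx a1 e, k hx a2 e, k hy a1 e, k hy a2 e, k a1 a2 e]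

variable [Finite G]

theorem Hy.exists_u (h : Hy Q z) (F : Ok tP Q z) (hn : Nis z) :
    ∃ u, z * u = u * z ∧ u * u = 1 ∧ u ∉ Q ∧ ¬ TB Q z u := by
  by_cases wc : WC Q z
  · obtain ⟨u, h1, h2, h3⟩ := hn
    obtain ⟨u, h1, h2, h3, h4⟩ := existsA h.ok wc h1 h2 h3
    have h5 : u ∉ Q := fun e => h2 (wc u e h1)
    exact ⟨u, h3, sq_of_isConj h1 h.ok.zz, h5,
      (F.dec true (by decide +kernel) : ∀ u, z * u = u * z → TA Q u → u ∉ Q → ¬ TB Q z u) u h3 h4 h5⟩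
  · obtain ⟨g, g1, g2⟩ := not_wc wc
    have p := h.ok.ci g1 g2
    obtain ⟨r, hr, h1, h2, h3⟩ := p.exists_inv (F.conj g)
    exact ⟨r, h1, h2, h3, (F.dec true (by decide +kernel) : ∀ a ∈ Q, a * a = 1 → ¬ Eqv z a 1 → ∀ r, z * r = r * z →
      W Q z a r → r ∉ Q → ¬ TB Q z r) _ g1 p.okR.zz p.not_eqv r h1 (p.w hr h1) h3⟩

theorem Hy.exists_x (h : Hy Q z) (F : Ok tP Q z) (hn : Nis z) : ∃ x, z * x = x * z ∧ x ^ 3 = 1 ∧ x ∉ Q := by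
  by_contra! hc
  obtain ⟨u, h1, -, h2, -⟩ := h.exists_u F hn
  have f : ∀ x, z * x = x * z → (x ^ 4) ^ 3 ∈ Q ∧ ((x ^ 4) ^ 4 ∈ Q → x ^ 4 ∈ Q) := F.dec true (by decide +kernel)
  exact h2 (h.mem (P := fun x => z * x = x * z) (by simp) (fun _ _ => cm_mul) (fun _ => id) (fun _ hg _ => cm_conj hg)
    (fun x hx => (f x hx).2 (hc _ (cm_pow (cm_pow hx 4) 4) (h.ok.three (f x hx).1))) h1)

namespace Gm

variable {ε : ℕ → G} {x y : G} (s : Gm Q z ε x y)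
include s

omit [Finite G] in
theorem ok : Ok tP Q z := ⟨ε, s.fr⟩

omit [Finite G] in
theorem ok2 : Ok2 Q z := .inl s.ok

omit [Finite G] in
theorem rb : RHL z ε true [0x6bdcc4ad4829cc408c40, 0x398a47b9ac5a92818820] [0x735ec52568314e410460, 0x5a928398a47b9ac18820]
    [x, y] := s.r.weak s.fr

omit [Finite G] in
theorem cm {w : G} (hw : w ∈ clos [x, y]) : z * w = w * z :=
  mem_centralizer_singleton.1 (clos_le (K := centralizer {z}).2 (by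
    simpa [mem_centralizer_singleton] using ⟨(s.r.nth 0).1, (s.r.nth 1).1⟩) hw)

theorem om (hG : NoIdx G) (hn : Nis z) {t : G} (ht : z * t = t * z) : Om ε t := by
  by_contra h
  have f1 : ∀ t, z * t = t * z → ¬ Om ε t → ∀ a ∈ Q, a * a = 1 → ¬ Eqv z a 1 →
      Nine x y fun w => Eqv z (w * t * a * (w * t)⁻¹) a ∧ ¬ Om ε (w * t) := s.fr.dec true s.rb (by decide +kernel)
  let C3 : G → G → Prop := fun r φ => TB Q z r ∧ r ∉ Q ∧ TB Q z (φ * r * φ⁻¹) ∧ φ * r * φ⁻¹ ∉ Q ∧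
    r * (φ * r * φ⁻¹) * r⁻¹ * (φ * r * φ⁻¹)⁻¹ ∈ Q ∧ r * (φ * r * φ⁻¹) ∉ Q ∧ (r * φ) ^ 4 ∈ Q ∧ r * φ * (r * φ) ∉ Q
  have f2 : ∀ φ, z * φ = φ * z → TA Q φ → φ ∉ Q → ∃ b ∈ Q, b * b = 1 ∧ ¬ Eqv z b 1 ∧ Eqv z (φ * b * φ⁻¹) b :=
    s.ok.dec true (by decide +kernel)
  have f3 : ∀ φ, z * φ = φ * z → TA Q φ → φ ∉ Q → ∀ b ∈ Q, b * b = 1 → ¬ Eqv z b 1 → Eqv z (φ * b * φ⁻¹) b →
      ∀ t, z * t = t * z → Eqv z (t * b * t⁻¹) b → ¬ Om ε t → C3 t φ ∨ C3 (t * φ) φ := by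
    simp only [C3]
    exact s.fr.dec true .nil (by decide +kernel)
  have f4 : ∀ a ∈ Q, a * a = 1 → ¬ Eqv z a 1 → ∀ t, z * t = t * z → (Eqv z (t * a * t⁻¹) a → ¬ Om ε t → ∀ q ∈ Q,
      ∀ d ∈ Q, d * d = 1 → d * a = a * d → q * t * d * (q * t)⁻¹ * d = d * (q * t * d * (q * t)⁻¹) → Eqv z d 1 ∨ Eqv z d a) ∧
      (W Q z a t → t ∉ Q → ∀ r, z * r = r * z → W Q z a r → r ∉ Q → t * r ∉ Q → TA Q t ∨ TA Q r) :=
    s.fr.dec true .nil (by decide +kernel)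
  obtain ⟨φ, h1, h2, h3⟩ : ∃ φ, z * φ = φ * z ∧ TA Q φ ∧ φ ∉ Q := by
    by_cases wc : WC Q z
    · obtain ⟨u, h1, h2, h3⟩ := hn
      obtain ⟨u, h1, h2, h3, h4⟩ := existsA s.ok2 wc h1 h2 h3
      exact ⟨u, h3, h4, fun e => h2 (wc u e h1)⟩
    obtain ⟨g, g1, g2⟩ := not_wc wc
    have p := s.ok2.ci g1 g2
    obtain ⟨w, hw, w1, w2⟩ := (f1 t ht h _ g1 p.okR.zz p.not_eqv).elim
    have w3 := cm_mul (s.cm hw) ht
    generalize w * t = t at w1 w2 w3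
    generalize g * z * g⁻¹ = a at *
    obtain ⟨q, hq, e⟩ : ∃ q ∈ Q, a * (q * t) = q * t * a := by
      rcases w1 with e | e
      · exact ⟨1, one_mem _, by simpa using (comm_of_conj_eq e).symm⟩
      · obtain ⟨q, hq, -, e'⟩ := p.pair.exists_q
        refine ⟨q, hq, (comm_of_conj_eq ?_).symm⟩
        rw [← conj_conj, e, conj_mul', e', conj_eq_of_comm (s.ok2.es.z_comm q hq).symm, s.ok2.es.z_mul_z_mul]
    obtain ⟨r, hr, zr, r', hr', zr', r1, r2, r3⟩ := p.four fun d hd hd' =>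
      (f4 a g1 p.okR.zz p.not_eqv t w3).1 w1 w2 q hq d hd (p.sq hd hd') (p.okR.es.z_comm d hd').symm
        (p.pair.E_comm ⟨s.ok2.lg.norm _ (cm_mul (s.ok2.es.z_comm q hq) w3) d hd, p.okR.lg.norm _ e d hd'⟩ ⟨hd, hd'⟩)
    rcases (f4 a g1 p.okR.zz p.not_eqv r zr).2 (p.w hr zr) r1 r' zr' (p.w hr' zr') r2 r3 with e | e
    exacts [⟨r, zr, e, r1⟩, ⟨r', zr', e, r2⟩]
  obtain ⟨b, hb, b2, b1, b3⟩ := f2 φ h1 h2 h3
  obtain ⟨w, hw, w1, w2⟩ := (f1 t ht h b hb b2 b1).elim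
  have w3 := cm_mul (s.cm hw) ht
  have k : ∀ r, z * r = r * z → ¬ C3 r φ := fun r hr ⟨c1, c2, c3, c4, c5, c6, c7, c8⟩ =>
    s.ok2.noC hG hr c1 c2 (cm_conj h1 hr) c3 c4 c5 c6 (cm_mul hr h1) c7 c8
  exact (f3 φ h1 h2 h3 b hb b2 b1 b3 _ w3 w1 w2).elim (k _ w3) (k _ (cm_mul w3 h1))

end Gm

end Cfsg.Agent.W2
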