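import Mathlib
import Cfsg.Agent.Rec.U43.Data
import Cfsg.Agent.Cl.SylTwoGL2
import Cfsg.Agent.Cl.GFSmall

/-!
A presentation of `GU₂(3)`.
-/

set_option autoImplicit false
set_option maxRecDepth 100000
set_option linter.unusedVariables false

namespace Cfsg.Agent.W2.U33

open Cfsg.Agent.Spor Cfsg.Agent.Rec Cfsg.Agent.Cl

universe u

def relN : List (List ℕ) :=
  [[0, 1],
   [1, 0],
   [2, 3],
   [3, 2],
   [2, 2, 2],
   [0, 2, 0, 2, 1, 2],
   [4, 5],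
   [5, 4],
   [4, 4, 4, 4],
   [4, 0, 5, 1],
   [1, 4, 4, 2, 5, 5, 0, 3],
   [4, 2, 5, 1, 2]]

noncomputable def tN_rels : LT :=
(.node (.node (.node (.node (.leaf [])
 (.leaf [nat_lit 0,nat_lit 2,nat_lit 0,nat_lit 2,nat_lit 1,nat_lit 2])
) (.node (.leaf [nat_lit 3,nat_lit 2])
 (.leaf [nat_lit 4,nat_lit 2,nat_lit 5,nat_lit 1,nat_lit 2])
)) (.node (.node (.leaf [nat_lit 1,nat_lit 0])
 (.leaf [nat_lit 4,nat_lit 0,nat_lit 5,nat_lit 1])
) (.leaf [nat_lit 5,nat_lit 4])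
)) (.node (.node (.node (.leaf [nat_lit 0,nat_lit 1])
 (.leaf [nat_lit 4,nat_lit 4,nat_lit 4,nat_lit 4])
) (.leaf [nat_lit 4,nat_lit 5])
) (.node (.node (.leaf [nat_lit 2,nat_lit 3])
 (.leaf [nat_lit 1,nat_lit 4,nat_lit 4,nat_lit 2,nat_lit 5,nat_lit 5,nat_lit 0,nat_lit 3])
) (.leaf [nat_lit 2,nat_lit 2,nat_lit 2])
)))
noncomputable def tN_hws : LT :=
(.leaf [])

noncomputable def tN_inv : ℕ → ℕ := getP (nat_lit 8) (nat_lit 255) (nat_lit 0x40502030001)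

noncomputable def tN_t : BT :=
(.node (.node (.node (.leaf (nat_lit 0x4146001a810188e000))
 (.leaf (nat_lit 0x8412400160204184021))
) (.node (.leaf (nat_lit 0x24166c81c890208e010))
 (.leaf (nat_lit 0x3ff007fe00ffc01ff8))
)) (.node (.node (.leaf (nat_lit 0x15688188001c8e008))
 (.leaf (nat_lit 0x1120026c001404052))
) (.node (.leaf (nat_lit 0x176001e800248e018))
 (.leaf (nat_lit 0x2042020a0041000000))
)))

noncomputable def tN_rules : LT :=
(.node (.node (.node (.leaf [nat_lit 10,nat_lit 2,nat_lit 1,nat_lit 0,nat_lit 5,nat_lit 0,nat_lit 4])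
 (.leaf [nat_lit 9,nat_lit 2,nat_lit 1,nat_lit 4,nat_lit 5,nat_lit 5,nat_lit 5])
) (.leaf [nat_lit 10,nat_lit 0,nat_lit 1,nat_lit 1,nat_lit 4,nat_lit 1,nat_lit 5])
) (.node (.leaf [nat_lit 12,nat_lit 3,nat_lit 1,nat_lit 2,nat_lit 5,nat_lit 3,nat_lit 0,nat_lit 4])
 (.leaf [nat_lit 12,nat_lit 0,nat_lit 1,nat_lit 2,nat_lit 0,nat_lit 4,nat_lit 3,nat_lit 5])
))

noncomputable def tN_subs : LT :=
(.leaf [nat_lit 0,nat_lit 0,nat_lit 0,nat_lit 6])


noncomputable def tN : TC :=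
  ⟨fun x c => Nat.shiftRight (BT.get tN_t x) (Nat.mul (nat_lit 19) c),
  (nat_lit 3), (nat_lit 7), (nat_lit 8191), (nat_lit 13), (nat_lit 63), (nat_lit 8184), (nat_lit 4), (nat_lit 4), (nat_lit 6), (nat_lit 4), (nat_lit 6), (nat_lit 7), tN_inv, tN_rules, tN_subs⟩

theorem tN_c1 : tN.rules.all (ruleOK tN.m tN.inv tN_rels) = true := by decide +kernel
theorem tN_c2 : tN.subs.all (subOK tN.m tN.inv tN_hws) = true := by decide +kernel
theorem tN_c3 : tN.base = true := by decide +kernel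

theorem tN_s0 : tN.slots (nat_lit 0) (nat_lit 4) = true := by decide +kernel

theorem tN_c4 : tN.Upto tN.N := ((TC.upto_zero tN).step _ tN_s0)
theorem tN_c5 : tN.UptoE tN.N := (TC.uptoE_n tN)
theorem tN_bound {G : Type*} [Group G] {g : ℕ → G} {H : Subgroup G} (hinv : ∀ x < 6, g x * g (tN_inv x) = 1)
    (hrels : ∀ i, evalW g (tN_rels.get i) = 1) (hH : ∀ x < 4, g x ∈ H) (hhws : ∀ i, evalW g (tN_hws.get i) ∈ H) :
    H.relIndex (genLt g 6) ≠ 0 ∧ H.relIndex (genLt g 6) ≤ 4 :=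
  TC.relIndex_le (T := tN) hinv hrels hH hhws tN_c1 tN_c2 tN_c3 tN_c4 tN_c5

theorem tN_bd : Bound.{u} relN 4 6 4 := fun _ _ _ _ hs hH =>
  tN_bound (hs.hinv (by decide +kernel)) (hs.tree (by decide +kernel)) hH (leaf_nil_mem' _ _ (by decide +kernel))

theorem presN : Pres.{u} relN 6 96 := U43.presS.step tN_bd (by decide +kernel)

/-- The element with a given code. -/
def c (n : ℕ) : GF9 := TF.ofCode gf9 n

theorem uf : UField (uConj (q := 3) card_GF9) 3 := uField_uConj _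

/-- A unitary matrix. -/
def mk (A B : Matrix (Fin 2) (Fin 2) GF9) (h : (A * B = 1 ∧ B * A = 1) ∧ A.transpose * A.map (· ^ 3) = 1) : GU 2 GF9 3 :=
  ⟨⟨A, B, h.1.1, h.1.2⟩, (uf.mem_GU_iff _).2 (by rw [funext (uConj_apply (q := 3) card_GF9)]; exact h.2)⟩

/-- The generators. -/
def gens : List (GU 2 GF9 3) :=
  [mk !![c 8, 0; 0, c 4] !![c 4, 0; 0, c 8] (by decide +kernel), mk !![c 4, 0; 0, c 8] !![c 8, 0; 0, c 4] (by decide +kernel),
    mk !![c 6, c 3; c 5, c 5] !![c 5, c 6; c 7, c 6] (by decide +kernel),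
    mk !![c 5, c 6; c 7, c 6] !![c 6, c 3; c 5, c 5] (by decide +kernel),
    mk !![1, 0; 0, c 4] !![1, 0; 0, c 8] (by decide +kernel), mk !![1, 0; 0, c 8] !![1, 0; 0, c 4] (by decide +kernel)]

theorem gens_sat : Sat relN gens := fun w hw => Subtype.ext (Units.ext
  ((by decide +kernel : ∀ w ∈ relN, (evalW (nth 1 gens) w).1.1 = 1) w hw))

theorem gens_sq : nth 1 gens 0 * nth 1 gens 0 ≠ 1 := fun e =>
  (by decide +kernel : (nth 1 gens 0 * nth 1 gens 0).1.1 ≠ 1) (by rw [e]; rfl)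

theorem iso {G : Type u} [Group G] {e : List G} (hl : e.length = 6) (hs : Sat relN e) (hc : Nat.card (clos e) = 96)
    (hK : ∀ K ≤ clos e, (∀ g ∈ clos e, ∀ k ∈ K, g * k * g⁻¹ ∈ K) → K ≠ ⊥ → nth 1 e 0 * nth 1 e 0 ∈ K) :
    Nonempty (clos e ≃* GU 2 GF9 3) := by
  obtain ⟨ψ, h1, -⟩ := presN.hom hs gens_sat hl rfl hc
  have hF : Finite (clos e) := Nat.finite_of_card_ne_zero (by rw [hc]; norm_num)
  refine ⟨MulEquiv.ofBijective ψ ((Nat.bijective_iff_injective_and_card ψ).2 ⟨?_, hc.trans (S2.card_gu_two uf).symm⟩)⟩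
  rw [← MonoidHom.ker_eq_bot_iff, ← Subgroup.map_eq_bot_iff_of_injective _ (clos e).subtype_injective]
  by_contra h
  obtain ⟨v, h2, h3⟩ := hK _ (Subgroup.map_subtype_le _) (by
    rintro g hg _ ⟨k, hk, rfl⟩
    exact ⟨_, ψ.normal_ker.conj_mem k hk ⟨g, hg⟩, rfl⟩) h
  refine gens_sq ?_
  rw [← h1, ← map_mul]
  exact (congrArg ψ (Subtype.ext h3.symm)).trans h2

end Cfsg.Agent.W2.U33
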